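import Groth.Agent.Sga1.QuotBasic
import Mathlib.Algebra.Category.Ring.Under.Basic
import Mathlib.RingTheory.IsTensorProduct
import Mathlib.AlgebraicGeometry.Morphisms.Flat
import Mathlib.AlgebraicGeometry.Morphisms.Finite

/-!
# Quotients by finite groups of invertible order commute with arbitrary base change, and products
-/

set_option autoImplicit false
set_option linter.style.haveILetI false
universe u

open CategoryTheory CategoryTheory.Limits AlgebraicGeometry

namespace K928.QuotTame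

open Groth.Agent.Sga1.QuotBasic

/-- Invariants of a finite group of invertible order commute with base change. -/
theorem bijective_invariants_of_isPushout {A B A' B' : CommRingCat.{u}} {φ : A ⟶ B} {φ' : A' ⟶ B'}
    {i : A ⟶ A'} {j : B ⟶ B'} (hp : IsPushout i φ φ' j) {G : Type*} [Group G] [Fintype G]
    (σ : G → B →+* B) (hmul : ∀ g h b, σ (g * h) b = σ h (σ g b)) (hσ : ∀ g a, σ g (φ a) = φ a)
    (σ' : G → B' →+* B') (compat : ∀ g b, σ' g (j b) = j (σ g b))
    (hσ' : ∀ g a, σ' g (φ' a) = φ' a) (hN : IsUnit ((Fintype.card G : ℕ) : A))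
    (hinj : Function.Injective φ) (hinv : ∀ b, (∀ g, σ g b = b) → b ∈ Set.range φ) :
    Function.Injective φ' ∧ ∀ b', (∀ g, σ' g b' = b') → b' ∈ Set.range φ' := by
  classical
  algebraize [i.hom, φ.hom, φ'.hom, j.hom, φ'.hom.comp i.hom]
  have hst : IsScalarTower A B B' := by
    refine .of_algebraMap_eq fun r => ?_
    exact congrArg (fun f : A ⟶ B' => f.hom r) hp.w
  have hpush : Algebra.IsPushout A A' B B' := CommRingCat.isPushout_iff_isPushout.1 hp
  obtain ⟨c, hc⟩ := hN.exists_right_inv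
  -- the trace
  have htr : ∀ b : B, ∃ a : A, φ a = ∑ g, σ g b := by
    intro b
    obtain ⟨a, ha⟩ := hinv (∑ g, σ g b) (fun h => by
      rw [map_sum]
      refine Fintype.sum_equiv (Equiv.mulRight h) _ _ (fun g => ?_)
      rw [Equiv.coe_mulRight, hmul])
    exact ⟨a, ha⟩
  choose tr htr using htr
  have hφalg : ∀ a : A, algebraMap A B a = φ a := fun _ => rfl
  let T : B →ₗ[A] A :=
    { toFun := fun b => tr b
      map_add' := fun x y => by
        apply hinj
        rw [map_add, htr, htr, htr, ← Finset.sum_add_distrib]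
        exact Finset.sum_congr rfl fun g _ => map_add _ _ _
      map_smul' := fun r x => by
        apply hinj
        rw [RingHom.id_apply, smul_eq_mul, map_mul, htr, htr, Finset.mul_sum]
        refine Finset.sum_congr rfl fun g _ => ?_
        rw [Algebra.smul_def, map_mul, hφalg, hσ] }
  have hT : ∀ b, φ (T b) = ∑ g, σ g b := htr
  have hTφ : ∀ a, T (φ a) = (Fintype.card G : ℕ) * a := by
    intro a
    apply hinj
    rw [hT]
    simp only [hσ]
    rw [Finset.sum_const, Finset.card_univ, nsmul_eq_mul, map_mul, map_natCast]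
  let e : TensorProduct A A' B ≃ₐ[A'] B' := Algebra.IsPushout.equiv A A' B B'
  have he : ∀ (a' : A') (b : B), e (a' ⊗ₜ b) = φ' a' * j b := by
    intro a' b
    have h1 := Algebra.IsPushout.equiv_tmul A A' B B' a' b
    rw [h1]
    rfl
  let T' : TensorProduct A A' B →ₗ[A] A' :=
    TensorProduct.lift ((LinearMap.lsmul A A').flip.compr₂ (LinearMap.id) |>.compl₂ T)
  have hT' : ∀ (a' : A') (b : B), T' (a' ⊗ₜ b) = i (T b) * a' := by
    intro a' b
    simp only [T', TensorProduct.lift.tmul, LinearMap.compl₂_apply, LinearMap.compr₂_apply,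
      LinearMap.flip_apply, LinearMap.lsmul_apply, LinearMap.id_apply]
    rw [Algebra.smul_def]
    rfl
  constructor
  · intro x y hxy
    have h1 : ∀ a', T' (a' ⊗ₜ[A] (1 : B)) = i (Fintype.card G : ℕ) * a' := by
      intro a'
      rw [hT']
      have := hTφ 1
      rw [map_one, mul_one] at this
      rw [this]
    have h2 : (x ⊗ₜ[A] (1 : B)) = (y ⊗ₜ[A] (1 : B)) := by
      apply e.injective
      rw [he, he, hxy]
    have h3 := congrArg T' h2
    rw [h1, h1] at h3
    have h4 := congrArg (fun z => i c * z) h3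
    simp only [← mul_assoc, ← map_mul] at h4
    rw [mul_comm c, hc, map_one, one_mul, one_mul] at h4
    exact h4
  · intro b' hb'
    have key : ∀ t : TensorProduct A A' B, ∃ a', φ' a' = ∑ g, σ' g (e t) := by
      intro t
      induction t with
      | zero => exact ⟨0, by simp⟩
      | add x y hx hy =>
        obtain ⟨a, ha⟩ := hx
        obtain ⟨b, hb⟩ := hy
        refine ⟨a + b, ?_⟩
        rw [map_add, ha, hb, ← Finset.sum_add_distrib]
        exact Finset.sum_congr rfl fun g _ => by rw [map_add, map_add]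
      | tmul a' b =>
        refine ⟨a' * i (T b), ?_⟩
        rw [he]
        simp only [map_mul, hσ', compat]
        rw [← Finset.mul_sum, ← map_sum, ← hT]
        congr 1
        exact congrArg (fun f : A ⟶ B' => f.hom (T b)) hp.w
    obtain ⟨a', ha'⟩ := key (e.symm b')
    rw [AlgEquiv.apply_symm_apply] at ha'
    simp only [hb'] at ha'
    rw [Finset.sum_const, Finset.card_univ, nsmul_eq_mul] at ha'
    refine ⟨i c * a', ?_⟩
    rw [map_mul, ha', ← mul_assoc]
    have h5 : φ' (i c) * ((Fintype.card G : ℕ) : B') = 1 := by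
      rw [← map_natCast φ'.hom, ← map_natCast i.hom, ← map_mul, ← map_mul, mul_comm c, hc, map_one,
        map_one]
    rw [h5, one_mul]

section Affine

variable {V U V' U' : Scheme.{u}}

/-- sections of an affine morphism over affine opens: pushout. -/
theorem isPushout_appLE {g' : V' ⟶ V} {h' : V' ⟶ U'} {h : V ⟶ U} {g : U' ⟶ U}
    (sq : IsPullback g' h' h g) [IsAffineHom h] {W : U.Opens} {W' : U'.Opens}
    (hW : IsAffineOpen W) (hW' : IsAffineOpen W') (e : W' ≤ g ⁻¹ᵁ W)
    (e' : h' ⁻¹ᵁ W' ≤ g' ⁻¹ᵁ (h ⁻¹ᵁ W)) :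
    IsPushout (g.appLE W W' e) (h.app W) (h'.app W')
      (g'.appLE (h ⁻¹ᵁ W) (h' ⁻¹ᵁ W') e') := by
  have hUY : h' ⁻¹ᵁ W' = g' ⁻¹ᵁ (h ⁻¹ᵁ W) ⊓ h' ⁻¹ᵁ W' := (inf_eq_right.2 e').symm
  have h1 := isIso_pushoutSection_of_isAffineOpen sq (US := W) (UT := W') (UX := h ⁻¹ᵁ W) e le_rfl
    hUY hW hW' (hW.preimage h)
  have h2 := ((isIso_pushoutSection_iff ..).1 h1).flip
  rw [Scheme.Hom.appLE_eq_app, Scheme.Hom.appLE_eq_app] at h2
  exact h2

theorem preimage_le' {g' : V' ⟶ V} {h' : V' ⟶ U'} {h : V ⟶ U} {g : U' ⟶ U}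
    (w : g' ≫ h = h' ≫ g) {W : U.Opens} {W' : U'.Opens} (e : W' ≤ g ⁻¹ᵁ W) :
    h' ⁻¹ᵁ W' ≤ g' ⁻¹ᵁ (h ⁻¹ᵁ W) := by
  rw [← Scheme.Hom.comp_preimage, w, Scheme.Hom.comp_preimage]
  exact h'.preimage_mono e

end Affine

variable {X Y X' Y' : Scheme.{u}} {G : Type u} [Group G] [Finite G]

/-- Quotients by groups of invertible order commute with base change. -/
theorem isQuot_baseChange {ρ : G →* Aut X} {p : X ⟶ Y} (hp : SGA1.IsQuot ρ p)
    {b' : X' ⟶ X} {p' : X' ⟶ Y'} {b : Y' ⟶ Y} (sq : IsPullback b' p' p b) (ρ' : G →* Aut X')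
    (h1 : ∀ g, (ρ' g).hom ≫ b' = b' ≫ (ρ g).hom) (h2 : ∀ g, (ρ' g).hom ≫ p' = p')
    (hN : IsUnit ((Nat.card G : ℕ) : Γ(Y, ⊤))) : SGA1.IsQuot ρ' p' := by
  have := Fintype.ofFinite G
  have haff : IsAffineHom p := hp.affine
  have haff' : IsAffineHom p' := MorphismProperty.of_isPullback sq haff
  refine isQuot_of_affine_cover h2 (fun y' => ?_)
  obtain ⟨V, hV, hyV⟩ := exists_affine_mem (b y')
  obtain ⟨V', hV', hyV', hle⟩ : ∃ V' : Y'.Opens, IsAffineOpen V' ∧ y' ∈ V' ∧ V' ≤ b ⁻¹ᵁ V := by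
    obtain ⟨W, hW, hyW⟩ := exists_affine_mem y'
    obtain ⟨f, hf, hyf⟩ := hW.exists_basicOpen_le ⟨y', (show y' ∈ b ⁻¹ᵁ V from hyV)⟩ hyW
    exact ⟨Y'.basicOpen f, hW.basicOpen f, hyf, hf⟩
  refine ⟨V', hyV', hV', ?_⟩
  have hpo := isPushout_appLE sq hV hV' hle (preimage_le' sq.w hle)
  have hq := quotOn_of_isQuot hp V
  have hNV : IsUnit ((Fintype.card G : ℕ) : Γ(Y, V)) := by
    have h3 := hN.map (Y.presheaf.map (homOfLE (le_top : V ≤ ⊤)).op).hom
    rwa [map_natCast, Nat.card_eq_fintype_card] at h3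
  have key := bijective_invariants_of_isPushout hpo
    (fun g => (act ρ (stable_preimage hp.inv V) g).hom)
    (fun g h b => act_mul_apply _ g h b)
    (fun g a => act_app_apply hp.inv V g a)
    (fun g => (act ρ' (stable_preimage h2 V') g).hom)
    (fun g b => by
      have h4 : b'.appLE (p ⁻¹ᵁ V) (p' ⁻¹ᵁ V') (preimage_le' sq.w hle) ≫
          act ρ' (stable_preimage h2 V') g = act ρ (stable_preimage hp.inv V) g ≫
          b'.appLE (p ⁻¹ᵁ V) (p' ⁻¹ᵁ V') (preimage_le' sq.w hle) := by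
        unfold act
        rw [Scheme.Hom.appLE_comp_appLE, Scheme.Hom.appLE_comp_appLE, appLE_congr_hom (h1 g)]
      exact congrArg (fun f => f.hom b) h4)
    (fun g a => act_app_apply h2 V' g a) hNV hq.injective hq.surj
  exact ⟨key.1, key.2⟩

end K928.QuotTame
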