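import Groth.Agent.RelQuot.K928.K0Calc
import Mathlib.FieldTheory.IsAlgClosed.Basic

/-!
# Zariski locally trivial fibrations
-/

set_option autoImplicit false
universe u

open CategoryTheory CategoryTheory.Limits AlgebraicGeometry TopologicalSpace

namespace K928.Fibration

open K928.K0Calc

variable {S : Scheme.{u}}

theorem cl_fibration {X Y F : Scheme.{u}} [NoetherianSpace Y]
    (pY : Y ⟶ S) [LocallyOfFiniteType pY] [QuasiCompact pY]
    (pF : F ⟶ S) [LocallyOfFiniteType pF] [QuasiCompact pF]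
    (f : X ⟶ Y) [LocallyOfFiniteType f] [QuasiCompact f]
    (hf : ∀ y : Y, ∃ (U : Y.Opens) (e : (f ⁻¹ᵁ U).toScheme ≅ pullback (U.ι ≫ pY) pF),
      y ∈ U ∧ e.hom ≫ pullback.fst (U.ι ≫ pY) pF = f ∣_ U) :
    K0Var.cl (f ≫ pY) = K0Var.cl pY * K0Var.cl pF := by
  have hA : IsAdd (fun T (t : T ⟶ Y) => relCl f pY t) := isAdd_relCl f pY
  have hB : IsAdd (fun T (t : T ⟶ Y) => relCl (𝟙 Y) pY t * K0Var.cl pF) :=
    (isAdd_relCl (𝟙 Y) pY).mul_const _
  have key := hA.ext hB (fun Z i _ _ => by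
    let z : Z := genericPoint Z
    obtain ⟨U, e, hU, he⟩ := hf (i z)
    refine ⟨i ⁻¹ᵁ U, ⟨z, hU⟩, fun U' hU' => ?_⟩
    change relCl f pY (U'.ι ≫ i) = relCl (𝟙 Y) pY (U'.ι ≫ i) * K0Var.cl pF
    have : NoetherianSpace Z := noetherian_of_isClosedImmersion i
    have : NoetherianSpace U' := U'.ι.isOpenEmbedding.isInducing.noetherianSpace
    let t : U'.toScheme ⟶ Y := U'.ι ≫ i
    -- factor through `U`
    let m : U'.toScheme ⟶ U.toScheme := IsOpenImmersion.lift U.ι t (by
      rw [Scheme.Opens.range_ι]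
      rintro _ ⟨x, rfl⟩
      exact hU' x.2)
    have hm : m ≫ U.ι = t := IsOpenImmersion.lift_fac _ _ _
    have h1 : IsPullback (pullback.fst f t) (pullback.snd f t) f t := IsPullback.of_hasPullback _ _
    have h2 : IsPullback (f ⁻¹ᵁ U).ι (f ∣_ U) f U.ι := (isPullback_morphismRestrict f U).flip
    -- lift to the preimage
    let a' : pullback f t ⟶ (f ⁻¹ᵁ U).toScheme := h2.lift (pullback.fst f t) (pullback.snd f t ≫ m)
      (by rw [Category.assoc, hm]; exact pullback.condition)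
    have ha1 : a' ≫ (f ⁻¹ᵁ U).ι = pullback.fst f t := h2.lift_fst _ _ _
    have ha2 : a' ≫ f ∣_ U = pullback.snd f t ≫ m := h2.lift_snd _ _ _
    have h3 : IsPullback a' (pullback.snd f t) (f ∣_ U) m := by
      refine IsPullback.of_right (h₁₂ := (f ⁻¹ᵁ U).ι) (h₂₂ := U.ι) (v₁₃ := f) ?_ ha2 h2
      rw [ha1, hm]
      exact h1
    have h4 : IsPullback (a' ≫ e.hom) (pullback.snd f t) (pullback.fst (U.ι ≫ pY) pF) m :=
      h3.of_iso (Iso.refl _) e (Iso.refl _) (Iso.refl _) (by simp) (by simp) (by simp [he]) (by simp)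
    have h5 : IsPullback ((a' ≫ e.hom) ≫ pullback.snd (U.ι ≫ pY) pF) (pullback.snd f t) pF
        (m ≫ U.ι ≫ pY) :=
      h4.paste_horiz (IsPullback.of_hasPullback (U.ι ≫ pY) pF).flip
    have hq : m ≫ U.ι ≫ pY = t ≫ pY := by rw [← Category.assoc, hm]
    rw [hq] at h5
    rw [relCl_self pY (U'.ι ≫ i), ← cl_eq_mul_of_isPullback h5]
    exact relCl_eq_of_isPullback f pY h1 _ rfl) (𝟙 Y)
  change relCl f pY (𝟙 Y) = relCl (𝟙 Y) pY (𝟙 Y) * K0Var.cl pF at key
  rw [relCl_id, relCl_id] at key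
  rw [key]
  congr 1

/-- schemes of finite type over a field are Noetherian spaces. -/
theorem noetherianSpace_of_field {k : Type u} [Field k] {Y : Scheme.{u}}
    (pY : Y ⟶ Spec (CommRingCat.of k)) [LocallyOfFiniteType pY] [QuasiCompact pY] :
    NoetherianSpace Y := by
  have h1 : IsLocallyNoetherian Y := LocallyOfFiniteType.isLocallyNoetherian pY
  have h2 : CompactSpace Y := QuasiCompact.compactSpace_of_compactSpace pY
  have : IsNoetherian Y := {}
  infer_instance

end K928.Fibration
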