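import Groth.Agent.RelQuot.K928.Pts
import Groth.Agent.Mor.K383.FinAff
import Groth.Agent.Ega3B.ProjProper
import Groth.Agent.Fga.FSGeo
import Groth.Prelude.Def_SymProd

/-!
# Finite sets of points in projective families of curves
-/

set_option autoImplicit false
universe u

open CategoryTheory CategoryTheory.Limits AlgebraicGeometry Opposite TopologicalSpace

namespace K928.AFc

open K928.Pts

variable {X Y : Scheme.{u}} {f : X ⟶ Y}

theorem afb (n : ℕ) (ι : X ⟶ CohB1.ProjSpaceOver n Y) [IsClosedImmersion ι]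
    (hι : ι ≫ CohB1.ProjSpaceOver.toBase n Y = f) : AFb f := by
  intro T hT s hs
  let j : PicF.XT f T ⟶ CohB1.ProjSpaceOver n T.left :=
    (Groth.Agent.Fga.FSGeo.isPullback_projMap (n := n) T.hom).lift (pullback.fst f T.hom ≫ ι) (pullback.snd f T.hom) (by
      rw [Category.assoc, hι, pullback.condition])
  have hj1 : j ≫ FGA.projMap n T.hom = pullback.fst f T.hom ≫ ι := IsPullback.lift_fst _ _ _ _
  have hj2 : j ≫ CohB1.ProjSpaceOver.toBase n T.left = pullback.snd f T.hom := IsPullback.lift_snd _ _ _ _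
  have h1 : IsPullback (pullback.fst f T.hom) (j ≫ CohB1.ProjSpaceOver.toBase n T.left)
      (ι ≫ CohB1.ProjSpaceOver.toBase n Y) T.hom := by
    rw [hj2, hι]
    exact IsPullback.of_hasPullback f T.hom
  have h2 : IsPullback (pullback.fst f T.hom) j ι (FGA.projMap n T.hom) :=
    IsPullback.of_bot h1 hj1.symm (Groth.Agent.Fga.FSGeo.isPullback_projMap (n := n) T.hom)
  have h3 : IsClosedImmersion j := MorphismProperty.of_isPullback h2 inferInstance
  let k : CohB1.ProjSpaceOver n T.left ⟶ CohB1.ProjSpace n (ULift.{u} ℤ) :=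
    pullback.fst (CohB1.ProjSpace.toSpec n (ULift.{u} ℤ)) (specULiftZIsTerminal.from T.left)
  have i1 : IsAffineHom (specULiftZIsTerminal.from T.left) := inferInstance
  have i2 : IsAffineHom k := MorphismProperty.pullback_fst _ _ i1
  classical
  obtain ⟨V, hV, hsV, -⟩ := K383.FinAff.exists_affine_Proj (CohB1.polyGrading n (ULift.{u} ℤ)) ⊤
    (hs.toFinset.image (j ≫ k)) (fun _ _ => trivial)
  have hV' : IsAffineOpen (X := CohB1.ProjSpace n (ULift.{u} ℤ)) V := hV
  refine ⟨(j ≫ k) ⁻¹ᵁ V, hV'.preimage (j ≫ k), fun x hx => ?_⟩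
  exact hsV _ (Finset.mem_image_of_mem _ (hs.mem_toFinset.2 hx))

theorem symAF (hAF : AFb f) : SymProd.IsAF f := by
  intro s F hF
  let T : Over Y := Over.mk (𝟙 Y)
  let p : PicF.XT f T ⟶ X := pullback.fst f (𝟙 Y)
  have hp : IsIso p := inferInstanceAs (IsIso (pullback.fst f (𝟙 Y)))
  obtain ⟨U₀, hU₀, hs, -⟩ := K928.Cap.exists_aff (show s ∈ (⊤ : Y.Opens) from trivial)
  obtain ⟨V, hV, -, hsV⟩ := exists_affine_of_fibre hAF T s hs hU₀ (p ⁻¹' (F : Set X))
    (F.finite_toSet.preimage p.isOpenEmbedding.injective.injOn) (fun z hz => by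
      have h1 : p ≫ f = PicF.XTproj f T := by
        have h2 := pullback.condition (f := f) (g := 𝟙 Y)
        rw [Category.comp_id] at h2
        exact h2
      rw [← h1, Scheme.Hom.comp_apply]
      exact hF _ hz)
  refine ⟨p ''ᵁ V, hV.image_of_isOpenImmersion p, fun x hx => ?_⟩
  have hsurj : Function.Surjective p := (Scheme.homeoOfIso (asIso p)).surjective
  obtain ⟨z, rfl⟩ := hsurj x
  exact ⟨z, hsV hx, rfl⟩

theorem isProper (n : ℕ) (ι : X ⟶ CohB1.ProjSpaceOver n Y) [IsClosedImmersion ι]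
    (hι : ι ≫ CohB1.ProjSpaceOver.toBase n Y = f) : IsProper f := by
  have hp : IsProper (CohB1.ProjSpaceOver.toBase n Y) := Groth.Agent.Ega3B.ProjProper.isProper_toBase n Y
  rw [← hι]
  infer_instance

end K928.AFc
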