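import Groth.Agent.RelQuot.K928.K0Calc
import Mathlib.AlgebraicGeometry.AffineSpace

/-!
# Affine spaces over affine schemes and their classes
-/

set_option autoImplicit false
universe u

open CategoryTheory CategoryTheory.Limits AlgebraicGeometry TopologicalSpace

namespace K928.Aff

open K928.K0Calc

/-- the affine space `N` of dimension `a` over `T` with its coordinates and its class -/
theorem exists_affine (a : ℕ) (T : Scheme.{u}) [IsAffine T] :
    ∃ (N : Scheme.{u}) (π : N ⟶ T) (t : Fin a → Γ(N, ⊤)), IsAffine N ∧ LocallyOfFiniteType π ∧ QuasiCompact π ∧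
      (∀ (Y : Scheme.{u}) (h : T ⟶ Y) [LocallyOfFiniteType h] [QuasiCompact h],
        clD (π ≫ h) = K0Var.cl h * K0Var.L Y ^ a) ∧
      ∀ (T' : Scheme.{u}) (l : T' ⟶ T) (c : Fin a → Γ(T', ⊤)), ∃! m : T' ⟶ N, m ≫ π = l ∧
        ∀ i, m.appTop.hom (t i) = c i := by
  induction a with
  | zero =>
    refine ⟨T, 𝟙 T, Fin.elim0, inferInstance, inferInstance, inferInstance, ?_, ?_⟩
    · intro Y h _ _
      rw [Category.id_comp, clD_eq, pow_zero, mul_one]
    · intro T' l c
      refine ⟨l, ⟨Category.comp_id _, fun i => i.elim0⟩, ?_⟩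
      rintro m ⟨hm, -⟩
      rwa [Category.comp_id] at hm
  | succ a ih =>
    obtain ⟨N, π, t, h1, h2, h3, h4, h5⟩ := ih
    let A : Scheme.{u} := AffineSpace PUnit.{u + 1} N
    let p : A ⟶ N := AffineSpace PUnit.{u + 1} N ↘ N
    have hA : IsAffine A := inferInstanceAs (IsAffine (AffineSpace PUnit.{u + 1} N))
    have hp1 : LocallyOfFinitePresentation p :=
      inferInstanceAs (LocallyOfFinitePresentation (AffineSpace PUnit.{u + 1} N ↘ N))
    have hp2 : IsAffineHom p := inferInstanceAs (IsAffineHom (AffineSpace PUnit.{u + 1} N ↘ N))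
    refine ⟨A, p ≫ π, Fin.snoc (α := fun _ => Γ(A, ⊤)) (fun i => p.appTop.hom (t i)) (AffineSpace.coord N PUnit.unit),
      hA, inferInstance, inferInstance, ?_, ?_⟩
    · intro Y h _ _
      have h6 := h4 Y h
      rw [clD_eq] at h6
      have h7 := cl_eq_mul_of_isPullback (AffineSpace.isPullback_map (n := PUnit.{u + 1}) (π ≫ h))
      rw [Category.assoc, clD_eq, pow_succ, ← mul_assoc, ← h6]
      exact h7
    · intro T' l c
      obtain ⟨m, ⟨hm1, hm2⟩, hmu⟩ := h5 T' l (fun i => c i.castSucc)
      refine ⟨AffineSpace.homOfVector m (fun _ => c (Fin.last a)), ⟨?_, ?_⟩, ?_⟩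
      · have h8 : AffineSpace.homOfVector m (fun _ : PUnit.{u + 1} => c (Fin.last a)) ≫ p = m :=
          AffineSpace.homOfVector_over _ _
        rw [← Category.assoc, h8, hm1]
      · intro i
        have h8 : AffineSpace.homOfVector m (fun _ : PUnit.{u + 1} => c (Fin.last a)) ≫ p = m :=
          AffineSpace.homOfVector_over _ _
        refine Fin.lastCases ?_ (fun j => ?_) i
        · rw [Fin.snoc_last]
          exact AffineSpace.homOfVector_appTop_coord _ _ _
        · rw [Fin.snoc_castSucc, ← CommRingCat.comp_apply, ← Scheme.Hom.comp_appTop, h8]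
          exact hm2 j
      · rintro m' ⟨hm1', hm2'⟩
        have h9 : m' ≫ p = m := by
          refine hmu _ ⟨by rw [Category.assoc]; exact hm1', fun i => ?_⟩
          have h10 := hm2' i.castSucc
          rw [Fin.snoc_castSucc] at h10
          rw [← h10, Scheme.Hom.comp_appTop]
          rfl
        apply AffineSpace.hom_ext
        · rw [AffineSpace.homOfVector_over]
          exact h9
        · intro i
          have h10 := hm2' (Fin.last a)
          rw [Fin.snoc_last] at h10
          rw [AffineSpace.homOfVector_appTop_coord]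
          exact h10

end K928.Aff
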