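import Groth.Agent.RelQuot.K928.Final
import Groth.Agent.PerfA.QCohSerre

/-!
# The zero module
-/

set_option autoImplicit false
set_option linter.style.haveILetI false
set_option linter.dupNamespace false
universe u v

open CategoryTheory CategoryTheory.Limits AlgebraicGeometry Opposite TopologicalSpace

namespace K928.Base

open K928.Cap K928.UB K928.Sec K928.SecEx K928.Sq K928.Frame K928.ObjOf K928.OfObj K928.Pts K928.DivAlg
  K928.Chart K928.Fam K928.Fam2 K928.Res K928.Rel K928.K0Calc K928.Strat K928.PointBij K928.WFam K928.Aff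
  K928.StageA K928.StageB Groth.Agent.Picfga

variable {X Y : Scheme.{u}} {f : X ⟶ Y} {E : X.Modules}

theorem isZero_ET (hE : IsZero E) (T : Over Y) : IsZero (FGA.ET f E T) :=
  Functor.map_isZero _ hE

theorem subsingleton_sections {P : Scheme.{u}} {M : P.Modules} (hM : IsZero M) (V : P.Opens) :
    Subsingleton Γ(M, V) := by
  refine ⟨fun s t => ?_⟩
  have h1 : 𝟙 M = 0 := hM.eq_of_src _ _
  have h2 : ∀ s : Γ(M, V), s = 0 := fun s => by
    have h3 : (𝟙 M : M ⟶ M).app V s = (0 : M ⟶ M).app V s := by rw [h1]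
    exact h3
  rw [h2 s, h2 t]

theorem subsingleton_subobject {C : Type*} [Category* C] [HasZeroMorphisms C] {A : C} (hA : IsZero A) :
    Subsingleton (Subobject A) := by
  refine ⟨fun S T => le_antisymm ?_ ?_⟩
  · exact Subobject.le_of_comm 0 (hA.eq_of_tgt _ _)
  · exact Subobject.le_of_comm 0 (hA.eq_of_tgt _ _)

theorem wf_zero [IsProper f] (hAF : AFb f) [IsNoetherian Y] (hE : IsZero E) (d : ℕ) :
    WF f E d (if d = 0 then 1 else 0) := by
  have hq : Coh.IsQCoh E := Groth.Agent.PerfA.QCohSerre.isQCoh_of_isZero hE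
  rcases Nat.eq_zero_or_pos d with hd | hd
  · subst hd
    rw [if_pos rfl]
    obtain ⟨J, hJ, U, u, h1, h2, h3⟩ := exists_partition (T₀ := Y) (fun U _ => IsAffine U) (by
      intro Z i _ _ O hO
      obtain ⟨z, hz⟩ := hO
      obtain ⟨O', hO', hzO', hO'O⟩ := exists_aff hz
      refine ⟨O', O'.ι, inferInstance, ?_, ⟨(⟨z, hzO'⟩ : O')⟩, hO'⟩
      rw [Scheme.Opens.range_ι]
      exact hO'O)
    have hb : PtBij u := ptBij_of_partition u h3
    have hNS : ∀ i, NoetherianSpace (U i) := fun i => (u i).isEmbedding.isInducing.noetherianSpace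
    have hsub : ∀ T : Over Y, Subsingleton (Subobject (FGA.ET f E T)) := fun T =>
      subsingleton_subobject (isZero_ET hE T)
    have hz : ∀ (T : Over Y) (κ : Subobject (FGA.ET f E T)), IsZero (cokernel κ.arrow) := fun T κ =>
      IsZero.of_epi (cokernel.π κ.arrow) (isZero_ET hE T)
    refine ⟨J, hJ, fun j => Over.mk (u j), fun j => ⊤, ?_, ?_, ?_⟩
    · intro j
      refine ⟨h2 j, inferInstanceAs (LocallyOfFiniteType (u j)), inferInstanceAs (QuasiCompact (u j)),
        Groth.Agent.PerfA.QCohSerre.isQCoh_of_isZero (hz _ _), ⊥, ⊤, Fin.elim0, isAffineOpen_bot _, by simp, ?_, ?_⟩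
      · intro V _
        have := subsingleton_sections (isZero_ET (f := f) hE (Over.mk (u j))) V
        exact Subsingleton.elim _ _
      · have := subsingleton_sections (isZero_ET (f := f) hE (Over.mk (u j))) ⊥
        constructor
        · intro a b _
          exact Subsingleton.elim _ _
        · intro a
          exact ⟨Fin.elim0, Subsingleton.elim _ _⟩
    · rw [← K0Var.cl_one, cl_eq_sum_of_points (𝟙 Y) u hb]
      refine Finset.sum_congr rfl fun j _ => ?_
      rw [← clD_eq, Category.comp_id]
      rfl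
    · intro F _ y κ
      obtain ⟨⟨j, m⟩, hm, hmu⟩ := hb F y
      have := hsub (Over.mk y)
      refine ⟨⟨j, Over.homMk m hm⟩, Subsingleton.elim _ _, ?_⟩
      rintro ⟨j', m'⟩ -
      have h4 := hmu ⟨j', m'.left⟩ (Over.w m')
      have hj : j' = j := congrArg Sigma.fst h4
      subst hj
      have h5 : m'.left = m := eq_of_heq (Sigma.mk.inj_iff.1 h4).2
      congr 1
      ext1
      exact h5
  · rw [if_neg hd.ne']
    refine ⟨Empty, inferInstance, fun j => j.elim, fun j => j.elim, fun j => j.elim, by simp, ?_⟩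
    intro F _ y κ
    exfalso
    have i4 : IsAffine (Over.mk y : Over Y).left := inferInstanceAs (IsAffine (Spec (.of F)))
    have i5 : Subsingleton (Over.mk y : Over Y).left := inferInstanceAs (Subsingleton (Spec (.of F)))
    have i6 : Nonempty (Over.mk y : Over Y).left := inferInstanceAs (Nonempty (Spec (.of F)))
    obtain ⟨V, W, e, hF⟩ := Pts.exists_frame_point hAF hq (Over.mk y) κ.2 (𝟙 _)
    have hsub := subsingleton_sections (isZero_ET (f := f) hE (Over.mk y)) V
    have hR : IsField Γ((Over.mk y : Over Y).left, ⊤) :=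
      MulEquiv.isField (Field.toIsField F) (Scheme.ΓSpecIso (.of F)).commRingCatIsoToRingEquiv.toMulEquiv
    have hn : Nontrivial Γ((Over.mk y : Over Y).left, ⊤) := hR.nontrivial
    have h1 := @hF.bas.1 (fun _ => 0) (fun _ => 1) (Subsingleton.elim _ _)
    exact zero_ne_one (congrFun h1 ⟨0, hd⟩)

end K928.Base
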