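import Groth.Agent.Fga.QT2

/-!
# Subobjects captured by an affine open

`Away K W`: the submodule `K ≤ M` is everything on the open `W`. If `V ⊔ W = ⊤` with `V` affine, submodules with
quasi-coherent quotient which are everything on `W` are determined by their sections over `V`, and every submodule of
`Γ(M, V)` which is everything on `V ⊓ W` comes from one.
-/

set_option autoImplicit false
universe u v

open CategoryTheory CategoryTheory.Limits AlgebraicGeometry Opposite TopologicalSpace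

namespace K928.Cap

open Groth.Agent.Fga.QTDefs Groth.Agent.Fga.QT2 Groth.Agent.Ega1.SubSheaf Groth.Agent.Ega1.LocMod
  Groth.Agent.Ega1.QCohOfLoc Groth.Agent.Ega1.SubExt

variable {P : Scheme.{u}} {M : P.Modules}

theorem exists_aff {P : Scheme.{u}} {U : P.Opens} {x : P} (hx : x ∈ U) :
    ∃ V : P.Opens, IsAffineOpen V ∧ x ∈ V ∧ V ≤ U := by
  obtain ⟨_, ⟨V, hV, rfl⟩, hxV, hVU⟩ := P.isBasis_affineOpens.exists_subset_of_mem_open hx U.2
  exact ⟨V, hV, hxV, hVU⟩

/-- `K` is everything on `W` -/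
def Away (K : Subobject M) (W : P.Opens) : Prop := ∀ U ≤ W, secSub K U = ⊤

theorem Away.mono {K : Subobject M} {W W' : P.Opens} (h : Away K W) (hW : W' ≤ W) : Away K W' :=
  fun U hU => h U (hU.trans hW)

/-- the full subsheaf -/
noncomputable def full (M : P.Modules) : Sub M where
  obj _ := ⊤
  map_mem _ _ _ := trivial
  local_mem _ _ := trivial

theorem obj_eq_top_of_le [M.IsQuasicoherent] (N : Sub M) {U : P.Opens} (hU : IsAffineOpen U) (h : N.obj U = ⊤)
    {U' : P.Opens} (hU' : U' ≤ U) : N.obj U' = ⊤ := by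
  have hq : QC (full M) U := fun f s _ => ⟨0, trivial⟩
  exact top_le_iff.1 (hq.le_of_le hU (N' := N) (by rw [h]; exact le_top) hU')

theorem obj_eq_top_of_cover [M.IsQuasicoherent] (N : Sub M) {U : P.Opens}
    (h : ∀ x ∈ U, ∃ V : P.Opens, x ∈ V ∧ IsAffineOpen V ∧ N.obj V = ⊤) : N.obj U = ⊤ := by
  rw [eq_top_iff]
  intro s _
  refine N.local_mem s fun x hx => ?_
  obtain ⟨V, hxV, hV, h1⟩ := h x hx
  refine ⟨U ⊓ V, inf_le_left, ⟨hx, hxV⟩, ?_⟩
  rw [obj_eq_top_of_le N hV h1 inf_le_right]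
  trivial

theorem away_of_cover (hM : Coh.IsQCoh M) {K : Subobject M} {W : P.Opens}
    (h : ∀ x ∈ W, ∃ V : P.Opens, x ∈ V ∧ IsAffineOpen V ∧ secSub K V = ⊤) : Away K W := by
  have : M.IsQuasicoherent := hM
  intro U hU
  exact obj_eq_top_of_cover (subOf K) fun x hx => h x (hU hx)

theorem le_of_cap (hM : Coh.IsQCoh M) {V W : P.Opens} (hV : IsAffineOpen V) (hVW : V ⊔ W = ⊤)
    {K K' : Subobject M} (hK : Coh.IsQCoh (cokernel K.arrow)) (hK' : Away K' W) (h : secSub K V ≤ secSub K' V) :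
    K ≤ K' := by
  have : M.IsQuasicoherent := hM
  refine le_of_secSub_le fun U s hs => ?_
  refine (subOf K').local_mem s fun x hx => ?_
  have hx' : x ∈ V ⊔ W := by rw [hVW]; trivial
  rcases hx' with hx' | hx'
  · refine ⟨U ⊓ V, inf_le_left, ⟨hx, hx'⟩, ?_⟩
    exact QC.le_of_le hV (qc_subOf hK hV) (N' := subOf K') h inf_le_right ((subOf K).map_mem inf_le_left hs)
  · refine ⟨U ⊓ W, inf_le_left, ⟨hx, hx'⟩, ?_⟩
    change _ ∈ secSub K' (U ⊓ W)
    rw [hK' _ inf_le_right]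
    trivial

theorem eq_of_cap (hM : Coh.IsQCoh M) {V W : P.Opens} (hV : IsAffineOpen V) (hVW : V ⊔ W = ⊤)
    {K K' : Subobject M} (hKq : Coh.IsQCoh (cokernel K.arrow)) (hKq' : Coh.IsQCoh (cokernel K'.arrow))
    (hK : Away K W) (hK' : Away K' W) (h : secSub K V = secSub K' V) : K = K' :=
  le_antisymm (le_of_cap hM hV hVW hKq hK' h.le) (le_of_cap hM hV hVW hKq' hK h.ge)

/-- sections over a smaller affine open -/
theorem secSub_eq_span (hM : Coh.IsQCoh M) {K : Subobject M} (hK : Coh.IsQCoh (cokernel K.arrow)) {V : P.Opens}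
    (hV : IsAffineOpen V) {U : P.Opens} (hU : IsAffineOpen U) (hUV : U ≤ V) :
    secSub K U = Submodule.span Γ(P, U) (res M hUV '' (secSub K V : Set Γ(M, V))) := by
  have : M.IsQuasicoherent := hM
  refine le_antisymm ?_ ?_
  · intro s hs
    set N1 := Submodule.span Γ(P, U) (res M hUV '' (secSub K V : Set Γ(M, V))) with hN1
    rw [← gen_self hU N1]
    have h1 : s ∈ (gen (secSub K V : Set Γ(M, V))).obj U :=
      (qc_subOf hK hV).le_of_le hV (N' := gen (secSub K V : Set Γ(M, V)))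
        (fun t ht => subset_gen ht) hUV hs
    rw [mem_gen] at h1 ⊢
    intro x hx
    obtain ⟨Z, hZU, hZV, hxZ, h2⟩ := h1 x ⟨hx.1, hUV hx.1⟩
    refine ⟨Z, hZU, hZU, hxZ, (Submodule.span_mono ?_) h2⟩
    rintro _ ⟨t, ht, rfl⟩
    exact ⟨res M hUV t, Submodule.subset_span ⟨t, ht, rfl⟩, res_res _ _ _ _⟩
  · rw [Submodule.span_le]
    rintro _ ⟨t, ht, rfl⟩
    exact (subOf K).map_mem hUV ht

/-- Existence of captured submodules. -/
theorem exists_cap (hM : Coh.IsQCoh M) {V W : P.Opens} (hV : IsAffineOpen V) (hVW : V ⊔ W = ⊤)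
    (N : Submodule Γ(P, V) Γ(M, V))
    (hN : ∀ x ∈ V ⊓ W, ∃ (U : P.Opens) (hUV : U ≤ V), x ∈ U ∧ IsAffineOpen U ∧
      Submodule.span Γ(P, U) (res M hUV '' (N : Set Γ(M, V))) = ⊤) :
    ∃ K : Subobject M, Coh.IsQCoh (cokernel K.arrow) ∧ Away K W ∧ secSub K V = N := by
  have hMq : M.IsQuasicoherent := hM
  let G : Sub M := ext V (gen (N : Set Γ(M, V)))
  have hGV : G.obj V = N := by
    rw [agree_ext V _ V le_rfl, gen_self hV]
  have hGW : ∀ U ≤ W, G.obj U = ⊤ := by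
    intro U hU
    rw [eq_top_iff]
    intro s _
    rw [mem_ext]
    have h1 : (gen (N : Set Γ(M, V))).obj (U ⊓ V) = ⊤ := by
      refine obj_eq_top_of_cover _ fun x hx => ?_
      obtain ⟨U₁, hUV, hxU, hU₁, h2⟩ := hN x ⟨hx.2, hU hx.1⟩
      refine ⟨U₁, hxU, hU₁, ?_⟩
      rw [eq_top_iff, ← h2, Submodule.span_le]
      rintro _ ⟨t, ht, rfl⟩
      exact (gen (N : Set Γ(M, V))).map_mem hUV (subset_gen ht)
    rw [h1]
    trivial
  refine ⟨Subobject.mk G.ι, isQCoh_cokernel_mk hM G fun x => ?_, fun U hU => ?_, ?_⟩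
  · have hx' : x ∈ V ⊔ W := by rw [hVW]; trivial
    rcases hx' with hx' | hx'
    · refine ⟨V, hx', hV, fun f s hs => ?_⟩
      rw [agree_ext V _ _ (P.basicOpen_le f)] at hs
      obtain ⟨n, hn⟩ := qc_gen hV N f s hs
      exact ⟨n, by rw [agree_ext V _ V le_rfl]; exact hn⟩
    · obtain ⟨U, hU, hxU, hUW⟩ := exists_aff hx'
      exact ⟨U, hxU, hU, fun f s _ => ⟨0, by rw [hGW U hUW]; trivial⟩⟩
  · rw [secSub_mk]
    exact hGW U hU
  · rw [secSub_mk]
    exact hGV

end K928.Cap
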