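import Groth.Agent.RelQuot.K928.Sec
import Groth.Agent.PerfC.RelFlat
import Groth.Agent.Dcoh.StalkFF

/-!
# Exactness of sections of `E'_T → E_T → L_T` over affine opens
-/

set_option autoImplicit false
set_option linter.style.haveILetI false
universe u v

open CategoryTheory CategoryTheory.Limits AlgebraicGeometry Opposite TopologicalSpace

namespace K928.SecEx

open Groth.Agent.Fga.QTDefs Groth.Agent.Fga.QT2 Groth.Agent.Ega1.SubSheaf Groth.Agent.Fga.SubPull K928.Sec K928.Cap
open Groth.Agent

/-- A finite locally free module is flat over the scheme itself. -/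
theorem isFlatOver_id {X : Scheme.{u}} {E : X.Modules} (hE : FlatMod.IsFinLocFree E) :
    FlatMod.IsFlatOver (𝟙 X) E := by
  intro x
  letI a0 : Algebra (X.presheaf.stalk ((𝟙 X : X ⟶ X) x)) (X.presheaf.stalk x) :=
    (Scheme.Hom.stalkMap (𝟙 X) x).hom.toAlgebra
  letI a2 := FlatMod.moduleStalkOver (𝟙 X) E x
  have h1 : Module.Flat (X.presheaf.stalk ((𝟙 X : X ⟶ X) x)) (X.presheaf.stalk x) := Flat.stalkMap (𝟙 X) x
  obtain ⟨h2, -⟩ := Dcoh.StalkFF.FF_of_isFinLocFree hE x
  haveI : IsScalarTower (X.presheaf.stalk ((𝟙 X : X ⟶ X) x)) (X.presheaf.stalk x) (E.presheaf.stalk x) :=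
    IsScalarTower.of_algebraMap_smul fun _ _ => rfl
  exact Module.Flat.trans (X.presheaf.stalk ((𝟙 X : X ⟶ X) x)) (X.presheaf.stalk x) (E.presheaf.stalk x)

/-- The pullback of a short exact sequence with locally free quotient is short exact. -/
theorem shortExact_pullback {X Z : Scheme.{u}} (a : Z ⟶ X) (S : ShortComplex X.Modules) (hS : S.ShortExact)
    (h3 : FlatMod.IsFinLocFree S.X₃) : (S.map (Scheme.Modules.pullback a)).ShortExact := by
  have hm : Mono ((Scheme.Modules.pullback a).map S.f) :=
    PerfC.RelFlat.mono_pullback_map (IsPullback.of_id_snd (f := a)) S hS (isFlatOver_id h3)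
  have := hS.epi_g
  have he : Epi ((Scheme.Modules.pullback a).map S.g) := inferInstance
  exact { exact := hS.exact.map_of_epi_of_preservesCokernel (Scheme.Modules.pullback a) hS.epi_g inferInstance
          mono_f := hm
          epi_g := he }

variable {X Y : Scheme.{u}} (f : X ⟶ Y) (S : ShortComplex X.Modules) (hS : S.ShortExact)
  (h3 : FlatMod.IsFinLocFree S.X₃) (T : Over Y) (V : (PicF.XT f T).Opens)

theorem coe_iTl {E' E : X.Modules} (φ : E' ⟶ E) (T : Over Y) (V : (PicF.XT f T).Opens) :
    ⇑(iTl f φ T V) = fun s => ((Scheme.Modules.pullback (pullback.fst f T.hom)).map φ).app V s := by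
  funext s
  rw [iTl_apply, iT]

include hS h3 in
theorem iTl_injective : Function.Injective (iTl f S.f T V) := by
  have h := shortExact_pullback (pullback.fst f T.hom) S hS h3
  rw [coe_iTl]
  exact (mono_iff_injective ((Scheme.Modules.pullback (pullback.fst f T.hom)).map S.f)).mp h.mono_f V

include hS h3 in
theorem iTl_exact : Function.Exact (iTl f S.f T V) (iTl f S.g T V) := by
  have h := shortExact_pullback (pullback.fst f T.hom) S hS h3
  have := h.mono_f
  rw [coe_iTl, coe_iTl]
  intro s
  constructor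
  · intro hs
    exact CohqB.QC4.exists_of_exact (S := S.map (Scheme.Modules.pullback (pullback.fst f T.hom))) h.exact V s hs
  · rintro ⟨t, rfl⟩
    exact CohqB.QC4.app_comp_eq_zero (S := S.map (Scheme.Modules.pullback (pullback.fst f T.hom))) V t

include hS h3 in
theorem iTl_surjective (h2 : Coh.IsQCoh S.X₂) (hV : IsAffineOpen V) : Function.Surjective (iTl f S.g T V) := by
  have h := shortExact_pullback (pullback.fst f T.hom) S hS h3
  have : Epi ((Scheme.Modules.pullback (pullback.fst f T.hom)).map S.g) := h.epi_g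
  rw [coe_iTl]
  exact CohqB.QC5.app_surjective_of_epi ((Scheme.Modules.pullback (pullback.fst f T.hom)).map S.g)
    (isQCoh_ET f h2 T) (isQCoh_ET f (PerfA.QCohEpi.isQCoh_of_isFinLocFree h3) T) hV

end K928.SecEx
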