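import Groth.Agent.RelQuot.K928.Res
import Groth.Agent.RelQuot.K928.SecEx
import Groth.Agent.Divis.IdealComap

/-!
# Charts: quotients of `E` of a given type over an affine base form an affine space
-/

set_option autoImplicit false
set_option linter.style.haveILetI false
set_option linter.dupNamespace false
universe u v

open CategoryTheory CategoryTheory.Limits AlgebraicGeometry Opposite TopologicalSpace

namespace K928.Chart

open Groth.Agent.Fga.QTDefs Groth.Agent.Fga.QT2 Groth.Agent.Ega1.SubSheaf Groth.Agent.Ega1.SubExt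
  Groth.Agent.CohqA.BaseChangeMod K928.Cap K928.UB K928.Sec K928.SecEx K928.Sq K928.Frame K928.OfObj
  K928.DivAlg K928.Res

variable {X Y : Scheme.{u}} (f : X ⟶ Y) (S : ShortComplex X.Modules)

/-- the standing hypotheses on `0 → E' → E → L → 0` -/
structure Hyp : Prop where
  ex : S.ShortExact
  q1 : Coh.IsQCoh S.X₁
  q2 : Coh.IsQCoh S.X₂
  lf : FlatMod.IsFinLocFreeOfRank 1 S.X₃

theorem isFinLocFree_of_rank {X : Scheme.{u}} {M : X.Modules} {r : ℕ} (h : FlatMod.IsFinLocFreeOfRank r M) :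
    FlatMod.IsFinLocFree M := fun x => by
  obtain ⟨U, hx, e⟩ := h x
  exact ⟨U, r, hx, e⟩

theorem Hyp.q3 (h : Hyp S) : Coh.IsQCoh S.X₃ :=
  Groth.Agent.PerfA.QCohEpi.isQCoh_of_isFinLocFree (isFinLocFree_of_rank h.lf)

variable (T : Over Y)

/-- `κ ≤ E_T` has type `(ξ, D)`: `κ ∩ E'_T = ξ` and the image of `κ` in `L_T` is `D·L_T` -/
structure IsType (κ : Subobject (FGA.ET f S.X₂ T)) (ξ : Subobject (FGA.ET f S.X₁ T))
    (D : (PicF.XT f T).IdealSheafData) : Prop where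
  sub : cm (iT f S.f T) κ = ξ
  quo : im (iT f S.g T) κ = DL D (FGA.ET f S.X₃ T)

/-- Chart data on an affine base. -/
structure Chart (ξ : Subobject (FGA.ET f S.X₁ T)) (D : (PicF.XT f T).IdealSheafData)
    (V W : (PicF.XT f T).Opens) {a b : ℕ} (x : Fin a → Γ(FGA.ET f S.X₁ T, V)) (y : Γ(FGA.ET f S.X₂ T, V))
    (e : Fin b → Γ(FGA.ET f S.X₃ T, V)) : Prop where
  frame : Frame f T ξ V W x
  dis : ∀ z ∈ W, z ∉ D.support
  ac : AC (coef f T V).hom (D.ideal ⟨V, frame.aff⟩) (iTl f S.g T V y) e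

variable {f S T} {T' : Over Y}

/-- base change of sections over `V` to the preimage of `V` -/
noncomputable abbrev pz (E : X.Modules) (g : T' ⟶ T) (V : (PicF.XT f T).Opens) :
    Γ(FGA.ET f E T, V) →+ Γ(FGA.ET f E T', pb f g V) := ps f E g (V' := pb f g V) le_rfl

theorem ps_iTl {E' E : X.Modules} (φ : E' ⟶ E) (g : T' ⟶ T) (V : (PicF.XT f T).Opens) (s : Γ(FGA.ET f E' T, V)) :
    pz E g V (iTl f φ T V s) = iTl f φ T' (pb f g V) (pz E' g V s) := by
  rw [iTl_apply, iTl_apply]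
  exact ps_iT f g (V' := pb f g V) le_rfl φ s

theorem ps_smul' {E : X.Modules} (g : T' ⟶ T) (V : (PicF.XT f T).Opens) (c : Γ(PicF.XT f T, V))
    (s : Γ(FGA.ET f E T, V)) :
    pz E g V (c • s) = (pbR f g V).hom c • pz E g V s := by
  rw [pbR]
  exact ps_smul f g (V' := pb f g V) le_rfl c s

theorem pbR_coef (g : T' ⟶ T) (V : (PicF.XT f T).Opens) (r : Γ(T.left, ⊤)) :
    (pbR f g V).hom ((coef f T V).hom r) = (coef f T' (pb f g V)).hom (g.left.appTop.hom r) := by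
  have h1 : coef f T V ≫ pbR f g V = g.left.appTop ≫ coef f T' (pb f g V) := by
    have h2 : g.left.appLE ⊤ ⊤ le_top = g.left.appTop := Scheme.Hom.appLE_eq_app _
    rw [coef, coef, pbR, ← h2, Scheme.Hom.appLE_comp_appLE, Scheme.Hom.appLE_comp_appLE]
    congr 1
    exact (Groth.Agent.Picfga.HilbPull.isPullback_XTmap f g).w
  exact congr($(h1) r)

theorem ps_lc {E : X.Modules} (g : T' ⟶ T) (V : (PicF.XT f T).Opens) {κ : Type} [Fintype κ]
    (x : κ → Γ(FGA.ET f E T, V)) (c : κ → Γ(T.left, ⊤)) :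
    pz E g V (lc (coef f T V).hom x c) =
      lc (coef f T' (pb f g V)).hom (fun i => pz E g V (x i)) (fun i => g.left.appTop.hom (c i)) := by
  rw [lc, lc, map_sum]
  refine Finset.sum_congr rfl fun i _ => ?_
  rw [ps_smul', pbR_coef]

/-- Charts pull back. -/
theorem Chart.pull (hS : Hyp S) [IsAffine T.left] [IsAffine T'.left] {ξ : Subobject (FGA.ET f S.X₁ T)}
    (hξ : Coh.IsQCoh (cokernel ξ.arrow)) {D : (PicF.XT f T).IdealSheafData}
    {V W : (PicF.XT f T).Opens} {a b : ℕ} {x : Fin a → Γ(FGA.ET f S.X₁ T, V)} {y : Γ(FGA.ET f S.X₂ T, V)}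
    {e : Fin b → Γ(FGA.ET f S.X₃ T, V)} (h : Chart f S T ξ D V W x y e) (g : T' ⟶ T) :
    Chart f S T' (FGA.quotPull f S.X₁ g ξ) (HilbD.pull f g D) (pb f g V) (pb f g W)
      (fun i => pz S.X₁ g V (x i)) (pz S.X₂ g V y) (fun i => pz S.X₃ g V (e i)) := by
  have hF := h.frame.pull hS.q1 hξ g
  refine ⟨hF, fun z hz hzD => ?_, ?_⟩
  · rw [Groth.Agent.Picfga.HilbPull.pull_eq_comap, Scheme.IdealSheafData.support_comap] at hzD
    exact h.dis _ hz hzD
  · have h1 := AC.baseChange (isPushout_pb f g h.frame.aff)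
      (isBC_ps f (E := S.X₃) g (V' := pb f g V) le_rfl hS.q3 h.frame.aff (isAffineOpen_pb f g h.frame.aff)) h.ac
    have h2 : (HilbD.pull f g D).ideal ⟨pb f g V, hF.aff⟩ = (D.ideal ⟨V, h.frame.aff⟩).map (pbR f g V).hom := by
      rw [Groth.Agent.Picfga.HilbPull.pull_eq_comap]
      exact Groth.Agent.Divis.IdealComap.ideal_comap D (PicF.XTmap f g) ⟨V, h.frame.aff⟩ ⟨pb f g V, hF.aff⟩ le_rfl
    rw [h2, ← ps_iTl]
    exact h1

section Fam

variable {ξ : Subobject (FGA.ET f S.X₁ T)} {D : (PicF.XT f T).IdealSheafData}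
    {V W : (PicF.XT f T).Opens} {a b : ℕ} {x : Fin a → Γ(FGA.ET f S.X₁ T, V)} {y : Γ(FGA.ET f S.X₂ T, V)}
    {e : Fin b → Γ(FGA.ET f S.X₃ T, V)}

/-- the sections over `V` of the member of the family with parameters `c` -/
noncomputable def NF (ξ : Subobject (FGA.ET f S.X₁ T)) (x : Fin a → Γ(FGA.ET f S.X₁ T, V)) (y : Γ(FGA.ET f S.X₂ T, V))
    (c : Fin a → Γ(T.left, ⊤)) : Submodule Γ(PicF.XT f T, V) Γ(FGA.ET f S.X₂ T, V) :=
  Nx (iTl f S.f T V) (secSub ξ V) (y + iTl f S.f T V (lc (coef f T V).hom x c))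

/-- the member of the family with parameters `c` -/
structure IsFam (W : (PicF.XT f T).Opens) (ξ : Subobject (FGA.ET f S.X₁ T)) (x : Fin a → Γ(FGA.ET f S.X₁ T, V))
    (y : Γ(FGA.ET f S.X₂ T, V)) (c : Fin a → Γ(T.left, ⊤)) (K : Subobject (FGA.ET f S.X₂ T)) : Prop where
  qc : Coh.IsQCoh (cokernel K.arrow)
  away : Away K W
  sec : secSub K V = NF ξ x y c

end Fam

end K928.Chart
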