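import Groth.Agent.RelQuot.K928.UB
import Groth.Agent.PicF.K247.FrDeg

/-!
# Local bases of a finite locally free closed subscheme
-/

set_option autoImplicit false
set_option linter.style.haveILetI false
universe u v

open CategoryTheory CategoryTheory.Limits AlgebraicGeometry Opposite TopologicalSpace

namespace K928.DivBas

open K928.UB Groth.Agent.Ega2.H275.FrameNorm Groth.Agent.Fdesc.LocGen

variable {P T : Scheme.{u}} (p : P ⟶ T) (D : P.IdealSheafData)

theorem exists_basis {b : ℕ} {N : T.Opens} (fr : Fr (D.subschemeι ≫ p) N b) {U : T.Opens} (hU : U ≤ N)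
    {O : P.Opens} (hO : IsAffineOpen O) (hOU : O ≤ p ⁻¹ᵁ U) (hD : ∀ z ∈ D.support, p z ∈ U → z ∈ O) :
    ∃ v : Fin b → Γ(P, O), IsUB (p.appLE U O hOU).hom
      (fun i => (Ideal.Quotient.mk (D.ideal ⟨O, hO⟩) (v i) : Γ(P, O) ⧸ D.ideal ⟨O, hO⟩)) := by
  have hpre : (D.subschemeι ≫ p) ⁻¹ᵁ U = D.subschemeι ⁻¹ᵁ O := by
    ext w
    constructor
    · intro hw
      have hw' : p (D.subschemeι w) ∈ U := by
        have h : (D.subschemeι ≫ p) w ∈ U := hw
        rwa [Scheme.Hom.comp_apply] at h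
      exact hD _ (by rw [← SetLike.mem_coe, ← D.range_subschemeι]; exact ⟨w, rfl⟩) hw'
    · intro hw
      have hw' : D.subschemeι w ∈ O := hw
      have : p (D.subschemeι w) ∈ U := hOU hw'
      change (D.subschemeι ≫ p) w ∈ U
      rwa [Scheme.Hom.comp_apply]
  let φ := D.subschemeι.appLE O ((D.subschemeι ≫ p) ⁻¹ᵁ U) hpre.le
  have hφ : φ = D.subschemeι.app O ≫ D.subscheme.presheaf.map (eqToHom hpre).op := rfl
  have i1 : IsIso (D.subscheme.presheaf.map (eqToHom hpre).op) := inferInstance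
  have hb := ConcreteCategory.bijective_of_isIso (D.subscheme.presheaf.map (eqToHom hpre).op)
  have hsurj : Function.Surjective φ.hom := by
    rw [hφ]
    exact hb.2.comp (D.subschemeι_app_surjective ⟨O, hO⟩)
  have hker : ∀ r, φ.hom r = 0 ↔ r ∈ D.ideal ⟨O, hO⟩ := by
    intro r
    rw [← D.ker_subschemeι_app ⟨O, hO⟩, RingHom.mem_ker, hφ]
    exact map_eq_zero_iff (D.subscheme.presheaf.map (eqToHom hpre).op).hom hb.1
  choose v hv using fun k => hsurj (ores (pre (D.subschemeι ≫ p) hU) (fr.e k))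
  refine ⟨v, ?_⟩
  let ψ : Γ(P, O) ⧸ D.ideal ⟨O, hO⟩ →+* Γ(D.subscheme, (D.subschemeι ≫ p) ⁻¹ᵁ U) :=
    Ideal.Quotient.lift _ φ.hom (fun r hr => (hker r).2 hr)
  have hψ : Function.Bijective ψ := by
    constructor
    · rw [injective_iff_map_eq_zero]
      intro q hq
      obtain ⟨r, rfl⟩ := Ideal.Quotient.mk_surjective q
      rw [Ideal.Quotient.lift_mk] at hq
      rw [Ideal.Quotient.eq_zero_iff_mem]
      exact (hker r).1 hq
    · intro w
      obtain ⟨r, rfl⟩ := hsurj w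
      exact ⟨Ideal.Quotient.mk _ r, Ideal.Quotient.lift_mk _ _ _⟩
  have hcomp : ∀ c : Γ(T, U), φ.hom ((p.appLE U O hOU).hom c) = ((D.subschemeι ≫ p).app U).hom c := by
    intro c
    have h1 : p.appLE U O hOU ≫ φ = (D.subschemeι ≫ p).app U := by
      rw [← Scheme.Hom.appLE_eq_app, Scheme.Hom.appLE_comp_appLE]
    exact congr($(h1) c)
  have h2 : ψ ∘ lc (p.appLE U O hOU).hom
      (fun i => (Ideal.Quotient.mk (D.ideal ⟨O, hO⟩) (v i) : Γ(P, O) ⧸ D.ideal ⟨O, hO⟩)) =
      fun c : Fin b → Γ(T, U) ↦ ∑ k, ((D.subschemeι ≫ p).app U).hom (c k) *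
        ores (pre (D.subschemeι ≫ p) hU) (fr.e k) := by
    funext c
    rw [Function.comp_apply, lc, map_sum]
    refine Finset.sum_congr rfl fun k _ => ?_
    rw [← hcomp, ← hv, ← map_mul]
    rfl
  have h3 := fr.bij U hU
  rw [← h2] at h3
  exact (Function.Bijective.of_comp_iff' hψ _).1 h3

end K928.DivBas
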