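import Groth.Agent.RelQuot.K928.OfObj

/-!
# The square over an open of the base
-/

set_option autoImplicit false
set_option linter.style.haveILetI false
set_option linter.dupNamespace false
universe u v

open CategoryTheory CategoryTheory.Limits AlgebraicGeometry Opposite TopologicalSpace

namespace K928.OpenSq

open K928.Cap K928.UB K928.Sec K928.Sq K928.Frame K928.ObjOf K928.OfObj Groth.Agent.Picfga

variable {X Y : Scheme.{u}} (f : X ⟶ Y) (T : Over Y) (U : T.left.Opens) (V : (PicF.XT f T).Opens)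

/-- `V ⊓ p⁻¹ U` as an image -/
noncomputable def OO : (PicF.XT f T).Opens := PicF.XTmap f (OverRep.res T U) ''ᵁ (pb f (OverRep.res T U) V)

theorem OO_le : OO f T U V ≤ V := by
  rintro _ ⟨z, hz, rfl⟩
  exact hz

theorem OO_le_pre : OO f T U V ≤ PicF.XTproj f T ⁻¹ᵁ U := by
  rintro _ ⟨z, hz, rfl⟩
  have h3 := congr($((HilbPull.isPullback_XTmap f (OverRep.res T U)).w) z)
  simp only [Scheme.Hom.comp_apply] at h3
  change PicF.XTproj f T (PicF.XTmap f (OverRep.res T U) z) ∈ U
  rw [h3]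
  exact (PicF.XTproj f _ z).2

theorem mem_OO {z : PicF.XT f T} (hz : z ∈ V) (hU : PicF.XTproj f T z ∈ U) : z ∈ OO f T U V := by
  obtain ⟨z', rfl⟩ := range_XTmap_res f T U z hU
  exact ⟨z', hz, rfl⟩

theorem le_OO : pb f (OverRep.res T U) V ≤ PicF.XTmap f (OverRep.res T U) ⁻¹ᵁ (OO f T U V) :=
  (Scheme.Hom.preimage_image_eq _ _).ge

theorem isAffineOpen_OO (h : IsAffineOpen (pb f (OverRep.res T U) V)) : IsAffineOpen (OO f T U V) :=
  h.image_of_isOpenImmersion _

theorem isPushout_OO : IsPushout ((OverRep.res T U).left.appLE U ⊤ (by simp))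
    ((PicF.XTproj f T).appLE U (OO f T U V) (OO_le_pre f T U V)) (coef f _ (pb f (OverRep.res T U) V))
      ((PicF.XTmap f (OverRep.res T U)).appLE (OO f T U V) (pb f (OverRep.res T U) V) (le_OO f T U V)) := by
  have i1 : IsIso ((OverRep.res T U).left.appLE U ⊤ (by simp)) := isIso_appLE U.ι U ⊤ (by simp) (by simp)
  have i2 : IsIso ((PicF.XTmap f (OverRep.res T U)).appLE (OO f T U V) (pb f (OverRep.res T U) V)
    (le_OO f T U V)) := isIso_appLE _ _ _ rfl _
  refine IsPushout.of_horiz_isIso ⟨?_⟩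
  rw [coef, Scheme.Hom.appLE_comp_appLE, Scheme.Hom.appLE_comp_appLE]
  congr 1
  exact (HilbPull.isPullback_XTmap f (OverRep.res T U)).w.symm

end K928.OpenSq
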