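import Groth.Agent.RelQuot.K928.OfObj
import Mathlib.AlgebraicGeometry.Morphisms.QuasiFinite

/-!
# Frames at points
-/

set_option autoImplicit false
set_option linter.style.haveILetI false
set_option linter.dupNamespace false
universe u v

open CategoryTheory CategoryTheory.Limits AlgebraicGeometry Opposite TopologicalSpace

namespace K928.Pts

open Groth.Agent.Fga.QTDefs Groth.Agent.Fga.QT2 Groth.Agent.Ega1.SubSheaf
  K928.Cap K928.UB K928.Sec K928.Sq K928.Frame K928.ObjOf K928.OfObj Groth.Agent.Picfga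

variable {X Y : Scheme.{u}} (f : X ⟶ Y) {E : X.Modules}

/-- finite sets of points of `X_T`, `T` affine, are contained in affine opens -/
def AFb : Prop := ∀ (T : Over Y), IsAffine T.left → ∀ s : Set (PicF.XT f T), s.Finite →
  ∃ U : (PicF.XT f T).Opens, IsAffineOpen U ∧ s ⊆ U

variable {f}

/-- an affine open of `X_T` over an affine open of `T`, containing a given finite part of a fibre -/
theorem exists_affine_of_fibre (hAF : AFb f) (T : Over Y) (t : T.left) {U₀ : T.left.Opens} (ht : t ∈ U₀)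
    (hU₀ : IsAffineOpen U₀) (s : Set (PicF.XT f T)) (hs : s.Finite) (hst : ∀ z ∈ s, PicF.XTproj f T z = t) :
    ∃ V : (PicF.XT f T).Opens, IsAffineOpen V ∧ V ≤ PicF.XTproj f T ⁻¹ᵁ U₀ ∧ s ⊆ V := by
  let j := PicF.XTmap f (OverRep.res T U₀)
  have hfin : (j ⁻¹' s).Finite := hs.preimage j.isOpenEmbedding.injective.injOn
  obtain ⟨V, hV, hsV⟩ := hAF (Over.mk (U₀.ι ≫ T.hom)) hU₀ (j ⁻¹' s) hfin
  refine ⟨j ''ᵁ V, hV.image_of_isOpenImmersion j, ?_, ?_⟩
  · rintro _ ⟨z, hz, rfl⟩
    have h3 := congr($((HilbPull.isPullback_XTmap f (OverRep.res T U₀)).w) z)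
    simp only [Scheme.Hom.comp_apply] at h3
    change PicF.XTproj f T (PicF.XTmap f (OverRep.res T U₀) z) ∈ U₀
    rw [h3]
    exact (PicF.XTproj f _ z).2
  · intro z hz
    obtain ⟨z', rfl⟩ := range_XTmap_res f T U₀ z (by rw [hst z hz]; exact ht)
    exact ⟨z', hsV hz, rfl⟩

/-- the part of the support of a finite closed subscheme in a fibre is finite -/
theorem finite_support_fibre {P T : Scheme.{u}} (p : P ⟶ T) (I : P.IdealSheafData) [IsFinite (I.subschemeι ≫ p)]
    (t : T) : {z : P | z ∈ I.support ∧ p z = t}.Finite := by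
  have h1 : ((I.subschemeι ≫ p) ⁻¹' {t}).Finite := IsFinite.finite_preimage_singleton _ t
  refine (h1.image I.subschemeι).subset ?_
  rintro z ⟨hz, hzt⟩
  rw [← SetLike.mem_coe, ← I.range_subschemeι] at hz
  obtain ⟨w, rfl⟩ := hz
  refine ⟨w, ?_, rfl⟩
  rw [Set.mem_preimage, Scheme.Hom.comp_apply, hzt]
  rfl

/-- **Frames at points.** -/
theorem exists_frame_point [IsProper f] (hAF : AFb f) (hE : Coh.IsQCoh E) (T : Over Y)
    {K : Subobject (FGA.ET f E T)} {d : ℕ} (hK : QuotD.IsRelFinLen (PicF.XTproj f T) d (cokernel K.arrow))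
    {T' : Over Y} [IsAffine T'.left] [Subsingleton T'.left] [Nonempty T'.left] (x : T' ⟶ T) :
    ∃ (V W : (PicF.XT f T').Opens) (e : Fin d → Γ(FGA.ET f E T', V)), Frame f T' (FGA.quotPull f E x K) V W e := by
  obtain ⟨x₀⟩ := (inferInstance : Nonempty T'.left)
  let t := x.left x₀
  obtain ⟨U₀, hU₀, ht, -⟩ := exists_aff (show t ∈ (⊤ : T.left.Opens) from trivial)
  obtain ⟨I, hI, hIK⟩ := hK.2.1
  have hfin := finite_support_fibre (PicF.XTproj f T) I t
  obtain ⟨V, hV, hVU, hsV⟩ := exists_affine_of_fibre hAF T t ht hU₀ _ hfin (fun z hz => hz.2)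
  let W : (PicF.XT f T).Opens := I.support.compl
  have hW : Away K W := away_of_killed (isQCoh_ET f hE T) I hIK fun x hx => hx
  obtain ⟨N, -, htN, hN⟩ := exists_frame_nhd f hE T hK t ht hU₀ hV hVU hW (fun z hz => by
    by_cases hzI : z ∈ I.support
    · exact Or.inl (hsV ⟨hzI, hz⟩)
    · exact Or.inr hzI)
  obtain ⟨U, hU, htU, hUN⟩ := exists_aff htN
  obtain ⟨e, he⟩ := hN U hUN hU
  have hxU : Set.range x.left ⊆ Set.range U.ι := by
    rintro _ ⟨y, rfl⟩
    rw [Subsingleton.elim y x₀]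
    exact ⟨⟨t, htU⟩, rfl⟩
  let x' : T' ⟶ Over.mk (U.ι ≫ T.hom) := Over.homMk (IsOpenImmersion.lift U.ι x.left hxU) (by
    change IsOpenImmersion.lift U.ι x.left hxU ≫ U.ι ≫ T.hom = T'.hom
    rw [IsOpenImmersion.lift_fac_assoc, Over.w])
  have hx' : x' ≫ OverRep.res T U = x := by
    ext1
    exact IsOpenImmersion.lift_fac U.ι x.left hxU
  have i1 : IsAffine (Over.mk (U.ι ≫ T.hom) : Over Y).left := hU
  have hKq := isQCoh_quotPull f (OverRep.res T U) hK.1
  have h1 := he.pull hE hKq x'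
  rw [← Groth.Agent.Fga.QuotPull.quotPull_comp, hx'] at h1
  exact ⟨_, _, _, h1⟩

end K928.Pts
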