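import Groth.Agent.RelQuot.K928.Gens
import Groth.Agent.RelQuot.K928.DivBas
import Groth.Agent.RelQuot.K928.OpenSq
import Groth.Agent.RelQuot.K928.Pts
import Groth.Agent.RelQuot.K928.Chart
import Groth.Agent.S1184
import Groth.Agent.Grass.K652.LfRank

/-!
# Existence of charts
-/

set_option autoImplicit false
set_option linter.style.haveILetI false
universe u v

open CategoryTheory CategoryTheory.Limits AlgebraicGeometry Opposite TopologicalSpace

namespace K928.ChartEx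

open K928.Cap K928.UB K928.Sec K928.SecEx K928.Sq K928.Frame K928.ObjOf K928.OfObj K928.OpenSq K928.Pts K928.DivAlg
  K928.Gens K928.DivBas K928.Chart Groth.Agent.Picfga

variable {X Y : Scheme.{u}} {f : X ⟶ Y} {S : ShortComplex X.Modules}

theorem exists_chart (hS : Hyp S) [IsProper f] [SmoothOfRelativeDimension 1 f] (hAF : AFb f) (T : Over Y)
    [IsAffine T.left] {a b : ℕ} {ξ : Subobject (FGA.ET f S.X₁ T)}
    (hξ : QuotD.IsRelFinLen (PicF.XTproj f T) a (cokernel ξ.arrow)) (D : HilbD.Obj f b T) (t : T.left) :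
    ∃ (U : T.left.Opens), t ∈ U ∧ IsAffineOpen U ∧
      ∃ (V W : (PicF.XT f (Over.mk (U.ι ≫ T.hom))).Opens) (x : Fin a → Γ(FGA.ET f S.X₁ (Over.mk (U.ι ≫ T.hom)), V))
        (y : Γ(FGA.ET f S.X₂ (Over.mk (U.ι ≫ T.hom)), V))
        (e : Fin b → Γ(FGA.ET f S.X₃ (Over.mk (U.ι ≫ T.hom)), V)),
        Chart f S (Over.mk (U.ι ≫ T.hom)) (FGA.quotPull f S.X₁ (OverRep.res T U) ξ)
          (HilbD.pull f (OverRep.res T U) D.1) V W x y e := by
  let p := PicF.XTproj f T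
  have i0 := smoothOfRelativeDimension_isStableUnderBaseChange.{u} 1
  have i1 : SmoothOfRelativeDimension 1 (PicF.XTproj f T) :=
    MorphismProperty.pullback_snd (P := @SmoothOfRelativeDimension 1) f T.hom ‹_›
  have hDc : BlowUp.IsEffCartierIdeal D.1 := ((Groth.Agent.S1184.result (PicF.XTproj f T) D.1).2 D.2.1).1
  obtain ⟨I, hI, hIK⟩ := hξ.2.1
  have hDf : IsFinite (D.1.subschemeι ≫ PicF.XTproj f T) := D.2.1.1
  have hfin := (finite_support_fibre (PicF.XTproj f T) I t).union (finite_support_fibre (PicF.XTproj f T) D.1 t)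
  obtain ⟨V₁, hV₁, hsV₁⟩ := hAF T inferInstance _ hfin
  have hL : FlatMod.IsFinLocFreeOfRank 1 (FGA.ET f S.X₃ T) := K652.LfRank.pullback _ hS.lf
  obtain ⟨V, -, hV, hsV, l, j, hlj⟩ := exists_gn hL hDc hV₁ _ hfin hsV₁
  let W : (PicF.XT f T).Opens := I.support.compl ⊓ D.1.support.compl
  have hW : Away ξ W := away_of_killed (isQCoh_ET f hS.q1 T) I hIK fun x hx => hx.1
  have hVU : V ≤ PicF.XTproj f T ⁻¹ᵁ ⊤ := le_top
  have hcov : ∀ z, PicF.XTproj f T z = t → z ∈ V ⊔ W := by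
    intro z hz
    by_cases hzI : z ∈ I.support
    · exact Or.inl (hsV (Or.inl ⟨hzI, hz⟩))
    · by_cases hzD : z ∈ D.1.support
      · exact Or.inl (hsV (Or.inr ⟨hzD, hz⟩))
      · exact Or.inr ⟨hzI, hzD⟩
  obtain ⟨N₁, -, htN₁, hN₁⟩ := exists_frame_nhd f hS.q1 T hξ t (U₀ := ⊤) trivial (isAffineOpen_top _) hV hVU hW hcov
  obtain ⟨N₃, htN₃, hN₃⟩ := exists_cover_nhd f T t V W hcov
  obtain ⟨N₂, htN₂, ⟨fr⟩⟩ := K247.FrDeg.exists_fr_of_deg D.2 t
  obtain ⟨U, hU, htU, hUN⟩ := exists_aff (show t ∈ N₁ ⊓ (N₂ ⊓ N₃) from ⟨htN₁, htN₂, htN₃⟩)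
  have hUN₁ : U ≤ N₁ := hUN.trans inf_le_left
  have hUN₂ : U ≤ N₂ := hUN.trans (inf_le_right.trans inf_le_left)
  have hUN₃ : U ≤ N₃ := hUN.trans (inf_le_right.trans inf_le_right)
  obtain ⟨x, hx⟩ := hN₁ U hUN₁ hU
  have i2 : IsAffine (Over.mk (U.ι ≫ T.hom) : Over Y).left := hU
  let g := OverRep.res T U
  have hV' : IsAffineOpen (pb f g V) := isAffineOpen_pb_res f T (isAffineOpen_top _) hV hVU hU le_top
  have hO : IsAffineOpen (OO f T U V) := isAffineOpen_OO f T U V hV'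
  obtain ⟨l', j', hlj'⟩ := hlj.res (OO_le f T U V)
  obtain ⟨v, hv⟩ := exists_basis (PicF.XTproj f T) D.1 fr hUN₂ hO (OO_le_pre f T U V) (by
    intro z hz hzU
    obtain ⟨z', rfl⟩ := range_XTmap_res f T U z hzU
    have h4 : z' ∈ pb f g V ⊔ pb f g W := by rw [hN₃ U hUN₃]; trivial
    rcases h4 with h4 | h4
    · exact ⟨z', h4, rfl⟩
    · exact absurd hz h4.2)
  have hac := hlj'.ac hO ((PicF.XTproj f T).appLE U (OO f T U V) (OO_le_pre f T U V)) hv
  have hac' := AC.baseChange (isPushout_OO f T U V)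
    (isBC_ps f (E := S.X₃) g (le_OO f T U V) hS.q3 hO hV') hac
  obtain ⟨y, hy⟩ := iTl_surjective f S hS.ex (isFinLocFree_of_rank hS.lf) _ (pb f g V) hS.q2 hV'
    (ps f S.X₃ g (le_OO f T U V) (dl D.1 j' • l' 0))
  refine ⟨U, htU, hU, pb f g V, pb f g W, x, y, fun i => ps f S.X₃ g (le_OO f T U V) (v i • l' 0), hx, ?_, ?_⟩
  · intro z hz hzD
    rw [HilbPull.pull_eq_comap, Scheme.IdealSheafData.support_comap] at hzD
    have hz' : PicF.XTmap f g z ∈ W := hz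
    exact hz'.2 hzD
  · rw [hy]
    have h2 : (HilbD.pull f g D.1).ideal ⟨pb f g V, hx.aff⟩ =
        (D.1.ideal ⟨OO f T U V, hO⟩).map ((PicF.XTmap f g).appLE (OO f T U V) (pb f g V) (le_OO f T U V)).hom := by
      rw [HilbPull.pull_eq_comap]
      exact Groth.Agent.Divis.IdealComap.ideal_comap D.1 (PicF.XTmap f g) ⟨OO f T U V, hO⟩ ⟨pb f g V, hx.aff⟩
        (le_OO f T U V)
    rw [h2]
    exact hac'

end K928.ChartEx
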