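import Mathlib.AlgebraicGeometry.Morphisms.Finite
import Mathlib.AlgebraicGeometry.Morphisms.ClosedImmersion
import Mathlib.AlgebraicGeometry.Morphisms.Proper

/-!
# Closed subschemes contained in an affine open, finite over an affine base
-/

set_option autoImplicit false
universe u

open CategoryTheory CategoryTheory.Limits AlgebraicGeometry Opposite TopologicalSpace

namespace K928.ClImm

variable {P T : Scheme.{u}} (p : P ⟶ T) {V : P.Opens} (hV : IsAffineOpen V) (𝔞 : Ideal Γ(P, V))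

/-- the quotient map -/
noncomputable def mkH : Γ(P, V) ⟶ .of (Γ(P, V) ⧸ 𝔞) := CommRingCat.ofHom (Ideal.Quotient.mk 𝔞)

/-- `Spec (Γ(P, V) / 𝔞) ⟶ P` -/
noncomputable def z : Spec (.of (Γ(P, V) ⧸ 𝔞)) ⟶ P :=
  Spec.map (mkH 𝔞) ≫ hV.fromSpec

theorem z_comp [IsAffine T] : z hV 𝔞 ≫ p =
    Spec.map (p.appLE ⊤ V le_top ≫ mkH 𝔞) ≫ T.isoSpec.inv := by
  rw [z, Category.assoc, ← (isAffineOpen_top T).SpecMap_appLE_fromSpec p hV le_top, Spec.map_comp,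
    Category.assoc, IsAffineOpen.fromSpec_top]

theorem isFinite_z_comp [IsAffine T]
    (hfin : ((Ideal.Quotient.mk 𝔞).comp (p.appLE ⊤ V le_top).hom).Finite) : IsFinite (z hV 𝔞 ≫ p) := by
  rw [z_comp]
  have : IsFinite (Spec.map (p.appLE ⊤ V le_top ≫ mkH 𝔞)) :=
    (IsFinite.SpecMap_iff _).2 hfin
  infer_instance

instance : IsPreimmersion (z hV 𝔞) := by
  have : IsClosedImmersion (Spec.map (mkH 𝔞)) :=
    IsClosedImmersion.spec_of_surjective _ Ideal.Quotient.mk_surjective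
  unfold z
  infer_instance

theorem isClosedImmersion_z [IsAffine T] [IsSeparated p]
    (hfin : ((Ideal.Quotient.mk 𝔞).comp (p.appLE ⊤ V le_top).hom).Finite) : IsClosedImmersion (z hV 𝔞) := by
  have h1 := isFinite_z_comp p hV 𝔞 hfin
  have h2 : IsProper (z hV 𝔞) := IsProper.of_comp (z hV 𝔞) p
  exact IsClosedImmersion.of_isPreimmersion _ ((z hV 𝔞).isClosedMap.isClosed_range)

theorem range_z_le : Set.range (z hV 𝔞) ⊆ V := by
  rintro _ ⟨x, rfl⟩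
  rw [z, Scheme.Hom.comp_apply]
  exact hV.range_fromSpec ▸ ⟨_, rfl⟩

theorem z_preimage : z hV 𝔞 ⁻¹ᵁ V = ⊤ := by
  rw [eq_top_iff]
  intro x _
  exact range_z_le hV 𝔞 ⟨x, rfl⟩

theorem z_appLE : (z hV 𝔞).appLE V ⊤ (z_preimage hV 𝔞).ge =
    mkH 𝔞 ≫ (Scheme.ΓSpecIso (.of (Γ(P, V) ⧸ 𝔞))).inv := by
  have h1 : (z hV 𝔞).appLE V ⊤ (z_preimage hV 𝔞).ge = hV.fromSpec.appLE V ⊤ hV.fromSpec_preimage_self.ge ≫
      (Spec.map (mkH 𝔞)).appLE ⊤ ⊤ le_top := by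
    rw [Scheme.Hom.appLE_comp_appLE]
    rfl
  have h3 : (Spec.map (mkH 𝔞)).appLE ⊤ ⊤ le_top = (Spec.map (mkH 𝔞)).appTop :=
    Scheme.Hom.appLE_eq_app _
  have h2 : hV.fromSpec.appLE V ⊤ hV.fromSpec_preimage_self.ge = (Scheme.ΓSpecIso Γ(P, V)).inv := by
    rw [Scheme.Hom.appLE, hV.fromSpec_app_self, Category.assoc, ← Functor.map_comp]
    have : (eqToHom hV.fromSpec_preimage_self).op ≫ (homOfLE hV.fromSpec_preimage_self.ge).op = 𝟙 _ := rfl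
    rw [this, CategoryTheory.Functor.map_id, Category.comp_id]
  rw [h1, h2, h3, ← Scheme.ΓSpecIso_inv_naturality]

theorem ideal_ker_z [QuasiCompact (z hV 𝔞)] : (z hV 𝔞).ker.ideal ⟨V, hV⟩ = 𝔞 := by
  rw [Scheme.Hom.ker_apply]
  ext a
  rw [RingHom.mem_ker]
  have h1 : ((z hV 𝔞).appLE V ⊤ (z_preimage hV 𝔞).ge).hom a = 0 ↔ ((z hV 𝔞).app V).hom a = 0 := by
    rw [Scheme.Hom.appLE]
    have : IsIso ((Spec (.of (Γ(P, V) ⧸ 𝔞))).presheaf.map (homOfLE (z_preimage hV 𝔞).ge).op) := by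
      have h2 : (homOfLE (z_preimage hV 𝔞).ge) = eqToHom (z_preimage hV 𝔞).symm := rfl
      rw [h2]
      infer_instance
    exact map_eq_zero_iff _ (ConcreteCategory.bijective_of_isIso
      ((Spec (.of (Γ(P, V) ⧸ 𝔞))).presheaf.map (homOfLE (z_preimage hV 𝔞).ge).op)).1
  rw [← h1, z_appLE]
  change (Scheme.ΓSpecIso (.of (Γ(P, V) ⧸ 𝔞))).inv.hom (Ideal.Quotient.mk 𝔞 a) = 0 ↔ _
  rw [map_eq_zero_iff _ (ConcreteCategory.bijective_of_isIso (Scheme.ΓSpecIso (.of (Γ(P, V) ⧸ 𝔞))).inv).1,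
    Ideal.Quotient.eq_zero_iff_mem]

theorem ideal_ker_eq_top {Z : Scheme.{u}} (z : Z ⟶ P) [QuasiCompact z] (U : P.affineOpens)
    (hU : ∀ x, z x ∉ U.1) : z.ker.ideal U = ⊤ := by
  rw [Scheme.Hom.ker_apply, Ideal.eq_top_iff_one, RingHom.mem_ker, map_one]
  have h1 : z ⁻¹ᵁ U.1 = ⊥ := by
    rw [eq_bot_iff]
    intro x hx
    exact hU x hx
  have : Subsingleton Γ(Z, z ⁻¹ᵁ U.1) := by
    rw [h1]
    infer_instance
  exact Subsingleton.elim _ _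

end K928.ClImm
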