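import Mathlib.Algebra.BigOperators.Fin
import Mathlib.Algebra.BigOperators.Ring.Finset
import Mathlib.Data.Fin.Tuple.Basic
import Mathlib.Logic.Equiv.Fin.Basic
import Mathlib.Tactic.Ring

/-!
# The combinatorial identity
-/

set_option autoImplicit false

namespace K928.Comb

variable {R : Type*} [CommRing R]

/-- the recursion -/
def Cr (s : ℕ → R) (L : R) : ℕ → ℕ → R
  | 0, d => if d = 0 then 1 else 0
  | r + 1, d => ∑ a : Fin (d + 1), Cr s L r a * s (a.rev : ℕ) * L ^ (a : ℕ)

theorem Cr_zero (s : ℕ → R) (L : R) (d : ℕ) : Cr s L 0 d = if d = 0 then 1 else 0 := rfl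

theorem Cr_succ (s : ℕ → R) (L : R) (r d : ℕ) :
    Cr s L (r + 1) d = ∑ a : Fin (d + 1), Cr s L r a * s (a.rev : ℕ) * L ^ (a : ℕ) := rfl

theorem Cr_eq (s : ℕ → R) (L : R) (D : ℕ) (r d : ℕ) (hd : d ≤ D) :
    Cr s L r d = ∑ α ∈ (Finset.univ : Finset (Fin r → Fin (D + 1))).filter (fun α => ∑ i, (α i : ℕ) = d),
      ∏ i : Fin r, s (α i) * L ^ ((i : ℕ) * (α i : ℕ)) := by
  induction r generalizing d with
  | zero =>
    rw [Cr_zero, Finset.sum_filter]
    simp [eq_comm]
  | succ r ih =>
    set G : (Fin r → Fin (D + 1)) → R := fun β => ∏ i : Fin r, s (β i) * L ^ ((i : ℕ) * (β i : ℕ)) with hG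
    set t : (Fin r → Fin (D + 1)) → ℕ := fun β => ∑ i, (β i : ℕ) with ht
    have hL : ∀ β : Fin r → Fin (D + 1), ∏ i : Fin r, s (β i) * L ^ (((i : ℕ) + 1) * (β i : ℕ)) = G β * L ^ t β := by
      intro β
      rw [hG, ht]
      simp only
      rw [← Finset.prod_pow_eq_pow_sum, ← Finset.prod_mul_distrib]
      refine Finset.prod_congr rfl fun i _ => ?_
      rw [add_mul, one_mul, pow_add, mul_assoc]
    -- the common value
    have h1 : Cr s L (r + 1) d = ∑ β, if t β ≤ d then G β * s (d - t β) * L ^ t β else 0 := by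
      rw [Cr_succ]
      have h2 : ∀ a : Fin (d + 1), Cr s L r a * s (a.rev : ℕ) * L ^ (a : ℕ) =
          ∑ β, if t β = a then G β * s (d - t β) * L ^ t β else 0 := by
        intro a
        rw [ih a (by omega), Finset.sum_filter, Finset.sum_mul, Finset.sum_mul]
        refine Finset.sum_congr rfl fun β _ => ?_
        by_cases h : t β = a
        · rw [if_pos h, if_pos h, Fin.val_rev, h]
          congr 3
          omega
        · rw [if_neg h, if_neg h, zero_mul, zero_mul]
      rw [Finset.sum_congr rfl fun a _ => h2 a, Finset.sum_comm]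
      refine Finset.sum_congr rfl fun β _ => ?_
      by_cases h : t β ≤ d
      · rw [if_pos h, Finset.sum_eq_single (⟨t β, by omega⟩ : Fin (d + 1))]
        · rw [if_pos rfl]
        · intro a _ ha
          rw [if_neg]
          intro h3
          exact ha (Fin.ext h3.symm)
        · intro h3
          exact absurd (Finset.mem_univ _) h3
      · rw [if_neg h]
        refine Finset.sum_eq_zero fun a _ => ?_
        rw [if_neg]
        have := a.2
        omega
    rw [h1, Finset.sum_filter, ← (Fin.consEquiv (fun _ : Fin (r + 1) => Fin (D + 1))).sum_comp,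
      Fintype.sum_prod_type, Finset.sum_comm]
    refine Finset.sum_congr rfl fun β _ => ?_
    have h4 : ∀ x : Fin (D + 1), (if ∑ i, ((Fin.consEquiv (fun _ : Fin (r + 1) => Fin (D + 1))) (x, β) i : ℕ) = d then
        ∏ i : Fin (r + 1), s ((Fin.consEquiv (fun _ : Fin (r + 1) => Fin (D + 1))) (x, β) i : ℕ) *
          L ^ ((i : ℕ) * ((Fin.consEquiv (fun _ : Fin (r + 1) => Fin (D + 1))) (x, β) i : ℕ)) else 0) =
        if (x : ℕ) + t β = d then G β * s x * L ^ t β else 0 := by
      intro x
      have h5 : ∑ i, ((Fin.consEquiv (fun _ : Fin (r + 1) => Fin (D + 1))) (x, β) i : ℕ) = (x : ℕ) + t β := by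
        rw [Fin.sum_univ_succ]
        rfl
      have h6 : ∏ i : Fin (r + 1), s ((Fin.consEquiv (fun _ : Fin (r + 1) => Fin (D + 1))) (x, β) i : ℕ) *
          L ^ ((i : ℕ) * ((Fin.consEquiv (fun _ : Fin (r + 1) => Fin (D + 1))) (x, β) i : ℕ)) =
          G β * s x * L ^ t β := by
        rw [Fin.prod_univ_succ]
        have h7 : ∏ i : Fin r, s ((Fin.consEquiv (fun _ : Fin (r + 1) => Fin (D + 1))) (x, β) i.succ : ℕ) *
            L ^ ((i.succ : ℕ) * ((Fin.consEquiv (fun _ : Fin (r + 1) => Fin (D + 1))) (x, β) i.succ : ℕ)) =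
            G β * L ^ t β := hL β
        rw [h7]
        have h8 : ((Fin.consEquiv (fun _ : Fin (r + 1) => Fin (D + 1))) (x, β) 0 : ℕ) = x := rfl
        rw [h8, Fin.val_zero, zero_mul, pow_zero]
        ring
      rw [h5, h6]
    rw [Finset.sum_congr rfl fun x _ => h4 x]
    by_cases h : t β ≤ d
    · rw [if_pos h, Finset.sum_eq_single (⟨d - t β, by omega⟩ : Fin (D + 1))]
      · rw [if_pos (Nat.sub_add_cancel h)]
      · intro x _ hx
        rw [if_neg]
        intro h3
        exact hx (Fin.ext (by simp; omega))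
      · intro h3
        exact absurd (Finset.mem_univ _) h3
    · rw [if_neg h]
      symm
      refine Finset.sum_eq_zero fun x _ => ?_
      rw [if_neg]
      omega

end K928.Comb
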