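import Groth.Agent.RelQuot.K928.Frame

/-!
# Invertible submodules with free quotient: algebra and base change
-/

set_option autoImplicit false
set_option linter.style.haveILetI false
universe u v

open CategoryTheory

namespace K928.DivAlg

open Groth.Agent.CohqA.BaseChangeMod K928.UB K928.Frame K928.Sec

/-- `I·L = A·y`, `A ≅ A·y`, and `L/Ay` has the basis `e` over `R` -/
structure AC {R A L κ : Type*} [CommRing R] [CommRing A] [AddCommGroup L] [Module A L] [Fintype κ]
    (ρ : R →+* A) (I : Ideal A) (y : L) (e : κ → L) : Prop where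
  gen : I • (⊤ : Submodule A L) = Submodule.span A {y}
  inj : ∀ c : A, c • y = 0 → c = 0
  bas : IsUB ρ (fun i => (Submodule.Quotient.mk (e i) : L ⧸ Submodule.span A {y}))

theorem map_smul_top {A B M M' : Type u} [CommRing A] [CommRing B] [AddCommGroup M] [Module A M]
    [AddCommGroup M'] [Module B M'] {φ : A →+* B} {m : M →+ M'} (h : IsBC φ m) (I : Ideal A) :
    I.map φ • (⊤ : Submodule B M') = Submodule.span B (m '' ((I • (⊤ : Submodule A M) : Submodule A M) : Set M)) := by
  apply le_antisymm
  · rw [Submodule.smul_le]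
    rintro b hb n -
    have h1 : n ∈ Submodule.span B (Set.range m) := by rw [span_range_of_isBC h]; trivial
    induction hb using Submodule.span_induction with
    | mem b hb =>
      obtain ⟨a, ha, rfl⟩ := hb
      induction h1 using Submodule.span_induction with
      | mem n hn =>
        obtain ⟨x, rfl⟩ := hn
        rw [← h.map_smul]
        exact Submodule.subset_span ⟨a • x, Submodule.smul_mem_smul ha trivial, rfl⟩
      | zero => rw [smul_zero]; exact Submodule.zero_mem _
      | add x y _ _ hx hy => rw [smul_add]; exact Submodule.add_mem _ hx hy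
      | smul c x _ hx => rw [smul_comm]; exact Submodule.smul_mem _ _ hx
    | zero => rw [zero_smul]; exact Submodule.zero_mem _
    | add x y _ _ hx hy => rw [add_smul]; exact Submodule.add_mem _ hx hy
    | smul c x _ hx => rw [smul_eq_mul, mul_smul]; exact Submodule.smul_mem _ _ hx
  · rw [Submodule.span_le]
    rintro _ ⟨x, hx, rfl⟩
    induction hx using Submodule.smul_induction_on' with
    | smul a ha n hn =>
      rw [SetLike.mem_coe, h.map_smul]
      exact Submodule.smul_mem_smul (Ideal.mem_map_of_mem φ ha) trivial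
    | add x _ y _ hx hy =>
      rw [SetLike.mem_coe, map_add]
      exact Submodule.add_mem _ hx hy

theorem span_image_singleton {A B M M' : Type u} [CommRing A] [CommRing B] [AddCommGroup M] [Module A M]
    [AddCommGroup M'] [Module B M'] {φ : A →+* B} {m : M →+ M'} (h : ∀ (a : A) (x : M), m (a • x) = φ a • m x) (y : M) :
    Submodule.span B (m '' ((Submodule.span A {y} : Submodule A M) : Set M)) = Submodule.span B {m y} := by
  apply le_antisymm
  · rw [Submodule.span_le]
    rintro _ ⟨x, hx, rfl⟩
    obtain ⟨a, rfl⟩ := Submodule.mem_span_singleton.1 hx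
    rw [SetLike.mem_coe, h]
    exact Submodule.smul_mem _ _ (Submodule.mem_span_singleton_self _)
  · rw [Submodule.span_singleton_le_iff_mem]
    exact Submodule.subset_span ⟨y, Submodule.mem_span_singleton_self _, rfl⟩

variable {R S A B : CommRingCat.{u}} {i : R ⟶ S} {j : R ⟶ A} {k : S ⟶ B} {l : A ⟶ B}
  {κ : Type*} [Fintype κ]

/-- the data base change -/
theorem AC.baseChange (H : IsPushout i j k l) {M M' : Type u} [AddCommGroup M] [Module A M]
    [AddCommGroup M'] [Module B M'] {m : M →+ M'} (h : IsBC l.hom m) {I : Ideal A} {y : M} {e : κ → M}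
    (hc : AC j.hom I y e) : AC k.hom (I.map l.hom) (m y) (fun x => m (e x)) := by
  have hs := span_image_singleton h.map_smul y
  obtain ⟨q, hq, hbc⟩ := isBC_quot h (Submodule.span A {y}) (Submodule.span B {m y}) hs.symm
  refine ⟨?_, fun b hb => ?_, ?_⟩
  · rw [map_smul_top h, hc.gen, hs]
  · exact injective_baseChange H h y hc.inj hc.bas b hb
  · have h2 := IsUB.baseChange H hbc hc.bas
    have h3 : (fun i => q (Submodule.Quotient.mk (e i))) =
        fun i => (Submodule.Quotient.mk (m (e i)) : M' ⧸ Submodule.span B {m y}) := funext fun i => hq _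
    rw [← h3]
    exact h2

/-- base change of the extension submodules -/
theorem span_image_Nx {A B E' E F' F : Type u} [CommRing A] [CommRing B] [AddCommGroup E'] [Module A E']
    [AddCommGroup E] [Module A E] [AddCommGroup F'] [Module B F'] [AddCommGroup F] [Module B F]
    {φ : A →+* B} {m' : E' →+ F'} {m : E →+ F} (hm : ∀ (a : A) (x : E), m (a • x) = φ a • m x)
    (ι : E' →ₗ[A] E) (ι' : F' →ₗ[B] F) (hc : ∀ x, m (ι x) = ι' (m' x)) (N : Submodule A E') (y : E) :
    Submodule.span B (m '' (Nx ι N y : Set E)) = Nx ι' (Submodule.span B (m' '' (N : Set E'))) (m y) := by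
  apply le_antisymm
  · rw [Submodule.span_le]
    rintro _ ⟨x, hx, rfl⟩
    obtain ⟨n, hn, b, rfl⟩ := mem_Nx.1 hx
    rw [SetLike.mem_coe, map_add, hm, hc, mem_Nx]
    exact ⟨m' n, Submodule.subset_span ⟨n, hn, rfl⟩, φ b, rfl⟩
  · rw [Nx, sup_le_iff, Submodule.span_singleton_le_iff_mem, Submodule.map_span, Submodule.span_le]
    constructor
    · rintro _ ⟨_, ⟨n, hn, rfl⟩, rfl⟩
      rw [← hc]
      exact Submodule.subset_span ⟨ι n, mem_Nx.2 ⟨n, hn, 0, by rw [zero_smul, add_zero]⟩, rfl⟩
    · exact Submodule.subset_span ⟨y, mem_Nx.2 ⟨0, N.zero_mem, 1, by rw [map_zero, one_smul, zero_add]⟩, rfl⟩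

end K928.DivAlg
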