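import Groth.Agent.RelQuot.K928.Chart

/-!
# The affine family attached to a chart
-/

set_option autoImplicit false
set_option linter.style.haveILetI false
set_option linter.dupNamespace false
universe u v

open CategoryTheory CategoryTheory.Limits AlgebraicGeometry Opposite TopologicalSpace

namespace K928.Fam

open Groth.Agent.Fga.QTDefs Groth.Agent.Fga.QT2 Groth.Agent.Ega1.SubSheaf Groth.Agent.Ega1.SubExt
  Groth.Agent.CohqA.BaseChangeMod K928.Cap K928.UB K928.Sec K928.SecEx K928.Sq K928.Frame K928.OfObj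
  K928.DivAlg K928.Res K928.Chart

variable {X Y : Scheme.{u}} {f : X ⟶ Y} {S : ShortComplex X.Modules} {T T' : Over Y}
  {ξ : Subobject (FGA.ET f S.X₁ T)} {D : (PicF.XT f T).IdealSheafData}
  {V W : (PicF.XT f T).Opens} {a b : ℕ} {x : Fin a → Γ(FGA.ET f S.X₁ T, V)} {y : Γ(FGA.ET f S.X₂ T, V)}
  {e : Fin b → Γ(FGA.ET f S.X₃ T, V)}

theorem res_iTl {E' E : X.Modules} (φ : E' ⟶ E) {U V : (PicF.XT f T).Opens} (h : U ≤ V) (s : Γ(FGA.ET f E' T, V)) :
    res _ h (iTl f φ T V s) = iTl f φ T U (res _ h s) := by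
  rw [iTl_apply, iTl_apply]
  exact (app_res (iT f φ T) h s).symm

theorem appl_iT {E' E : X.Modules} (φ : E' ⟶ E) (V : (PicF.XT f T).Opens) : appl (iT f φ T) V = iTl f φ T V := by
  ext s
  rw [iTl_apply]
  rfl

theorem secSub_cm' {E' E : X.Modules} (φ : E' ⟶ E) (K : Subobject (FGA.ET f E T)) (U : (PicF.XT f T).Opens) :
    secSub (cm (iT f φ T) K) U = (secSub K U).comap (iTl f φ T U) := by
  rw [secSub_cm, appl_iT]

theorem secSub_im' {E' E : X.Modules} (φ : E' ⟶ E) (h1 : Coh.IsQCoh E') (h2 : Coh.IsQCoh E)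
    {K : Subobject (FGA.ET f E' T)} (hK : Coh.IsQCoh (cokernel K.arrow)) {U : (PicF.XT f T).Opens} (hU : IsAffineOpen U) :
    secSub (im (iT f φ T) K) U = (secSub K U).map (iTl f φ T U) := by
  rw [secSub_im _ (isQCoh_ET f h1 T) (isQCoh_ET f h2 T) hK hU, appl_iT]

theorem iTl_comp (hS : Hyp S) (V : (PicF.XT f T).Opens) (s : Γ(FGA.ET f S.X₁ T, V)) :
    iTl f S.g T V (iTl f S.f T V s) = 0 := (iTl_exact f S hS.ex (isFinLocFree_of_rank hS.lf) T V).apply_apply_eq_zero s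

theorem exists_fam (hS : Hyp S) (hξ : Coh.IsQCoh (cokernel ξ.arrow)) (h : Chart f S T ξ D V W x y e)
    (c : Fin a → Γ(T.left, ⊤)) : ∃ K : Subobject (FGA.ET f S.X₂ T), IsFam W ξ x y c K := by
  obtain ⟨K, h1, h2, h3⟩ := exists_cap (isQCoh_ET f hS.q2 T) h.frame.aff h.frame.sup (NF ξ x y c) (by
    rintro z ⟨hzV, hzW⟩
    obtain ⟨U, hU, hzU, hUVW⟩ := exists_aff (show z ∈ V ⊓ W from ⟨hzV, hzW⟩)
    have hUV : U ≤ V := hUVW.trans inf_le_left
    have hUW : U ≤ W := hUVW.trans inf_le_right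
    refine ⟨U, hUV, hzU, hU, ?_⟩
    rw [eq_top_iff]
    intro s _
    set y' := y + iTl f S.f T V (lc (coef f T V).hom x c) with hy'
    have hπy : iTl f S.g T V y' = iTl f S.g T V y := by
      rw [hy', map_add, iTl_comp hS, add_zero]
    -- the sections of `L`
    have hL : Submodule.span Γ(PicF.XT f T, U) {res _ hUV (iTl f S.g T V y)} = ⊤ := by
      have e1 := isBC_res (FGA.ET f S.X₃ T) (isQCoh_ET f hS.q3 T) h.frame.aff hU hUV
      have e2 := map_smul_top e1 (D.ideal ⟨V, h.frame.aff⟩)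
      have e3 : (D.ideal ⟨V, h.frame.aff⟩).map ((PicF.XT f T).presheaf.map (homOfLE hUV).op).hom = D.ideal ⟨U, hU⟩ :=
        D.map_ideal (U := ⟨U, hU⟩) (V := ⟨V, h.frame.aff⟩) hUV
      have e4 : D.ideal ⟨U, hU⟩ = ⊤ := ideal_eq_top_of_disjoint D ⟨U, hU⟩ fun z hz => h.dis z (hUW hz)
      rw [e3, e4, h.ac.gen, span_image_singleton e1.map_smul] at e2
      rw [← Submodule.top_smul (⊤ : Submodule Γ(PicF.XT f T, U) Γ(FGA.ET f S.X₃ T, U))]
      exact e2.symm
    have h4 : iTl f S.g T U s ∈ Submodule.span Γ(PicF.XT f T, U) {res _ hUV (iTl f S.g T V y)} := by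
      rw [hL]; trivial
    obtain ⟨r, hr⟩ := Submodule.mem_span_singleton.1 h4
    have h5 : iTl f S.g T U (s - r • res _ hUV y') = 0 := by
      rw [map_sub, map_smul, ← res_iTl, hπy, hr, sub_self]
    obtain ⟨s', hs'⟩ := (iTl_exact f S hS.ex (isFinLocFree_of_rank hS.lf) T U _).1 h5
    have h6 : s' ∈ secSub ξ U := by rw [h.frame.away U hUW]; trivial
    rw [secSub_eq_span (isQCoh_ET f hS.q1 T) hξ h.frame.aff hU hUV] at h6
    have h7 : iTl f S.f T U s' ∈ Submodule.span Γ(PicF.XT f T, U) (res _ hUV '' (NF ξ x y c : Set Γ(FGA.ET f S.X₂ T, V))) := by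
      clear hs'
      induction h6 using Submodule.span_induction with
      | mem s' hs' =>
        obtain ⟨t, ht, rfl⟩ := hs'
        rw [← res_iTl]
        exact Submodule.subset_span ⟨_, mem_Nx.2 ⟨t, ht, 0, by rw [zero_smul, add_zero]⟩, rfl⟩
      | zero => rw [map_zero]; exact Submodule.zero_mem _
      | add s t _ _ hs ht => rw [map_add]; exact Submodule.add_mem _ hs ht
      | smul r s _ hs => rw [map_smul]; exact Submodule.smul_mem _ _ hs
    have h8 : s = iTl f S.f T U s' + r • res _ hUV y' := by rw [hs', sub_add_cancel]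
    rw [h8]
    refine Submodule.add_mem _ h7 (Submodule.smul_mem _ _ (Submodule.subset_span ⟨y', ?_, rfl⟩))
    exact mem_Nx.2 ⟨0, Submodule.zero_mem _, 1, by rw [map_zero, one_smul, zero_add]⟩)
  exact ⟨K, h1, h2, h3⟩

theorem IsFam.unique (hS : Hyp S) (hV : IsAffineOpen V) (hVW : V ⊔ W = ⊤) {c : Fin a → Γ(T.left, ⊤)}
    {K K' : Subobject (FGA.ET f S.X₂ T)} (h : IsFam W ξ x y c K) (h' : IsFam W ξ x y c K') : K = K' :=
  eq_of_cap (isQCoh_ET f hS.q2 T) hV hVW h.qc h'.qc h.away h'.away (h.sec.trans h'.sec.symm)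

end K928.Fam
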