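import Groth.Agent.RelQuot.K928.Fam

/-!
# The affine family attached to a chart: base change, type, completeness, frames
-/

set_option autoImplicit false
set_option linter.style.haveILetI false
set_option linter.dupNamespace false
universe u v

open CategoryTheory CategoryTheory.Limits AlgebraicGeometry Opposite TopologicalSpace

namespace K928.Fam2

open Groth.Agent.Fga.QTDefs Groth.Agent.Fga.QT2 Groth.Agent.Ega1.SubSheaf Groth.Agent.Ega1.SubExt
  Groth.Agent.CohqA.BaseChangeMod K928.Cap K928.UB K928.Sec K928.SecEx K928.Sq K928.Frame K928.OfObj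
  K928.DivAlg K928.Res K928.Chart K928.Fam

variable {X Y : Scheme.{u}} {f : X ⟶ Y} {S : ShortComplex X.Modules} {T T' : Over Y}
  {ξ : Subobject (FGA.ET f S.X₁ T)} {D : (PicF.XT f T).IdealSheafData}
  {V W : (PicF.XT f T).Opens} {a b : ℕ} {x : Fin a → Γ(FGA.ET f S.X₁ T, V)} {y : Γ(FGA.ET f S.X₂ T, V)}
  {e : Fin b → Γ(FGA.ET f S.X₃ T, V)}

theorem isFam_pull (hS : Hyp S) [IsAffine T.left] [IsAffine T'.left] (hξ : Coh.IsQCoh (cokernel ξ.arrow))
    (hV : IsAffineOpen V) {c : Fin a → Γ(T.left, ⊤)} {K : Subobject (FGA.ET f S.X₂ T)}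
    (hK : IsFam W ξ x y c K) (g : T' ⟶ T) :
    IsFam (pb f g W) (FGA.quotPull f S.X₁ g ξ) (fun i => pz S.X₁ g V (x i)) (pz S.X₂ g V y)
      (fun i => g.left.appTop.hom (c i)) (FGA.quotPull f S.X₂ g K) := by
  refine ⟨isQCoh_quotPull f g hK.qc, away_quotPull f g hS.q2 hK.qc hK.away, ?_⟩
  have h1 := secSub_quotPull f g (V' := pb f g V) le_rfl hS.q2 hV (isAffineOpen_pb f g hV) hK.qc
  have h2 := secSub_quotPull f g (V' := pb f g V) le_rfl hS.q1 hV (isAffineOpen_pb f g hV) hξ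
  rw [h1, hK.sec, NF, NF, h2]
  have h3 := span_image_Nx (m' := pz S.X₁ g V) (m := pz S.X₂ g V) (ps_smul' g V) (iTl f S.f T V)
    (iTl f S.f T' (pb f g V)) (ps_iTl S.f g V) (secSub ξ V) (y + iTl f S.f T V (lc (coef f T V).hom x c))
  rw [map_add, ps_iTl, ps_lc] at h3
  exact h3

theorem iTl_y (hS : Hyp S) (c : Fin a → Γ(T.left, ⊤)) :
    iTl f S.g T V (y + iTl f S.f T V (lc (coef f T V).hom x c)) = iTl f S.g T V y := by
  rw [map_add, iTl_comp hS, add_zero]

theorem comap_NF (hS : Hyp S) (h : Chart f S T ξ D V W x y e) (c : Fin a → Γ(T.left, ⊤)) :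
    (NF ξ x y c).comap (iTl f S.f T V) = secSub ξ V :=
  comap_Nx (iTl_injective f S hS.ex (isFinLocFree_of_rank hS.lf) T V)
    (iTl_exact f S hS.ex (isFinLocFree_of_rank hS.lf) T V) _ _ (by
      intro b hb
      rw [iTl_y hS] at hb
      exact h.ac.inj b hb)

theorem map_NF (hS : Hyp S) (c : Fin a → Γ(T.left, ⊤)) :
    (NF ξ x y c).map (iTl f S.g T V) = Submodule.span _ {iTl f S.g T V y} := by
  rw [NF, map_Nx (iTl_exact f S hS.ex (isFinLocFree_of_rank hS.lf) T V), iTl_y hS]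

theorem away_im (hS : Hyp S) {K : Subobject (FGA.ET f S.X₂ T)} (hK : Coh.IsQCoh (cokernel K.arrow))
    (h : Away K W) : Away (im (iT f S.g T) K) W := by
  refine away_of_cover (isQCoh_ET f hS.q3 T) fun z hz => ?_
  obtain ⟨U, hU, hzU, hUW⟩ := exists_aff hz
  refine ⟨U, hzU, hU, ?_⟩
  rw [secSub_im' _ hS.q2 hS.q3 hK hU, h U hUW, Submodule.map_top]
  exact LinearMap.range_eq_top.2 (iTl_surjective f S hS.ex (isFinLocFree_of_rank hS.lf) T U hS.q2 hU)

/-- members of the family have the right type -/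
theorem isType_of_isFam (hS : Hyp S) (hξ : Coh.IsQCoh (cokernel ξ.arrow)) (h : Chart f S T ξ D V W x y e)
    {c : Fin a → Γ(T.left, ⊤)} {K : Subobject (FGA.ET f S.X₂ T)} (hK : IsFam W ξ x y c K) :
    IsType f S T K ξ D := by
  refine ⟨?_, ?_⟩
  · refine eq_of_cap (isQCoh_ET f hS.q1 T) h.frame.aff h.frame.sup
      (isQCoh_cm _ (isQCoh_ET f hS.q1 T) hK.qc) hξ (away_cm _ hK.away) h.frame.away ?_
    rw [secSub_cm', hK.sec]
    exact comap_NF hS h c
  · refine eq_of_cap (isQCoh_ET f hS.q3 T) h.frame.aff h.frame.sup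
      (isQCoh_im _ (isQCoh_ET f hS.q2 T) (isQCoh_ET f hS.q3 T) hK.qc)
      (isQCoh_DL D (isQCoh_ET f hS.q3 T)) (away_im hS hK.qc hK.away)
      (away_DL D (isQCoh_ET f hS.q3 T) h.dis) ?_
    rw [secSub_im' _ hS.q2 hS.q3 hK.qc h.frame.aff,
      secSub_DL D (isQCoh_ET f hS.q3 T) h.frame.aff, h.ac.gen, hK.sec]
    exact map_NF hS c

theorem away_of_isType (hS : Hyp S) {K : Subobject (FGA.ET f S.X₂ T)} (hK : Coh.IsQCoh (cokernel K.arrow))
    (ht : IsType f S T K ξ D) (h1 : Away ξ W) (h2 : ∀ z ∈ W, z ∉ D.support) : Away K W := by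
  refine away_of_cover (isQCoh_ET f hS.q2 T) fun z hz => ?_
  obtain ⟨U, hU, hzU, hUW⟩ := exists_aff hz
  refine ⟨U, hzU, hU, ?_⟩
  rw [eq_top_iff]
  intro s _
  have h3 : iTl f S.g T U s ∈ (secSub K U).map (iTl f S.g T U) := by
    have h4 := secSub_im' S.g hS.q2 hS.q3 hK hU
    have h5 : (secSub K U).map (iTl f S.g T U) = secSub (im (iT f S.g T) K) U := h4.symm
    rw [h5, ht.quo, away_DL D (isQCoh_ET f hS.q3 T) h2 U hUW]
    trivial
  obtain ⟨k, hk, hks⟩ := h3
  have h6 : iTl f S.g T U (s - k) = 0 := by rw [map_sub, hks, sub_self]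
  obtain ⟨s', hs'⟩ := (iTl_exact f S hS.ex (isFinLocFree_of_rank hS.lf) T U _).1 h6
  have h7 : s' ∈ (secSub K U).comap (iTl f S.f T U) := by
    have h8 := secSub_cm' S.f K U
    have h9 : (secSub K U).comap (iTl f S.f T U) = secSub (cm (iT f S.f T) K) U := h8.symm
    rw [h9, ht.sub, h1 U hUW]
    trivial
  rw [Submodule.mem_comap, hs'] at h7
  have := (secSub K U).add_mem h7 hk
  rwa [sub_add_cancel] at this

/-- completeness of the family -/
theorem existsUnique_param (hS : Hyp S) (h : Chart f S T ξ D V W x y e)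
    {K : Subobject (FGA.ET f S.X₂ T)} (hK : Coh.IsQCoh (cokernel K.arrow)) (ht : IsType f S T K ξ D) :
    ∃! c : Fin a → Γ(T.left, ⊤), IsFam W ξ x y c K := by
  have hinj := iTl_injective f S hS.ex (isFinLocFree_of_rank hS.lf) T V
  have hex := iTl_exact f S hS.ex (isFinLocFree_of_rank hS.lf) T V
  have h1 : (secSub K V).comap (iTl f S.f T V) = secSub ξ V := by
    rw [← ht.sub]
    exact (secSub_cm' S.f K V).symm
  have h2 : (secSub K V).map (iTl f S.g T V) = Submodule.span _ {iTl f S.g T V y} := by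
    rw [← h.ac.gen, ← secSub_DL D (isQCoh_ET f hS.q3 T) h.frame.aff, ← ht.quo]
    exact (secSub_im' S.g hS.q2 hS.q3 hK h.frame.aff).symm
  obtain ⟨x', -, hx'⟩ := eq_Nx hex (secSub ξ V) y (secSub K V) h1 h2
  have hmk := fun c : Fin a → Γ(T.left, ⊤) => map_lc (coef f T V).hom (Submodule.mkQ (secSub ξ V)) x c
  obtain ⟨c, hc⟩ := h.frame.bas.2 (Submodule.Quotient.mk x')
  refine ⟨c, ⟨hK, away_of_isType hS hK ht h.frame.away h.dis, ?_⟩, ?_⟩
  · rw [hx', NF, Nx_eq_iff hinj hex _ _ h.ac.inj]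
    rw [← Submodule.Quotient.mk_eq_zero, Submodule.Quotient.mk_sub, sub_eq_zero, ← hc]
    exact (hmk c).symm
  · intro c' hc'
    have h3 : NF ξ x y c' = NF ξ x y c := by
      rw [← hc'.sec, hx', NF, Nx_eq_iff hinj hex _ _ h.ac.inj]
      rw [← Submodule.Quotient.mk_eq_zero, Submodule.Quotient.mk_sub, sub_eq_zero, ← hc]
      exact (hmk c).symm
    rw [NF, NF, Nx_eq_iff hinj hex _ _ h.ac.inj, ← Submodule.Quotient.mk_eq_zero, Submodule.Quotient.mk_sub,
      sub_eq_zero] at h3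
    apply h.frame.bas.1
    exact (hmk c').symm.trans (h3.trans (hmk c))

/-- frames for the members of the family -/
theorem exists_frame (hS : Hyp S) (h : Chart f S T ξ D V W x y e)
    {c : Fin a → Γ(T.left, ⊤)} {K : Subobject (FGA.ET f S.X₂ T)} (hK : IsFam W ξ x y c K) :
    ∃ z : Fin a ⊕ Fin b → Γ(FGA.ET f S.X₂ T, V), Frame f T K V W z := by
  have hex := iTl_exact f S hS.ex (isFinLocFree_of_rank hS.lf) T V
  have hsur := iTl_surjective f S hS.ex (isFinLocFree_of_rank hS.lf) T V hS.q2 h.frame.aff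
  obtain ⟨i, p, hi, hp, hip, -, -⟩ := exists_quot_exact hex hsur (secSub K V)
  have h1 : IsUB (coef f T V).hom (fun i => (Submodule.Quotient.mk (x i) :
      Γ(FGA.ET f S.X₁ T, V) ⧸ (secSub K V).comap (iTl f S.f T V))) := by
    rw [hK.sec, comap_NF hS h c]
    exact h.frame.bas
  have h2 : IsUB (coef f T V).hom (fun i => (Submodule.Quotient.mk (e i) :
      Γ(FGA.ET f S.X₃ T, V) ⧸ (secSub K V).map (iTl f S.g T V))) := by
    rw [hK.sec, map_NF hS c]
    exact h.ac.bas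
  obtain ⟨w, hw⟩ := IsUB.ext i p hi hp hip h1 h2
  choose z hz using fun j => Submodule.Quotient.mk_surjective _ (w j)
  refine ⟨z, h.frame.aff, h.frame.sup, hK.away, ?_⟩
  have h3 : (fun j => (Submodule.Quotient.mk (z j) : Γ(FGA.ET f S.X₂ T, V) ⧸ secSub K V)) = w := funext hz
  rw [h3]
  exact hw

end K928.Fam2
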