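import Groth.Agent.RelQuot.K928.UB
import Mathlib.LinearAlgebra.FiniteDimensional.Basic
import Mathlib.LinearAlgebra.Dimension.Finite
import Mathlib.LinearAlgebra.FreeModule.StrongRankCondition

/-!
# Unbundled bases over a field
-/

set_option autoImplicit false
set_option linter.style.haveILetI false

namespace K928.FieldLin

open K928.UB

variable {R B : Type*} [CommRing R] [CommRing B] (ρ : R →+* B)

theorem card_eq [Nontrivial R] {Q : Type*} [AddCommGroup Q] [Module B Q] {κ κ' : Type*} [Fintype κ] [Fintype κ']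
    {e : κ → Q} {e' : κ' → Q} (h : IsUB ρ e) (h' : IsUB ρ e') : Fintype.card κ = Fintype.card κ' := by
  letI := mod ρ Q
  rw [← Module.finrank_eq_card_basis h.basis, ← Module.finrank_eq_card_basis h'.basis]

theorem exists_ub (hR : IsField R) {Q : Type*} [AddCommGroup Q] [Module B Q]
    (hQ : letI := mod ρ Q; Module.Finite R Q) : ∃ (n : ℕ) (e : Fin n → Q), IsUB ρ e := by
  letI := hR.toField
  letI : Module R Q := mod ρ Q
  haveI : Module.Finite R Q := hQ
  let b := Module.finBasis R Q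
  exact ⟨_, _, IsUB.of_basis b⟩

theorem exists_split (hR : IsField R) {Q₁ Q₂ Q₃ : Type*} [AddCommGroup Q₁] [AddCommGroup Q₂] [AddCommGroup Q₃]
    [Module B Q₁] [Module B Q₂] [Module B Q₃] (i : Q₁ →ₗ[B] Q₂) (p : Q₂ →ₗ[B] Q₃) (hi : Function.Injective i)
    (hp : Function.Surjective p) (hip : Function.Exact i p) {d : ℕ} {e : Fin d → Q₂} (he : IsUB ρ e) :
    ∃ (a b : ℕ) (e₁ : Fin a → Q₁) (e₃ : Fin b → Q₃), a + b = d ∧ IsUB ρ e₁ ∧ IsUB ρ e₃ := by
  letI := hR.toField
  letI : Module R Q₁ := mod ρ Q₁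
  letI : Module R Q₂ := mod ρ Q₂
  letI : Module R Q₃ := mod ρ Q₃
  haveI : Module.Finite R Q₂ := Module.Finite.of_basis he.basis
  let i' : Q₁ →ₗ[R] Q₂ := { i with map_smul' := fun r q => map_smul i (ρ r) q }
  let p' : Q₂ →ₗ[R] Q₃ := { p with map_smul' := fun r q => map_smul p (ρ r) q }
  haveI h1 : Module.Finite R Q₁ := Module.Finite.of_injective i' hi
  haveI h3 : Module.Finite R Q₃ := Module.Finite.of_surjective p' hp
  obtain ⟨a, e₁, he₁⟩ := exists_ub ρ hR h1
  obtain ⟨b, e₃, he₃⟩ := exists_ub ρ hR h3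
  obtain ⟨e₂, he₂⟩ := IsUB.ext i p hi hp hip he₁ he₃
  haveI : Nontrivial R := hR.nontrivial
  have h4 := card_eq ρ he₂ he
  simp only [Fintype.card_sum, Fintype.card_fin] at h4
  exact ⟨a, b, e₁, e₃, h4, he₁, he₃⟩

end K928.FieldLin
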