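import Groth.Agent.RelQuot.K928.Base
import Groth.Agent.RelQuot.K928.Comb

/-!
# Filtrations by line bundles
-/

set_option autoImplicit false
set_option linter.style.haveILetI false
set_option linter.dupNamespace false
universe u v

open CategoryTheory CategoryTheory.Limits AlgebraicGeometry Opposite TopologicalSpace

namespace K928.Filt

open K928.Pts K928.Chart K928.K0Calc K928.WFam K928.StageA K928.StageB K928.Base K928.Final

variable {X Y : Scheme.{u}} {f : X ⟶ Y}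

theorem rank_iso {n : ℕ} {M N : X.Modules} (e : M ≅ N) (h : FlatMod.IsFinLocFreeOfRank n M) :
    FlatMod.IsFinLocFreeOfRank n N := fun x => by
  obtain ⟨U, hx, ⟨a⟩⟩ := h x
  exact ⟨U, hx, ⟨(Scheme.Modules.restrictFunctor U.ι).mapIso e.symm ≪≫ a⟩⟩

theorem isQCoh_of_rank {n : ℕ} {M : X.Modules} (h : FlatMod.IsFinLocFreeOfRank n M) : Coh.IsQCoh M :=
  Groth.Agent.PerfA.QCohEpi.isQCoh_of_isFinLocFree (isFinLocFree_of_rank h)

theorem hyp_of_mono {E' E : X.Modules} (i : E' ⟶ E) [Mono i] (h1 : Coh.IsQCoh E') (h2 : Coh.IsQCoh E)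
    (h3 : FlatMod.IsFinLocFreeOfRank 1 (cokernel i)) :
    Hyp (ShortComplex.mk i (cokernel.π i) (cokernel.condition i)) where
  ex := { exact := ShortComplex.exact_cokernel i, mono_f := inferInstance, epi_g := inferInstance }
  q1 := h1
  q2 := h2
  lf := h3

/-- data: universal divisors of degrees `≤ d` -/
structure Div (f : X ⟶ Y) (d : ℕ) where
  B : Fin (d + 1) → Over Y
  lft : ∀ b, LocallyOfFiniteType (B b).hom
  qc : ∀ b, QuasiCompact (B b).hom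
  D : ∀ b : Fin (d + 1), HilbD.Obj f b (B b)
  univ : ∀ b : Fin (d + 1), HilbD.IsUniversal f b (B b) (D b)

/-- the classes -/
noncomputable def Div.s {d : ℕ} (𝒟 : Div f d) (n : ℕ) : K0Var.K Y :=
  if h : n < d + 1 then clD (𝒟.B ⟨n, h⟩).hom else 0

theorem step' {S : ShortComplex X.Modules} (hS : Hyp S) [IsProper f] [SmoothOfRelativeDimension 1 f]
    (hAF : AFb f) [IsNoetherian Y] {d : ℕ} (𝒟 : Div f d) {i : ℕ} {d' : ℕ} (hd' : d' ≤ d)
    (hW : ∀ a ≤ d, WF f S.X₁ a (Comb.Cr 𝒟.s (K0Var.L Y) i a)) :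
    WF f S.X₂ d' (Comb.Cr 𝒟.s (K0Var.L Y) (i + 1) d') := by
  have h0 : ∀ b : Fin (d' + 1), (b : ℕ) < d + 1 := fun b => by
    have := b.2
    omega
  have i1 : ∀ b : Fin (d' + 1), LocallyOfFiniteType (𝒟.B ⟨b, h0 b⟩).hom := fun b => 𝒟.lft _
  have i2 : ∀ b : Fin (d' + 1), QuasiCompact (𝒟.B ⟨b, h0 b⟩).hom := fun b => 𝒟.qc _
  have h1 := StageB.step hS hAF (d := d') (c := fun a => Comb.Cr 𝒟.s (K0Var.L Y) i a)
    (fun a => hW a (by have := a.2; omega)) (fun b => 𝒟.B ⟨b, h0 b⟩) (fun b => 𝒟.D ⟨b, h0 b⟩)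
    (fun b => 𝒟.univ ⟨b, h0 b⟩)
  have h2 : Comb.Cr 𝒟.s (K0Var.L Y) (i + 1) d' = ∑ a : Fin (d' + 1), Comb.Cr 𝒟.s (K0Var.L Y) i a *
      K0Var.cl (𝒟.B ⟨a.rev, h0 a.rev⟩).hom * K0Var.L Y ^ (a : ℕ) := by
    rw [Comb.Cr_succ]
    refine Finset.sum_congr rfl fun a _ => ?_
    congr 2
    rw [Div.s, dif_pos (h0 a.rev), clD_eq]
  rw [h2]
  exact h1

theorem wf_filt [IsProper f] [SmoothOfRelativeDimension 1 f] (hAF : AFb f) [IsNoetherian Y]
    {E : X.Modules} {r : ℕ} (F : Fin (r + 1) → Subobject E) (hF0 : F 0 = ⊥)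
    (hFrk : ∀ i : Fin (r + 1), FlatMod.IsFinLocFreeOfRank (i : ℕ) (Subobject.underlying.obj (F i)))
    (hFq : ∀ i : Fin r, ∃ h : F i.castSucc ≤ F i.succ,
      FlatMod.IsFinLocFreeOfRank 1 (cokernel ((F i.castSucc).ofLE (F i.succ) h)))
    {d : ℕ} (𝒟 : Div f d) (i : ℕ) (hi : i < r + 1) (d' : ℕ) (hd' : d' ≤ d) :
    WF f (Subobject.underlying.obj (F ⟨i, hi⟩)) d' (Comb.Cr 𝒟.s (K0Var.L Y) i d') := by
  induction i generalizing d' with
  | zero =>
    rw [Comb.Cr_zero]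
    refine wf_zero hAF ?_ d'
    have h1 : F ⟨0, hi⟩ = ⊥ := hF0
    rw [h1]
    exact IsZero.of_iso (isZero_zero _) Subobject.botCoeIsoZero
  | succ i ih =>
    obtain ⟨h, h1⟩ := hFq ⟨i, by omega⟩
    have hS := hyp_of_mono ((F (Fin.castSucc ⟨i, by omega⟩)).ofLE (F (Fin.succ ⟨i, by omega⟩)) h)
      (isQCoh_of_rank (hFrk _)) (isQCoh_of_rank (hFrk _)) h1
    exact step' hS hAF 𝒟 hd' (fun a ha => ih (by omega) a ha)

theorem wf_total [IsProper f] [SmoothOfRelativeDimension 1 f] (hAF : AFb f) [IsNoetherian Y]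
    {E : X.Modules} {r : ℕ} (hr : 1 ≤ r) (hE : Coh.IsQCoh E) (F : Fin (r + 1) → Subobject E) (hF0 : F 0 = ⊥)
    (hFr : F (Fin.last r) = ⊤)
    (hFrk : ∀ i : Fin (r + 1), FlatMod.IsFinLocFreeOfRank (i : ℕ) (Subobject.underlying.obj (F i)))
    (hFq : ∀ i : Fin r, ∃ h : F i.castSucc ≤ F i.succ,
      FlatMod.IsFinLocFreeOfRank 1 (cokernel ((F i.castSucc).ofLE (F i.succ) h)))
    {d : ℕ} (𝒟 : Div f d) : WF f E d (Comb.Cr 𝒟.s (K0Var.L Y) r d) := by
  obtain ⟨r, rfl⟩ : ∃ r', r = r' + 1 := ⟨r - 1, by omega⟩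
  obtain ⟨h, h1⟩ := hFq (Fin.last r)
  have e1 : (F (Fin.last r).castSucc).ofLE (F (Fin.last r).succ) h ≫ (F (Fin.last r).succ).arrow =
      (F (Fin.last r).castSucc).arrow := Subobject.ofLE_arrow h
  have h3 : IsIso (F (Fin.last r).succ).arrow := by
    rw [Fin.succ_last, hFr]
    infer_instance
  have h4 : FlatMod.IsFinLocFreeOfRank 1 (cokernel (F (Fin.last r).castSucc).arrow) := by
    have e2 : cokernel ((F (Fin.last r).castSucc).ofLE (F (Fin.last r).succ) h) ≅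
        cokernel (F (Fin.last r).castSucc).arrow :=
      (cokernelCompIsIso _ (F (Fin.last r).succ).arrow).symm ≪≫ cokernelIsoOfEq e1
    exact rank_iso e2 h1
  have hS := hyp_of_mono (F (Fin.last r).castSucc).arrow (isQCoh_of_rank (hFrk _)) hE h4
  exact step' hS hAF 𝒟 le_rfl (fun a ha => wf_filt hAF F hF0 hFrk hFq 𝒟 r (by omega) a ha)

end K928.Filt
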