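import Groth.Agent.RelQuot.K928.StageB

/-!
# Finite families and the class of the representing scheme
-/

set_option autoImplicit false
set_option linter.style.haveILetI false
set_option linter.dupNamespace false
universe u v

open CategoryTheory CategoryTheory.Limits AlgebraicGeometry Opposite TopologicalSpace

namespace K928.Final

open K928.Cap K928.UB K928.Sec K928.SecEx K928.Sq K928.Frame K928.ObjOf K928.OfObj K928.Pts K928.DivAlg
  K928.Chart K928.Fam K928.Fam2 K928.Res K928.Rel K928.K0Calc K928.Strat K928.PointBij K928.WFam K928.Aff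
  K928.StageA K928.StageB Groth.Agent.Picfga

variable {X Y : Scheme.{u}} {f : X ⟶ Y}

theorem isNoetherianRing_of_field (F : Type u) [Field F] : IsNoetherianRing Γ(Spec (.of F), ⊤) := by
  have hR : IsField Γ(Spec (.of F), ⊤) :=
      MulEquiv.isField (Field.toIsField F) (Scheme.ΓSpecIso (.of F)).commRingCatIsoToRingEquiv.toMulEquiv
  letI := hR.toField
  infer_instance

theorem cl_eq_of_universal [IsProper f] (hAF : AFb f) [IsNoetherian Y] {E : X.Modules} (hE : Coh.IsQCoh E)
    {d : ℕ} {c : K0Var.K Y} (hW : WF f E d c) (H : Over Y) [LocallyOfFiniteType H.hom] [QuasiCompact H.hom]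
    (κ : QuotD.Obj f E d H) (hκ : QuotD.IsUniversal f E d H κ) : K0Var.cl H.hom = c := by
  obtain ⟨J, hJ, M, ξ, hP, hcl, hun⟩ := hW
  have hobj : ∀ j, QuotD.IsRelFinLen (PicF.XTproj f (M j)) d (cokernel (ξ j).arrow) := by
    intro j
    have i1 := (hP j).aff
    have i2 := (hP j).lft
    have i3 : IsLocallyNoetherian (M j).left := LocallyOfFiniteType.isLocallyNoetherian (M j).hom
    have i4 : IsNoetherianRing Γ((M j).left, ⊤) :=
      IsLocallyNoetherian.component_noetherian ⟨⊤, isAffineOpen_top _⟩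
    obtain ⟨V, W, x, hF⟩ := (hP j).fr
    exact hF.isRelFinLen hE (hP j).q (Fintype.card_fin d)
  choose φ hφ hφu using fun j => hκ (M j) ⟨ξ j, hobj j⟩
  have hφ' : ∀ j, FGA.quotPull f E (φ j) κ.1 = ξ j := hφ
  have i0 : IsNoetherian H.left := noeth_of H
  have hb : PtBij (fun j => (φ j).left) := by
    intro F _ x
    let y : Spec (.of F) ⟶ Y := x ≫ H.hom
    let x' : Over.mk y ⟶ H := Over.homMk x rfl
    have i4 : IsAffine (Over.mk y : Over Y).left := inferInstanceAs (IsAffine (Spec (.of F)))
    have i5 : Subsingleton (Over.mk y : Over Y).left := inferInstanceAs (Subsingleton (Spec (.of F)))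
    have i6 : Nonempty (Over.mk y : Over Y).left := inferInstanceAs (Nonempty (Spec (.of F)))
    have i7 : IsNoetherianRing Γ((Over.mk y : Over Y).left, ⊤) := isNoetherianRing_of_field F
    obtain ⟨V, W, e, hF⟩ := Pts.exists_frame_point hAF hE H κ.2 x'
    have hq := isQCoh_quotPull f x' κ.2.1
    obtain ⟨⟨j, m⟩, hm, hmu⟩ := hun F y ⟨FGA.quotPull f E x' κ.1, hF.isRelFinLen hE hq (Fintype.card_fin d)⟩
    have hm' : FGA.quotPull f E m (ξ j) = FGA.quotPull f E x' κ.1 := hm
    have huniq : ∀ {a b : Over.mk y ⟶ H}, FGA.quotPull f E a κ.1 = FGA.quotPull f E b κ.1 → FGA.quotPull f E b κ.1 =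
        FGA.quotPull f E x' κ.1 → a = b := by
      intro a b hab hb
      obtain ⟨g, -, hg⟩ := hκ (Over.mk y) ⟨FGA.quotPull f E x' κ.1, hF.isRelFinLen hE hq (Fintype.card_fin d)⟩
      exact (hg a (hab.trans hb)).trans (hg b hb).symm
    have h1 : m ≫ φ j = x' := by
      apply huniq _ rfl
      rw [Groth.Agent.Fga.QuotPull.quotPull_comp, hφ', hm']
    refine ⟨⟨j, m.left⟩, congrArg CommaMorphism.left h1, ?_⟩
    rintro ⟨j', m'⟩ hm2
    have hm2' : m' ≫ (φ j').left = x := hm2
    let m'' : Over.mk y ⟶ M j' := Over.homMk m' (by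
      change m' ≫ (M j').hom = x ≫ H.hom
      rw [← hm2', Category.assoc, Over.w])
    have h2 : m'' ≫ φ j' = x' := by
      ext1
      exact hm2'
    have h3 := hmu ⟨j', m''⟩ (by
      change FGA.quotPull f E m'' (ξ j') = FGA.quotPull f E x' κ.1
      rw [← hφ', ← Groth.Agent.Fga.QuotPull.quotPull_comp, h2])
    have hj : j' = j := congrArg Sigma.fst h3
    subst hj
    have h4 : m'' = m := eq_of_heq (Sigma.mk.inj_iff.1 h3).2
    rw [← h4]
    rfl
  have i8 : ∀ j, LocallyOfFiniteType (φ j).left := fun j => by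
    have i2 : LocallyOfFiniteType ((φ j).left ≫ H.hom) := by
      rw [Over.w]
      exact (hP j).lft
    exact locallyOfFiniteType_of_comp (φ j).left H.hom
  have i9 : ∀ j, IsNoetherian (M j).left := fun j => by
    have i2 := (hP j).lft
    have i3 := (hP j).qc
    exact noeth_of (M j)
  have i10 : ∀ j, QuasiCompact (φ j).left := fun j => inferInstance
  rw [cl_eq_sum_of_points H.hom (fun j => (φ j).left) hb, ← hcl]
  refine Finset.sum_congr rfl fun j _ => ?_
  rw [← clD_eq, Over.w]

end K928.Final
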