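import Groth.Agent.RelQuot.K928.TFStep
import Groth.Agent.RelQuot.K928.Filt

/-!
# Flags with invertible quotients over a set of points
-/

set_option autoImplicit false
set_option linter.style.haveILetI false
set_option linter.dupNamespace false
universe u

open CategoryTheory CategoryTheory.Limits AlgebraicGeometry TopologicalSpace Opposite

namespace K928.Flags

open K928.TFStep Groth.Agent.Dcoh.ResFree

variable {X W : Scheme.{u}}

/-- flags of length `r` whose successive quotients are free of rank one near the points of `Ω` -/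
def FlagOn (Ω : Set X) : ℕ → X.Modules → Prop
  | 0, E => IsZero E
  | r + 1, E => ∃ (E' : X.Modules) (i : E' ⟶ E), Mono i ∧ Coh.IsQCoh E' ∧ Coh.IsQCoh E ∧
      (∀ x ∈ Ω, ∃ V : X.Opens, x ∈ V ∧ Nonempty ((cokernel i).restrict V.ι ≅ FlatMod.freeMod V 1)) ∧
      FlagOn Ω r E'

theorem FlagOn.mono {Ω Ω' : Set X} (hΩ : Ω' ⊆ Ω) {r : ℕ} {E : X.Modules} (h : FlagOn Ω r E) : FlagOn Ω' r E := by
  induction r generalizing E with
  | zero => exact h
  | succ r ih =>
    obtain ⟨E', i, h1, h2, h3, h4, h5⟩ := h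
    exact ⟨E', i, h1, h2, h3, fun x hx => h4 x (hΩ hx), ih h5⟩

theorem FlagOn.iso {Ω : Set X} {r : ℕ} {E E₁ : X.Modules} (h : FlagOn Ω r E) (e : E ≅ E₁) : FlagOn Ω r E₁ := by
  cases r with
  | zero =>
    have h' : IsZero E := h
    exact h'.of_iso e.symm
  | succ r =>
    obtain ⟨E', i, h1, h2, h3, h4, h5⟩ := h
    refine ⟨E', i ≫ e.hom, mono_comp _ _, h2, Groth.Agent.Sga67.CohBasic.isQCoh_of_iso e h3, fun x hx => ?_, h5⟩
    obtain ⟨V, hV, ⟨a⟩⟩ := h4 x hx
    exact ⟨V, hV, ⟨(Scheme.Modules.restrictFunctor V.ι).mapIso (cokernelCompIsIso i e.hom) ≪≫ a⟩⟩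

theorem FlagOn.exists_open {G : Set X} {r : ℕ} {E : X.Modules} (h : FlagOn G r E) :
    ∃ Ω : X.Opens, G ⊆ Ω ∧ FlagOn (Ω : Set X) r E := by
  induction r generalizing E with
  | zero => exact ⟨⊤, fun _ _ => trivial, h⟩
  | succ r ih =>
    obtain ⟨E', i, h1, h2, h3, h4, h5⟩ := h
    obtain ⟨Ω, hΩ, h6⟩ := ih h5
    choose V hV hV' using h4
    refine ⟨Ω ⊓ ⨆ (x : G), V x.1 x.2, fun x hx => ⟨hΩ hx, Opens.mem_iSup.2 ⟨⟨x, hx⟩, hV x hx⟩⟩, E', i, h1, h2,
      h3, ?_, h6.mono fun x hx => hx.1⟩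
    intro x hx
    obtain ⟨⟨y, hy⟩, hxy⟩ := Opens.mem_iSup.1 hx.2
    exact ⟨V y hy, hxy, hV' y hy⟩

theorem FlagOn.restrict {Ω : Set X} {r : ℕ} {E : X.Modules} (h : FlagOn Ω r E) (j : W ⟶ X) [IsOpenImmersion j] :
    FlagOn (j ⁻¹' Ω) r (E.restrict j) := by
  induction r generalizing E with
  | zero =>
    have h' : IsZero E := h
    exact Functor.map_isZero (Scheme.Modules.restrictFunctor j) h'
  | succ r ih =>
    obtain ⟨E', i, h1, h2, h3, h4, h5⟩ := h
    refine ⟨E'.restrict j, (Scheme.Modules.restrictFunctor j).map i, inferInstance, ?_, ?_, ?_, ih h5⟩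
    · exact Groth.Agent.PerfA.QCohSerre.isQCoh_restrict j h2
    · exact Groth.Agent.PerfA.QCohSerre.isQCoh_restrict j h3
    · intro x hx
      obtain ⟨V, hV, e⟩ := h4 (j x) hx
      refine ⟨j ⁻¹ᵁ V, hV, ?_⟩
      have h6 : (j ∣_ V) ≫ V.ι = (j ⁻¹ᵁ V).ι ≫ j := by simp
      obtain ⟨e'⟩ := free_restrict (j ∣_ V) V.ι ((j ⁻¹ᵁ V).ι ≫ j) h6 e
      exact ⟨(Scheme.Modules.restrictFunctor (j ⁻¹ᵁ V).ι).mapIso
        (PreservesCokernel.iso (Scheme.Modules.restrictFunctor j) i).symm ≪≫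
          restrictComp (cokernel i) (j ⁻¹ᵁ V).ι j _ rfl ≪≫ e'⟩

/-- torsion-free modules have flags, invertible at the points whose local rings are principal -/
theorem flagOn_of_tf [IsIntegral X] [IsNoetherian X] (r : ℕ) {F : X.Modules} (hF : Coh.IsCoh F)
    (htf : TorSh.IsTorsionFree F) (hr : rk F = r) :
    FlagOn {x : X | IsPrincipalIdealRing (X.presheaf.stalk x)} r F := by
  induction r generalizing F with
  | zero => exact isZero_of_rk hF htf hr
  | succ r ih =>
    obtain ⟨F', i, h1, h2, h3, h4, h5, h6, h7⟩ := exists_step hF htf hr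
    refine ⟨F', i, h1, h2.1, hF.1, ?_, ih h2 h3 h4⟩
    intro x hx
    have hx' : IsPrincipalIdealRing (X.presheaf.stalk x) := hx
    have h8 := h6 x
    have h9 := Groth.Agent.Divis.StalkMod.finite_stalk h5 x
    have h10 : Module.Free (X.presheaf.stalk x) ((cokernel i).presheaf.stalk x) :=
      Module.free_of_finite_type_torsion_free'
    obtain ⟨V, n, hxV, e⟩ := Groth.Agent.Divis.StalkMod.exists_free_nhd h5 x h10
    have hn : n = 1 := by
      rw [← h7]
      exact (rk_of_restrict ((genericPoint_specializes x).mem_open V.2 hxV) e).symm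
    subst hn
    exact ⟨V, hxV, e⟩

/-- the standard flag -/
theorem flag_free (r : ℕ) : FlagOn (Set.univ : Set X) r (FlatMod.freeMod X r) := by
  induction r with
  | zero => exact freeMod_zero_isZero
  | succ r ih =>
    have hq : ∀ n, Coh.IsQCoh (FlatMod.freeMod X n) := fun n =>
      Groth.Agent.PerfA.QCohEpi.isQCoh_of_isFinLocFree (isFinLocFree_freeMod n)
    have h1 : FlagOn (Set.univ : Set X) (r + 1) (FlatMod.freeMod X r ⊞ FlatMod.freeMod X 1) := by
      refine ⟨FlatMod.freeMod X r, biprod.inl, inferInstance, hq r,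
        Groth.Agent.Sga67.CohBasic.isQCoh_biprod (hq r) (hq 1), fun x _ => ⟨⊤, trivial, ?_⟩, ih⟩
      exact ⟨(Scheme.Modules.restrictFunctor (⊤ : X.Opens).ι).mapIso
        ((biprod.isCokernelInlCokernelFork _ _).coconePointUniqueUpToIso (colimit.isColimit _)).symm ≪≫
          restrictFreeMod _ 1⟩
    exact h1.iso (freeModAdd r 1)

open K928.Pts K928.StageB in
/-- the class of the Quot scheme of a module with a flag -/
theorem wf_flag {Y : Scheme.{u}} {f : X ⟶ Y} [IsProper f] [SmoothOfRelativeDimension 1 f] (hAF : AFb f)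
    [AlgebraicGeometry.IsNoetherian Y] {r : ℕ} {E : X.Modules} (h : FlagOn (Set.univ : Set X) r E) {d : ℕ}
    (𝒟 : Filt.Div f d) (d' : ℕ) (hd' : d' ≤ d) : WF f E d' (Comb.Cr 𝒟.s (K0Var.L Y) r d') := by
  induction r generalizing E d' with
  | zero =>
    rw [Comb.Cr_zero]
    exact Base.wf_zero hAF h d'
  | succ r ih =>
    obtain ⟨E', i, h1, h2, h3, h4, h5⟩ := h
    have hS := Filt.hyp_of_mono i h2 h3 (fun x => h4 x trivial)
    exact Filt.step' hS hAF 𝒟 hd' (fun a ha => ih h5 a ha)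

end K928.Flags
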