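import Mathlib.LinearAlgebra.Basis.Basic
import Mathlib.LinearAlgebra.FreeModule.Finite.Basic
import Mathlib.LinearAlgebra.Dimension.Finrank
import Mathlib.Algebra.Module.Projective
import Mathlib.Algebra.Exact.Basic
import Mathlib.RingTheory.TensorProduct.IsBaseChangeFree
import Groth.Agent.CohqA.BaseChangeMod
import Groth.Agent.CohqA.BaseChangePushout

/-!
# Unbundled bases of modules along a ring homomorphism, and one-step extensions

`IsUB ρ e` : the family `e : κ → Q` of elements of a `B`-module is a basis of `Q` over `R` along `ρ : R →+* B`.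
-/

set_option autoImplicit false
set_option linter.style.haveILetI false
universe u

open CategoryTheory

namespace K928.UB

section Def

variable {R B Q Q' κ κ' : Type*} [CommRing R] [CommRing B] (ρ : R →+* B) [AddCommGroup Q] [Module B Q]
  [AddCommGroup Q'] [Module B Q'] [Fintype κ] [Fintype κ']

/-- linear combinations -/
def lc (e : κ → Q) (c : κ → R) : Q := ∑ i, ρ (c i) • e i

/-- `e` is a basis of the `B`-module `Q` over `R`. -/
def IsUB (e : κ → Q) : Prop := Function.Bijective (lc ρ e)

theorem lc_add (e : κ → Q) (c c' : κ → R) : lc ρ e (c + c') = lc ρ e c + lc ρ e c' := by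
  simp only [lc, Pi.add_apply, map_add, add_smul, Finset.sum_add_distrib]

theorem lc_sub (e : κ → Q) (c c' : κ → R) : lc ρ e (c - c') = lc ρ e c - lc ρ e c' := by
  simp only [lc, Pi.sub_apply, map_sub, sub_smul, Finset.sum_sub_distrib]

theorem lc_zero (e : κ → Q) : lc ρ e 0 = 0 := by
  simp only [lc, Pi.zero_apply, map_zero, zero_smul, Finset.sum_const_zero]

theorem lc_smul (e : κ → Q) (r : R) (c : κ → R) : lc ρ e (fun i => r * c i) = ρ r • lc ρ e c := by
  simp only [lc, map_mul, mul_smul, Finset.smul_sum]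

theorem map_lc (f : Q →ₗ[B] Q') (e : κ → Q) (c : κ → R) : f (lc ρ e c) = lc ρ (fun i => f (e i)) c := by
  simp only [lc, map_sum, map_smul]

/-- an `R`-module structure on a `B`-module -/
@[implicit_reducible]
def mod (Q : Type*) [AddCommGroup Q] [Module B Q] : Module R Q := Module.compHom Q ρ

variable {ρ}

/-- the actual basis -/
noncomputable def IsUB.basis {e : κ → Q} (h : IsUB ρ e) : letI := mod ρ Q; Module.Basis κ R Q :=
  letI := mod ρ Q
  Module.Basis.ofEquivFun (LinearEquiv.ofBijective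
    ({ toFun := lc ρ e
       map_add' := lc_add ρ e
       map_smul' := fun r c => lc_smul ρ e r c } : (κ → R) →ₗ[R] Q) h).symm

theorem IsUB.basis_apply {e : κ → Q} (h : IsUB ρ e) (i : κ) : letI := mod ρ Q; h.basis i = e i := by
  letI := mod ρ Q
  classical
  rw [IsUB.basis, Module.Basis.coe_ofEquivFun, LinearEquiv.symm_symm]
  change lc ρ e (Pi.single i 1) = e i
  rw [lc, Finset.sum_eq_single i]
  · rw [Pi.single_eq_same, map_one, one_smul]
  · intro j _ hj
    rw [Pi.single_eq_of_ne hj, map_zero, zero_smul]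
  · intro h; exact absurd (Finset.mem_univ i) h

theorem IsUB.of_basis (b : letI := mod ρ Q; Module.Basis κ R Q) : IsUB ρ (fun i => letI := mod ρ Q; b i) := by
  letI := mod ρ Q
  have h1 : (lc ρ (fun i => b i) : (κ → R) → Q) = b.equivFun.symm := by
    funext c
    rw [b.equivFun_symm_apply]
    rfl
  rw [IsUB, h1]
  exact b.equivFun.symm.bijective

theorem IsUB.reindex {e : κ → Q} (h : IsUB ρ e) (σ : κ' ≃ κ) : IsUB ρ (e ∘ σ) := by
  have h1 : lc ρ (e ∘ σ) = fun c : κ' → R => lc ρ e (c ∘ σ.symm) := by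
    funext c
    rw [lc, lc]
    exact Fintype.sum_equiv σ _ _ (fun i => by simp)
  rw [IsUB, h1]
  exact h.comp (Equiv.bijective (Equiv.arrowCongr σ (Equiv.refl R)))

theorem IsUB.of_equiv {e : κ → Q} (h : IsUB ρ e) (f : Q ≃ₗ[B] Q') : IsUB ρ (fun i => f (e i)) := by
  have h1 : lc ρ (fun i => f (e i)) = fun c : κ → R => f (lc ρ e c) := by
    funext c
    exact (map_lc ρ f.toLinearMap e c).symm
  rw [IsUB, h1]
  exact f.bijective.comp h

/-- Extensions of modules with bases. -/
theorem IsUB.ext {Q₁ Q₂ Q₃ : Type*} [AddCommGroup Q₁] [AddCommGroup Q₂] [AddCommGroup Q₃] [Module B Q₁]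
    [Module B Q₂] [Module B Q₃] (i : Q₁ →ₗ[B] Q₂) (p : Q₂ →ₗ[B] Q₃) (hi : Function.Injective i)
    (hp : Function.Surjective p) (hip : Function.Exact i p) {e₁ : κ → Q₁} {e₃ : κ' → Q₃} (h₁ : IsUB ρ e₁)
    (h₃ : IsUB ρ e₃) : ∃ e₂ : κ ⊕ κ' → Q₂, IsUB ρ e₂ := by
  choose s hs using hp
  refine ⟨Sum.elim (fun x => i (e₁ x)) (fun x => s (e₃ x)), ?_, ?_⟩
  · intro c c' hc
    have key : ∀ c : κ ⊕ κ' → R, lc ρ (Sum.elim (fun x => i (e₁ x)) (fun x => s (e₃ x)) : κ ⊕ κ' → Q₂) c =
        i (lc ρ e₁ (c ∘ Sum.inl)) + lc ρ (fun x => s (e₃ x)) (c ∘ Sum.inr) := by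
      intro c
      rw [map_lc]
      simp [lc, Fintype.sum_sum_type]
    have hp : ∀ c : κ ⊕ κ' → R, p (lc ρ (Sum.elim (fun x => i (e₁ x)) (fun x => s (e₃ x)) : κ ⊕ κ' → Q₂) c) =
        lc ρ e₃ (c ∘ Sum.inr) := by
      intro c
      rw [key, map_add, hip.apply_apply_eq_zero, zero_add, map_lc]
      simp only [hs]
    have h4 : c ∘ Sum.inr = c' ∘ Sum.inr := h₃.1 (by rw [← hp, ← hp, hc])
    have h5 : c ∘ Sum.inl = c' ∘ Sum.inl := by
      apply h₁.1
      apply hi
      rw [key, key, h4] at hc
      exact add_right_cancel hc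
    funext x
    rcases x with x | x
    · exact congrFun h5 x
    · exact congrFun h4 x
  · intro q
    obtain ⟨c₃, hc₃⟩ := h₃.2 (p q)
    have h6 : p (q - lc ρ (fun x => s (e₃ x)) c₃) = 0 := by
      rw [map_sub, map_lc]
      simp only [hs]
      rw [hc₃, sub_self]
    obtain ⟨q₁, hq₁⟩ := (hip _).1 h6
    obtain ⟨c₁, hc₁⟩ := h₁.2 q₁
    refine ⟨Sum.elim c₁ c₃, ?_⟩
    rw [lc, Fintype.sum_sum_type]
    simp only [Sum.elim_inl, Sum.elim_inr]
    change lc ρ (fun x => i (e₁ x)) c₁ + lc ρ (fun x => s (e₃ x)) c₃ = q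
    rw [← map_lc, hc₁, hq₁, sub_add_cancel]

end Def

/-! ### One-step extensions -/

section Step

variable {B E' E L : Type*} [CommRing B] [AddCommGroup E'] [AddCommGroup E] [AddCommGroup L] [Module B E']
  [Module B E] [Module B L] (ι : E' →ₗ[B] E) (π : E →ₗ[B] L)

/-- the submodule attached to `N' ≤ E'` and `y : E` -/
def Nx (N' : Submodule B E') (y : E) : Submodule B E := N'.map ι ⊔ Submodule.span B {y}

variable {ι π}

theorem mem_Nx {N' : Submodule B E'} {y e : E} : e ∈ Nx ι N' y ↔ ∃ n ∈ N', ∃ b : B, e = ι n + b • y := by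
  rw [Nx, Submodule.mem_sup]
  constructor
  · rintro ⟨_, ⟨n, hn, rfl⟩, z, hz, rfl⟩
    obtain ⟨b, rfl⟩ := Submodule.mem_span_singleton.1 hz
    exact ⟨n, hn, b, rfl⟩
  · rintro ⟨n, hn, b, rfl⟩
    exact ⟨ι n, ⟨n, hn, rfl⟩, b • y, Submodule.mem_span_singleton.2 ⟨b, rfl⟩, rfl⟩

theorem comap_Nx (hι : Function.Injective ι) (hex : Function.Exact ι π) (N' : Submodule B E') (y : E)
    (hy : ∀ b : B, b • π y = 0 → b = 0) : (Nx ι N' y).comap ι = N' := by
  ext e
  rw [Submodule.mem_comap, mem_Nx]
  constructor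
  · rintro ⟨n, hn, b, h⟩
    have h1 : b • π y = 0 := by
      have := congrArg π h
      rw [map_add, hex.apply_apply_eq_zero, hex.apply_apply_eq_zero, zero_add, map_smul] at this
      exact this.symm
    rw [hy b h1, zero_smul, add_zero] at h
    rw [hι h]
    exact hn
  · intro he
    exact ⟨e, he, 0, by rw [zero_smul, add_zero]⟩

theorem map_Nx (hex : Function.Exact ι π) (N' : Submodule B E') (y : E) :
    (Nx ι N' y).map π = Submodule.span B {π y} := by
  rw [Nx, Submodule.map_sup, Submodule.map_span, Set.image_singleton, ← Submodule.map_comp,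
    hex.linearMap_comp_eq_zero, Submodule.map_zero, bot_sup_eq]

theorem eq_Nx (hex : Function.Exact ι π) (N' : Submodule B E') (g : E) (N : Submodule B E)
    (h1 : N.comap ι = N') (h2 : N.map π = Submodule.span B {π g}) :
    ∃ x : E', g + ι x ∈ N ∧ N = Nx ι N' (g + ι x) := by
  have h3 : π g ∈ N.map π := by rw [h2]; exact Submodule.mem_span_singleton_self _
  obtain ⟨y, hy, hyg⟩ := h3
  have h4 : π (y - g) = 0 := by rw [map_sub, hyg, sub_self]
  obtain ⟨x, hx⟩ := (hex _).1 h4
  have hxy : g + ι x = y := by rw [hx]; abel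
  refine ⟨x, by rw [hxy]; exact hy, le_antisymm ?_ ?_⟩
  · intro e he
    have h5 : π e ∈ N.map π := ⟨e, he, rfl⟩
    rw [h2] at h5
    obtain ⟨b, hb⟩ := Submodule.mem_span_singleton.1 h5
    have h6 : π (e - b • y) = 0 := by rw [map_sub, map_smul, hyg, hb, sub_self]
    obtain ⟨n, hn⟩ := (hex _).1 h6
    rw [mem_Nx]
    refine ⟨n, ?_, b, ?_⟩
    · rw [← h1, Submodule.mem_comap, hn]
      exact N.sub_mem he (N.smul_mem b hy)
    · rw [hn, hxy, sub_add_cancel]
  · rw [Nx, sup_le_iff]
    constructor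
    · rintro _ ⟨n, hn, rfl⟩
      rw [← h1] at hn
      exact hn
    · rw [Submodule.span_singleton_le_iff_mem, hxy]
      exact hy

theorem Nx_eq_iff (hι : Function.Injective ι) (hex : Function.Exact ι π) (N' : Submodule B E') (g : E)
    (hg : ∀ b : B, b • π g = 0 → b = 0) (x y : E') :
    Nx ι N' (g + ι x) = Nx ι N' (g + ι y) ↔ x - y ∈ N' := by
  have hπ : ∀ x, π (g + ι x) = π g := fun x => by
    rw [map_add, hex.apply_apply_eq_zero, add_zero]
  constructor
  · intro h
    have h1 : g + ι x ∈ Nx ι N' (g + ι y) := by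
      rw [← h, mem_Nx]
      exact ⟨0, N'.zero_mem, 1, by rw [map_zero, one_smul, zero_add]⟩
    have h2 : g + ι y ∈ Nx ι N' (g + ι y) := by
      rw [mem_Nx]
      exact ⟨0, N'.zero_mem, 1, by rw [map_zero, one_smul, zero_add]⟩
    have h3 := (Nx ι N' (g + ι y)).sub_mem h1 h2
    rw [add_sub_add_left_eq_sub, ← map_sub] at h3
    rw [← comap_Nx hι hex N' (g + ι y) (by rw [hπ]; exact hg)]
    exact h3
  · intro h
    have key : ∀ x y : E', x - y ∈ N' → Nx ι N' (g + ι x) ≤ Nx ι N' (g + ι y) := by
      intro x y h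
      rw [Nx, sup_le_iff, Submodule.span_singleton_le_iff_mem]
      refine ⟨le_sup_left, ?_⟩
      rw [mem_Nx]
      exact ⟨x - y, h, 1, by rw [map_sub, one_smul]; abel⟩
    exact le_antisymm (key x y h) (key y x (by rw [← neg_sub]; exact N'.neg_mem h))

/-- The exact sequence `0 → E'/N' → E/N → L/N'' → 0`. -/
theorem exists_quot_exact (hex : Function.Exact ι π) (hπ : Function.Surjective π) (N : Submodule B E) :
    ∃ (i : (E' ⧸ N.comap ι) →ₗ[B] (E ⧸ N)) (p : (E ⧸ N) →ₗ[B] (L ⧸ N.map π)), Function.Injective i ∧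
      Function.Surjective p ∧ Function.Exact i p ∧ (∀ x, i (Submodule.Quotient.mk x) = Submodule.Quotient.mk (ι x))
      ∧ ∀ x, p (Submodule.Quotient.mk x) = Submodule.Quotient.mk (π x) := by
  refine ⟨(N.comap ι).mapQ N ι le_rfl, N.mapQ (N.map π) π (Submodule.le_comap_map π N), ?_, ?_, ?_,
    fun _ => rfl, fun _ => rfl⟩
  · rw [← LinearMap.ker_eq_bot, eq_bot_iff]
    intro q hq
    obtain ⟨x, rfl⟩ := Submodule.Quotient.mk_surjective _ q
    rw [LinearMap.mem_ker, Submodule.mapQ_apply, Submodule.Quotient.mk_eq_zero] at hq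
    rw [Submodule.mem_bot, Submodule.Quotient.mk_eq_zero]
    exact hq
  · intro q
    obtain ⟨l, rfl⟩ := Submodule.Quotient.mk_surjective _ q
    obtain ⟨e, rfl⟩ := hπ l
    exact ⟨Submodule.Quotient.mk e, rfl⟩
  · intro q
    obtain ⟨e, rfl⟩ := Submodule.Quotient.mk_surjective _ q
    rw [Submodule.mapQ_apply, Submodule.Quotient.mk_eq_zero]
    constructor
    · rintro ⟨n, hn, hne⟩
      have h1 : π (e - n) = 0 := by rw [map_sub, hne, sub_self]
      obtain ⟨x, hx⟩ := (hex _).1 h1
      refine ⟨Submodule.Quotient.mk x, ?_⟩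
      rw [Submodule.mapQ_apply, hx, Submodule.Quotient.mk_sub, (Submodule.Quotient.mk_eq_zero N).2 hn,
        sub_zero]
    · rintro ⟨q, hq⟩
      obtain ⟨x, rfl⟩ := Submodule.Quotient.mk_surjective _ q
      rw [Submodule.mapQ_apply, Submodule.Quotient.eq] at hq
      refine ⟨e - ι x, ?_, by rw [map_sub, hex.apply_apply_eq_zero, sub_zero]⟩
      have := N.neg_mem hq
      rwa [neg_sub] at this

end Step

/-! ### Base change -/

section BaseChange

open Groth.Agent.CohqA.BaseChangeMod Groth.Agent.CohqA.BaseChangePushout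

variable {R S A B : CommRingCat.{u}} {i : R ⟶ S} {j : R ⟶ A} {k : S ⟶ B} {l : A ⟶ B}
  {κ : Type*} [Fintype κ]

/-- The base change of a basis is a basis. -/
theorem IsUB.baseChange (H : IsPushout i j k l) {M M' : Type u} [AddCommGroup M] [Module A M]
    [AddCommGroup M'] [Module B M'] {m : M →+ M'} (h : IsBC l.hom m) {e : κ → M}
    (he : IsUB j.hom e) : IsUB k.hom (fun x => m (e x)) := by
  letI : Module R M := mod j.hom M
  letI : Module S M' := mod k.hom M'
  have h1 : IsBC i.hom m := isBC_of_isPushout H (fun _ _ => rfl) (fun _ _ => rfl) h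
  letI : Algebra R S := i.hom.toAlgebra
  letI : Module R M' := Module.compHom M' i.hom
  haveI : IsScalarTower R S M' := ⟨fun r a x => by
    change (i.hom r * a) • x = i.hom r • a • x
    rw [mul_smul]⟩
  let m' : M →ₗ[R] M' := { m with map_smul' := h1.map_smul }
  have h2 : IsBaseChange S m' := (isBC_iff_isBaseChange m').1 h1
  let b : Module.Basis κ R M := he.basis
  have h3 : IsUB k.hom (fun x => letI := mod k.hom M'; (h2.basis b) x) := IsUB.of_basis (h2.basis b)
  have h4 : (fun x => (h2.basis b) x) = fun x => m (e x) := by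
    funext x
    rw [IsBaseChange.basis_apply]
    change m (he.basis x) = m (e x)
    rw [he.basis_apply]
  have h5 : (fun x => letI := mod k.hom M'; (h2.basis b) x) = fun x => m (e x) := h4
  rw [← h5]
  exact h3

theorem isBC_self (φ : A →+* B) : IsBC φ φ.toAddMonoidHom := by
  refine ⟨fun r x => map_mul φ r x, fun Q _ _ g hg => ?_⟩
  refine ⟨LinearMap.toSpanSingleton B Q (g 1), fun x => ?_, fun g' hg' => ?_⟩
  · change φ x • g 1 = g x
    rw [← hg, smul_eq_mul, mul_one]
  · ext
    change g' 1 = (1 : B) • g 1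
    rw [one_smul, ← hg' 1]
    congr 1
    exact (map_one φ).symm

/-- Injectivity of `b ↦ b • g` is preserved by base change if the cokernel is free over the base. -/
theorem injective_baseChange (H : IsPushout i j k l) {M M' : Type u} [AddCommGroup M] [Module A M]
    [AddCommGroup M'] [Module B M'] {m : M →+ M'} (h : IsBC l.hom m) (g : M)
    (hg : ∀ a : A, a • g = 0 → a = 0) {e : κ → M ⧸ Submodule.span A {g}} (he : IsUB j.hom e) (b : B)
    (hb : b • m g = 0) : b = 0 := by
  letI : Module R M := mod j.hom M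
  letI : Module S M' := mod k.hom M'
  letI : Module R A := mod j.hom A
  letI : Module S B := mod k.hom B
  have h1 : IsBC i.hom m := isBC_of_isPushout H (fun _ _ => rfl) (fun _ _ => rfl) h
  have h2 : IsBC i.hom l.hom.toAddMonoidHom :=
    isBC_of_isPushout H (fun _ _ => rfl) (fun _ _ => rfl) (isBC_self l.hom)
  -- the retraction
  choose t ht using fun x => Submodule.Quotient.mk_surjective _ (e x)
  have hr : ∀ x : M, ∃ a : A, ∃ c : κ → R, x = a • g + lc j.hom t c := by
    intro x
    obtain ⟨c, hc⟩ := he.2 (Submodule.Quotient.mk x)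
    have h3 : (Submodule.Quotient.mk (x - lc j.hom t c) : M ⧸ Submodule.span A {g}) = 0 := by
      rw [Submodule.Quotient.mk_sub, sub_eq_zero, ← hc]
      have h4 := map_lc j.hom (Submodule.mkQ (Submodule.span A {g})) t c
      have h5 : (fun x => (Submodule.mkQ (Submodule.span A {g})) (t x)) = e := funext ht
      rw [h5] at h4
      exact h4.symm
    rw [Submodule.Quotient.mk_eq_zero] at h3
    obtain ⟨a, ha⟩ := Submodule.mem_span_singleton.1 h3
    exact ⟨a, c, by rw [ha]; abel⟩
  have hu : ∀ (a a' : A) (c c' : κ → R), a • g + lc j.hom t c = a' • g + lc j.hom t c' → a = a' := by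
    intro a a' c c' h
    have h3 : c = c' := by
      apply he.1
      have h4 := congrArg (Submodule.mkQ (Submodule.span A {g})) h
      simp only [map_add, map_smul, map_lc] at h4
      have h5 : (fun x => (Submodule.mkQ (Submodule.span A {g})) (t x)) = e := funext ht
      have h6 : (Submodule.mkQ (Submodule.span A {g})) g = 0 := by
        rw [Submodule.mkQ_apply, Submodule.Quotient.mk_eq_zero]
        exact Submodule.mem_span_singleton_self g
      rw [h5, h6, smul_zero, smul_zero, zero_add, zero_add] at h4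
      exact h4
    subst h3
    have h4 : (a - a') • g = 0 := by
      rw [sub_smul, sub_eq_zero]
      exact add_right_cancel h
    exact sub_eq_zero.1 (hg _ h4)
  choose r c hrc using hr
  let rr : M →+ B :=
    { toFun := fun x => l.hom (r x)
      map_zero' := by
        rw [hu (r 0) 0 (c 0) 0 (by rw [← hrc 0, zero_smul, lc_zero, add_zero]), map_zero]
      map_add' := fun x y => by
        rw [← map_add]
        congr 1
        refine hu _ _ (c (x + y)) (c x + c y) ?_
        rw [← hrc (x + y), lc_add, add_smul]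
        nth_rw 1 [hrc x, hrc y]
        abel }
  have hrr : ∀ (s : R) (x : M), rr (s • x) = i.hom s • rr x := by
    intro s x
    have h3 : r (s • x) = j.hom s * r x := by
      refine hu _ _ (c (s • x)) (fun z => s * c x z) ?_
      rw [← hrc (s • x), lc_smul]
      change j.hom s • x = _
      nth_rw 1 [hrc x]
      rw [smul_add, mul_smul]
    change l.hom (r (s • x)) = k.hom (i.hom s) * l.hom (r x)
    rw [h3, map_mul]
    congr 1
    exact congr($(H.w.symm) s)
  obtain ⟨r', hr', -⟩ := h1.lift B rr hrr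
  have hrg : ∀ a : A, r (a • g) = a := fun a =>
    hu _ _ (c (a • g)) 0 (by rw [← hrc (a • g), lc_zero, add_zero])
  -- the composite is the identity
  let φ : B →ₗ[S] B :=
    { toFun := fun b => r' (b • m g)
      map_add' := fun x y => by rw [add_smul, map_add]
      map_smul' := fun s x => by
        have h4 : (s • x) • m g = s • (x • m g) := by
          change (k.hom s * x) • m g = k.hom s • (x • m g)
          rw [mul_smul]
        rw [h4, map_smul, RingHom.id_apply] }
  have hφ : φ = LinearMap.id := h2.hom_ext fun a => by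
    change r' (l.hom a • m g) = l.hom a
    rw [← h.map_smul, hr']
    change l.hom (r (a • g)) = _
    rw [hrg]
  have h3 := LinearMap.congr_fun hφ b
  change r' (b • m g) = b at h3
  rw [← h3, hb, map_zero]

end BaseChange

end K928.UB
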