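import Groth.Prelude.Def_QuotD
import Groth.Agent.RelQuot.K928.Cap
import Groth.Agent.RelQuot.K928.UB
import Groth.Agent.RelQuot.K928.ClImm
import Groth.Agent.Ega2.BasSec
import Groth.Agent.Ega1.QcqsPush
import Mathlib.RingTheory.Finiteness.Prod
import Mathlib.LinearAlgebra.FreeModule.Finite.Matrix

/-!
# Quotients captured by an affine open with a basis over an affine Noetherian base are relatively finite
-/

set_option autoImplicit false
set_option linter.style.haveILetI false
universe u v

open CategoryTheory CategoryTheory.Limits AlgebraicGeometry Opposite TopologicalSpace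

namespace K928.ObjOf

open Groth.Agent.Fga.QTDefs Groth.Agent.Fga.QT2 Groth.Agent.Ega1.SubSheaf Groth.Agent.Ega1.LocMod
  Groth.Agent.Ega1.QCohOfLoc K928.Cap K928.UB

/-- finiteness of `B / Ann Q` -/
theorem finite_quot_annihilator {R B Q κ : Type*} [CommRing R] [CommRing B] [IsNoetherianRing R] [Fintype κ]
    (ρ : R →+* B) [AddCommGroup Q] [Module B Q] {e : κ → Q} (he : IsUB ρ e) :
    ((Ideal.Quotient.mk (Module.annihilator B Q)).comp ρ).Finite := by
  letI : Algebra R B := ρ.toAlgebra
  letI : Module R Q := mod ρ Q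
  haveI : IsScalarTower R B Q := ⟨fun r b q => by
    rw [Algebra.smul_def, mul_smul]
    rfl⟩
  have hfin : Module.Finite R Q := Module.Finite.of_basis he.basis
  have hfree : Module.Free R Q := Module.Free.of_basis he.basis
  have hn : IsNoetherian R (Q →ₗ[R] Q) := isNoetherian_of_isNoetherianRing_of_finite R _
  let ψ : B →ₗ[R] (Q →ₗ[R] Q) := (Algebra.lsmul R R Q).toLinearMap
  have hker : ∀ b, ψ b = 0 ↔ b ∈ Module.annihilator B Q := by
    intro b
    rw [Module.mem_annihilator]
    exact ⟨fun h q => LinearMap.congr_fun h q, fun h => LinearMap.ext h⟩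
  let ψ' : (B ⧸ Module.annihilator B Q) →ₗ[R] (Q →ₗ[R] Q) :=
    ((Module.annihilator B Q).restrictScalars R).liftQ ψ (fun b hb => (hker b).2 hb)
  have hinj : Function.Injective ψ' := by
    rw [← LinearMap.ker_eq_bot, eq_bot_iff]
    intro q hq
    obtain ⟨b, rfl⟩ := Ideal.Quotient.mk_surjective q
    rw [Submodule.mem_bot, Ideal.Quotient.eq_zero_iff_mem]
    exact (hker b).1 hq
  have h1 : Module.Finite R (B ⧸ Module.annihilator B Q) := Module.Finite.of_injective ψ' hinj
  have h2 : (algebraMap R (B ⧸ Module.annihilator B Q)).Finite := RingHom.finite_algebraMap.2 h1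
  exact h2

theorem map_lc' {R B Q Q' κ : Type*} [CommRing R] [CommRing B] [Fintype κ]
    {ρ : R →+* B} [AddCommGroup Q] [Module B Q] [AddCommGroup Q'] [Module B Q'] (f : Q ≃ₗ[B] Q') (e : κ → Q)
    (c : κ → R) : f (lc ρ e c) = lc ρ (fun i => f (e i)) c := map_lc ρ f.toLinearMap e c

variable {P : Scheme.{u}} {M : P.Modules}

/-- sections of the quotient vanish away from `V` -/
theorem subsingleton_sec (hM : Coh.IsQCoh M) {K : Subobject M} (hK : Coh.IsQCoh (cokernel K.arrow)) {W : P.Opens}
    (hW : Away K W) (U : P.Opens) (hU : U ≤ W) : Subsingleton Γ(cokernel K.arrow, U) := by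
  refine ⟨fun s t => section_ext _ _ _ fun x hx => ?_⟩
  obtain ⟨U', hU', hxU', hle⟩ := exists_aff hx
  refine ⟨U', hle, hxU', ?_⟩
  have : ∀ r : Γ(cokernel K.arrow, U'), r = 0 := by
    intro r
    obtain ⟨m, rfl⟩ := cokSec_surjective hM hK hU' r
    have h1 : m ∈ secSub K U' := by
      rw [hW U' (hle.trans hU)]
      trivial
    rw [← ker_cokSec] at h1
    exact h1
  rw [this (res _ hle s), this (res _ hle t)]

/-- sections of the quotient over `P` are its sections over `V` -/
theorem bijective_res (hM : Coh.IsQCoh M) {K : Subobject M} (hK : Coh.IsQCoh (cokernel K.arrow)) {V W : P.Opens}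
    (hVW : V ⊔ W = ⊤) (hW : Away K W) :
    Function.Bijective (res (cokernel K.arrow) (le_top : V ≤ ⊤)) := by
  constructor
  · intro s t hst
    refine section_ext _ _ _ fun x _ => ?_
    have hx' : x ∈ V ⊔ W := by rw [hVW]; trivial
    rcases hx' with hx' | hx'
    · exact ⟨V, le_top, hx', hst⟩
    · have := subsingleton_sec hM hK hW W le_rfl
      exact ⟨W, le_top, hx', Subsingleton.elim _ _⟩
  · intro s
    obtain ⟨t, ht⟩ := exists_glue (cokernel K.arrow) (U := ⊤) (ι := Bool) (fun b => if b then V else W)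
      (fun _ => le_top) (fun x _ => by
        have hx' : x ∈ V ⊔ W := by rw [hVW]; trivial
        rcases hx' with hx' | hx'
        · exact ⟨true, hx'⟩
        · exact ⟨false, hx'⟩) (fun b => match b with
          | true => s
          | false => 0) (by
        intro i j
        rcases i with _ | _ <;> rcases j with _ | _
        · rfl
        · have := subsingleton_sec hM hK hW (W ⊓ V) inf_le_left
          exact Subsingleton.elim (α := Γ(cokernel K.arrow, W ⊓ V)) _ _
        · have := subsingleton_sec hM hK hW (V ⊓ W) inf_le_right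
          exact Subsingleton.elim (α := Γ(cokernel K.arrow, V ⊓ W)) _ _
        · rfl)
    exact ⟨t, ht true⟩

/-- Sections of an ideal killing the sections over `V` kill the quotient. -/
theorem killed_of (hM : Coh.IsQCoh M) {K : Subobject M} (hK : Coh.IsQCoh (cokernel K.arrow)) {V W : P.Opens}
    (hV : IsAffineOpen V) (hVW : V ⊔ W = ⊤) (hW : Away K W) (I : P.IdealSheafData)
    (hI : ∀ a ∈ I.ideal ⟨V, hV⟩, ∀ m : Γ(M, V), a • m ∈ secSub K V) : ClSub.KilledByIdeal I (cokernel K.arrow) := by
  have hKq : (cokernel K.arrow).IsQuasicoherent := hK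
  intro U a ha
  suffices H : ∀ m : Γ(cokernel K.arrow, U.1), a • m = 0 from fun m => H m
  intro m
  refine section_ext _ _ _ fun x hx => ?_
  have hx' : x ∈ V ⊔ W := by rw [hVW]; trivial
  rcases hx' with hx' | hx'
  · obtain ⟨h, hh, hxh⟩ := hV.exists_basicOpen_le (V := U.1 ⊓ V) ⟨x, ⟨hx, hx'⟩⟩ hx'
    have hhU : P.basicOpen h ≤ U.1 := hh.trans inf_le_left
    have hhV : P.basicOpen h ≤ V := P.basicOpen_le h
    refine ⟨P.basicOpen h, hhU, hxh, ?_⟩
    rw [map_zero, res_smul]
    have ha' : P.presheaf.map (homOfLE hhU).op a ∈ I.ideal ⟨P.basicOpen h, hV.basicOpen h⟩ :=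
      I.ideal_le_comap_ideal (U := ⟨P.basicOpen h, hV.basicOpen h⟩) (V := U) hhU ha
    rw [← I.map_ideal (U := ⟨P.basicOpen h, hV.basicOpen h⟩) (V := ⟨V, hV⟩) hhV] at ha'
    have key : ∀ b ∈ (I.ideal ⟨V, hV⟩).map (P.presheaf.map (homOfLE hhV).op).hom,
        ∀ q : Γ(cokernel K.arrow, P.basicOpen h), b • q = 0 := by
      intro b hb q
      induction hb using Submodule.span_induction with
      | mem b hb =>
        obtain ⟨b, hb, rfl⟩ := hb
        obtain ⟨n, t, ht⟩ := (loc_of_isQuasicoherent (cokernel K.arrow) hV).surj h q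
        obtain ⟨m, rfl⟩ := cokSec_surjective hM hK hV t
        have h1 : b • cokSec K V m = 0 := by
          rw [← map_smul, ← LinearMap.mem_ker, ker_cokSec]
          exact hI b hb m
        have h2 : (P.presheaf.map (homOfLE hhV).op).hom b • res (cokernel K.arrow) hhV (cokSec K V m) = 0 := by
          have h3 := res_smul (cokernel K.arrow) hhV b (cokSec K V m)
          rw [h1, map_zero] at h3
          exact h3.symm
        rw [ht, smul_smul, mul_comm, ← smul_smul] at h2
        exact ((Groth.Agent.Ega1.SubExt.isUnit_res V h).pow n).smul_eq_zero.1 h2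
      | zero => rw [zero_smul]
      | add b b' _ _ h1 h2 => rw [add_smul, h1, h2, add_zero]
      | smul c b _ h1 => rw [smul_eq_mul, mul_smul, h1, smul_zero]
    exact key _ ha' _
  · have := subsingleton_sec hM hK hW (U.1 ⊓ W) inf_le_right
    exact ⟨U.1 ⊓ W, inf_le_left, ⟨hx, hx'⟩, Subsingleton.elim _ _⟩

/-- **Captured quotients with a basis are relatively finite of length `d`.** -/
theorem isRelFinLen_of {T : Scheme.{u}} (p : P ⟶ T) [IsAffine T] [IsSeparated p] [QuasiCompact p]
    [IsNoetherianRing Γ(T, ⊤)]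
    (hM : Coh.IsQCoh M) {K : Subobject M} (hK : Coh.IsQCoh (cokernel K.arrow)) {V W : P.Opens} (hV : IsAffineOpen V)
    (hVW : V ⊔ W = ⊤) (hW : Away K W) {d : ℕ} {e : Fin d → Γ(M, V) ⧸ secSub K V}
    (he : IsUB (p.appLE ⊤ V le_top).hom e) : QuotD.IsRelFinLen p d (cokernel K.arrow) := by
  refine ⟨hK, ?_, ?_⟩
  · let 𝔞 := Module.annihilator Γ(P, V) (Γ(M, V) ⧸ secSub K V)
    have hfin := finite_quot_annihilator (p.appLE ⊤ V le_top).hom he
    have hcl := ClImm.isClosedImmersion_z p hV 𝔞 hfin
    have hfi := ClImm.isFinite_z_comp p hV 𝔞 hfin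
    refine ⟨(ClImm.z hV 𝔞).ker, ?_, ?_⟩
    · have h1 : (ClImm.z hV 𝔞).ker.subschemeι ≫ p = inv (ClImm.z hV 𝔞).toImage ≫ ClImm.z hV 𝔞 ≫ p := by
        rw [IsIso.eq_inv_comp, ← Category.assoc]
        congr 1
        exact (ClImm.z hV 𝔞).toImage_imageι
      rw [h1]
      infer_instance
    · refine killed_of hM hK hV hVW hW _ fun a ha m => ?_
      rw [ClImm.ideal_ker_z, Module.mem_annihilator] at ha
      rw [← Submodule.Quotient.mk_eq_zero, Submodule.Quotient.mk_smul]
      exact ha _
  · rw [Groth.Agent.Ega2.BasSec.isFinLocFreeOfRank_iff]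
    intro x
    let c := cokEquiv hM hK hV
    have hq : Coh.IsQCoh ((Scheme.Modules.pushforward p).obj (cokernel K.arrow)) :=
      Groth.Agent.Ega1.QcqsPush.isQCoh_pushforward p _ hK
    have hbij := bijective_res hM hK hVW hW
    choose t ht using fun i => hbij.2 (c (e i))
    refine ⟨⊤, t, trivial, Groth.Agent.Ega2.BasSec.isBas_of_bijective hq (isAffineOpen_top T) ?_⟩
    let cmb : (Fin d → Γ(T, ⊤)) → Γ(cokernel K.arrow, ⊤) := fun a => ∑ i, p.appTop.hom (a i) • t i
    have h0 : cmb = Groth.Agent.Ega2.BasSec.comb (M := (Scheme.Modules.pushforward p).obj (cokernel K.arrow)) t := rfl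
    have h1 : ∀ a : Fin d → Γ(T, ⊤), res (cokernel K.arrow) (le_top : V ≤ ⊤) (cmb a) =
          c (lc (p.appLE ⊤ V le_top).hom e a) := by
      intro a
      rw [map_lc' c, lc, map_sum]
      refine Finset.sum_congr rfl fun i _ => ?_
      rw [res_smul, ht]
      rfl
    have h2 : Function.Bijective (res (cokernel K.arrow) (le_top : V ≤ ⊤) ∘ cmb) := by
      have h3 : (res (cokernel K.arrow) (le_top : V ≤ ⊤) ∘ cmb) = c ∘ lc (p.appLE ⊤ V le_top).hom e := funext h1
      rw [h3]
      exact c.bijective.comp he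
    rw [← h0]
    exact (Function.Bijective.of_comp_iff' hbij _).1 h2

end K928.ObjOf
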