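import Groth.Agent.RelQuot.K928.Sq
import Groth.Agent.RelQuot.K928.ObjOf

/-!
# Frames of families of quotients
-/

set_option autoImplicit false
set_option linter.style.haveILetI false
set_option linter.dupNamespace false
universe u v

open CategoryTheory CategoryTheory.Limits AlgebraicGeometry Opposite TopologicalSpace

namespace K928.Frame

open Groth.Agent.Fga.QTDefs Groth.Agent.Fga.QT2 Groth.Agent.Ega1.SubSheaf Groth.Agent.CohqA.BaseChangeMod
  K928.Cap K928.UB K928.Sec K928.Sq

/-- quotients and base change -/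
theorem isBC_quot {A B M M' : Type u} [CommRing A] [CommRing B] [AddCommGroup M] [Module A M]
    [AddCommGroup M'] [Module B M'] {φ : A →+* B} {m : M →+ M'} (h : IsBC φ m) (N : Submodule A M)
    (N' : Submodule B M') (hN : N' = Submodule.span B (m '' (N : Set M))) :
    ∃ q : (M ⧸ N) →+ (M' ⧸ N'), (∀ x, q (Submodule.Quotient.mk x) = Submodule.Quotient.mk (m x)) ∧ IsBC φ q := by
  have hmem : ∀ x ∈ N, m x ∈ N' := fun x hx => by
    rw [hN]
    exact Submodule.subset_span ⟨x, hx, rfl⟩
  let q : (M ⧸ N) →+ (M' ⧸ N') := QuotientAddGroup.map N.toAddSubgroup N'.toAddSubgroup m (fun x hx => hmem x hx)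
  have hq : ∀ x, q (Submodule.Quotient.mk x) = Submodule.Quotient.mk (m x) := fun x => rfl
  refine ⟨q, hq, ?_, ?_⟩
  · intro a x
    obtain ⟨x, rfl⟩ := Submodule.Quotient.mk_surjective _ x
    rw [← Submodule.Quotient.mk_smul, hq, hq, h.map_smul, Submodule.Quotient.mk_smul]
  · intro Q _ _ g hg
    obtain ⟨g', hg', -⟩ := h.lift Q (g.comp (Submodule.mkQ N).toAddMonoidHom) (fun a x => by
      change g (Submodule.Quotient.mk (a • x)) = φ a • g (Submodule.Quotient.mk x)
      rw [Submodule.Quotient.mk_smul, hg])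
    have h0 : N' ≤ LinearMap.ker g' := by
      rw [hN, Submodule.span_le]
      rintro _ ⟨x, hx, rfl⟩
      change g' (m x) = 0
      rw [hg']
      change g (Submodule.Quotient.mk x) = 0
      rw [(Submodule.Quotient.mk_eq_zero N).2 hx, map_zero]
    refine ⟨N'.liftQ g' h0, ?_, ?_⟩
    · intro x
      obtain ⟨x, rfl⟩ := Submodule.Quotient.mk_surjective _ x
      rw [hq, Submodule.liftQ_apply, hg']
      rfl
    · intro g'' hg''
      apply Submodule.linearMap_qext
      refine h.hom_ext fun x => ?_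
      rw [LinearMap.comp_apply, LinearMap.comp_apply, Submodule.mkQ_apply, ← hq, hg'', hq, Submodule.liftQ_apply, hg']
      rfl

variable {X Y : Scheme.{u}} (f : X ⟶ Y) {E : X.Modules}

/-- A frame for a submodule `K ≤ E_T`. -/
structure Frame (T : Over Y) (K : Subobject (FGA.ET f E T)) (V W : (PicF.XT f T).Opens) {κ : Type} [Fintype κ]
    (x : κ → Γ(FGA.ET f E T, V)) : Prop where
  aff : IsAffineOpen V
  sup : V ⊔ W = ⊤
  away : Away K W
  bas : IsUB (coef f T V).hom (fun i => (Submodule.Quotient.mk (x i) : Γ(FGA.ET f E T, V) ⧸ secSub K V))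

variable {f} {T T' : Over Y} [IsAffine T.left] [IsAffine T'.left]

/-- Frames pull back. -/
theorem Frame.pull (hE : Coh.IsQCoh E) {K : Subobject (FGA.ET f E T)} (hK : Coh.IsQCoh (cokernel K.arrow))
    {V W : (PicF.XT f T).Opens} {κ : Type} [Fintype κ] {x : κ → Γ(FGA.ET f E T, V)} (h : Frame f T K V W x)
    (g : T' ⟶ T) : Frame f T' (FGA.quotPull f E g K) (pb f g V) (pb f g W) (fun i => ps f E g le_rfl (x i)) := by
  refine ⟨isAffineOpen_pb f g h.aff, pb_sup f g V W h.sup, away_quotPull f g hE hK h.away, ?_⟩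
  have h1 := secSub_quotPull f g (V' := pb f g V) le_rfl hE h.aff (isAffineOpen_pb f g h.aff) hK
  obtain ⟨q, hq, hbc⟩ := isBC_quot (isBC_ps f g (V' := pb f g V) le_rfl hE h.aff (isAffineOpen_pb f g h.aff))
    (secSub K V) (secSub (FGA.quotPull f E g K) (pb f g V)) h1
  have h2 := IsUB.baseChange (isPushout_pb f g h.aff) (m := q) hbc h.bas
  have h3 : (fun i => q (Submodule.Quotient.mk (x i))) =
      fun i => (Submodule.Quotient.mk (ps f E g le_rfl (x i)) :
        Γ(FGA.ET f E T', pb f g V) ⧸ secSub (FGA.quotPull f E g K) (pb f g V)) := funext fun i => hq _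
  rw [← h3]
  exact h2

/-- Frames give families. -/
theorem Frame.isRelFinLen [IsSeparated f] [QuasiCompact f] [IsNoetherianRing Γ(T.left, ⊤)]
    (hE : Coh.IsQCoh E) {K : Subobject (FGA.ET f E T)} (hK : Coh.IsQCoh (cokernel K.arrow))
    {V W : (PicF.XT f T).Opens} {κ : Type} [Fintype κ] {x : κ → Γ(FGA.ET f E T, V)} (h : Frame f T K V W x)
    {d : ℕ} (hd : Fintype.card κ = d) :
    QuotD.IsRelFinLen (PicF.XTproj f T) d (cokernel K.arrow) := by
  have h1 : IsSeparated (PicF.XTproj f T) := inferInstanceAs (IsSeparated (pullback.snd f T.hom))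
  have h2 : QuasiCompact (PicF.XTproj f T) := inferInstanceAs (QuasiCompact (pullback.snd f T.hom))
  exact ObjOf.isRelFinLen_of (PicF.XTproj f T) (isQCoh_ET f hE T) hK h.aff h.sup h.away
    (h.bas.reindex (Fintype.equivFinOfCardEq hd).symm)

end K928.Frame
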