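import Groth.Agent.VarietyA.SmoothReg
import Groth.Agent.UnramA.SmoothFibreDim
import Groth.Agent.VarietyB.DimSch
import Groth.Agent.CalgA.SerreLocal
import Groth.Agent.Ega4dB.FiberStalk
import Mathlib.AlgebraicGeometry.FunctionField

/-!
# Local rings of a relative curve at the points over the generic point
-/

set_option autoImplicit false
universe u

open CategoryTheory CategoryTheory.Limits AlgebraicGeometry TopologicalSpace IsLocalRing

namespace K928.GenFib

open Groth.Agent

/-- the local rings of a smooth curve over a perfect field are principal -/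
theorem pid_of_field (k : Type u) [Field k] [PerfectField k] {C : Scheme.{u}} (f : C ⟶ Spec (CommRingCat.of k))
    [SmoothOfRelativeDimension 1 f] (x : C) : IsPrincipalIdealRing (C.presheaf.stalk x) := by
  have hsm : Smooth f := SmoothOfRelativeDimension.smooth 1 f
  let : C.Over (Spec (CommRingCat.of k)) := ⟨f⟩
  have : LocallyOfFiniteType (C ↘ (Spec (CommRingCat.of k))) := inferInstanceAs (LocallyOfFiniteType f)
  have h1 := VarietyB.DimSch.localDim_eq k x
  rw [UnramA.SmoothFibreDim.localDim_eq 1 f x] at h1
  have hreg : IsRegularLocalRing (C.presheaf.stalk x) :=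
    (VarietyA.SmoothReg.mem_smoothLocus_iff_of_perfectField f x).1
      (by rw [Scheme.Hom.smoothLocus_eq_top]; trivial)
  have hdim : ringKrullDim (C.presheaf.stalk x) ≤ 1 := by
    have h2 : (0 : WithBot ℕ∞) ≤ (VarietyB.DimSch.trd k C x : ℕ) := by positivity
    calc ringKrullDim (C.presheaf.stalk x) = ringKrullDim (C.presheaf.stalk x) + 0 := (add_zero _).symm
      _ ≤ ringKrullDim (C.presheaf.stalk x) + (VarietyB.DimSch.trd k C x : ℕ) := by gcongr
      _ = 1 := by rw [← h1]; rfl
  exact (CalgA.SerreLocal.isPrincipalIdealRing_of_isRegularLocalRing hdim).2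

/-- the local rings of a relative curve over an integral base of characteristic zero at the points over the
generic point are principal -/
theorem pid_stalk {X S : Scheme.{u}} [IsIntegral S] {k : Type u} [Field k] [CharZero k]
    (p : S ⟶ Spec (CommRingCat.of k)) (f : X ⟶ S) [SmoothOfRelativeDimension 1 f] (x : X)
    (hx : f x = genericPoint S) : IsPrincipalIdealRing (X.presheaf.stalk x) := by
  have h1 : CharZero (S.residueField (f x)) := by
    let φ : k →+* S.residueField (f x) :=
      (Spec.preimage (S.fromSpecResidueField (f x) ≫ p)).hom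
    exact charZero_of_injective_ringHom φ.injective
  have h2 : SmoothOfRelativeDimension 1 (f.fiberToSpecResidueField (f x)) :=
    (smoothOfRelativeDimension_isStableUnderBaseChange.{u} 1).of_isPullback
      (IsPullback.of_hasPullback f (S.fromSpecResidueField (f x))) inferInstance
  have h3 : IsPrincipalIdealRing ((f.fiber (f x)).presheaf.stalk (f.asFiber x)) :=
    pid_of_field (S.residueField (f x)) (f.fiberToSpecResidueField (f x)) (f.asFiber x)
  have h4 : Ega4dB.FiberStalk.fibIdeal f x = ⊥ := by
    have h5 : IsField (S.presheaf.stalk (f x)) := by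
      rw [hx]
      exact Field.toIsField S.functionField
    rw [Ega4dB.FiberStalk.fibIdeal, IsLocalRing.isField_iff_maximalIdeal_eq.1 h5, Ideal.map_bot]
  have h6 : Function.Bijective (Ega4dB.FiberStalk.toFiberStalk f x).hom := by
    refine ⟨?_, Ega4dB.FiberStalk.toFiberStalk_surjective f x⟩
    rw [RingHom.injective_iff_ker_eq_bot]
    exact le_bot_iff.1 ((Ega4dB.FiberStalk.ker_toFiberStalk_le f x).trans h4.le)
  let e : X.presheaf.stalk x ≃+* (f.fiber (f x)).presheaf.stalk (f.asFiber x) := RingEquiv.ofBijective _ h6
  exact IsPrincipalIdealRing.of_surjective e.symm.toRingHom e.symm.surjective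

end K928.GenFib
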