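import Groth.Agent.RelQuot.K928.DivAlg
import Groth.Agent.CurvesC.KerSec
import Groth.Agent.Dix.IdealModCartier
import Groth.Agent.Ega2.BasSec

/-!
# Semi-local generators of a line bundle and of an effective Cartier divisor
-/

set_option autoImplicit false
set_option linter.style.haveILetI false
universe u v

open CategoryTheory CategoryTheory.Limits AlgebraicGeometry Opposite TopologicalSpace

namespace K928.Gens

open K928.UB K928.DivAlg Groth.Agent.Ega2.BasSec Groth.Agent.CurvesC.KerSec Groth.Agent.Ega1.SubSheaf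

variable {P : Scheme.{u}} {L : P.Modules} {D : P.IdealSheafData}

/-- `l` generates `L` and `j` generates the ideal `D` over `V` -/
structure Gn (L : P.Modules) (D : P.IdealSheafData) (V : P.Opens) (l : Fin 1 → Γ(L, V))
    (j : Fin 1 → Γ(ClSub.idealMod D, V)) : Prop where
  bl : IsBas l
  bj : IsBas j

theorem comb_one {M : P.Modules} {V : P.Opens} (e : Fin 1 → Γ(M, V)) (a : Fin 1 → Γ(P, V)) :
    comb e a = a 0 • e 0 := by
  rw [comb, Fin.sum_univ_one]

/-- generators near a finite set -/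
theorem exists_gn (hL : FlatMod.IsFinLocFreeOfRank 1 L) (hD : BlowUp.IsEffCartierIdeal D) {V : P.Opens}
    (hV : IsAffineOpen V) (s : Set P) (hs : s.Finite) (hsV : s ⊆ V) :
    ∃ V' ≤ V, IsAffineOpen V' ∧ s ⊆ V' ∧ ∃ l j, Gn L D V' l j := by
  obtain ⟨r, l, hsr, hl⟩ := exists_isBas_of_finite hL hV s hs hsV
  have hj : FlatMod.IsFinLocFreeOfRank 1 (ClSub.idealMod D) :=
    Groth.Agent.Ega2.QCohLocal.isFinLocFreeOfRank_one_iff.2 (Groth.Agent.Dix.IdealModCartier.isInvertible_idealMod hD)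
  obtain ⟨r', j, hsr', hj'⟩ := exists_isBas_of_finite hj (hV.basicOpen r) s hs hsr
  exact ⟨P.basicOpen r', (P.basicOpen_le r').trans (P.basicOpen_le r), (hV.basicOpen r).basicOpen r', hsr', _, j,
    hl.res (P.basicOpen_le r'), hj'⟩

/-- the generator of the ideal -/
noncomputable def dl (D : P.IdealSheafData) {V : P.Opens} (j : Fin 1 → Γ(ClSub.idealMod D, V)) : Γ(P, V) :=
  toFun ((ClSub.idealModι D).app V (j 0))

theorem Gn.res {V : P.Opens} {l : Fin 1 → Γ(L, V)} {j : Fin 1 → Γ(ClSub.idealMod D, V)} (h : Gn L D V l j)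
    {O : P.Opens} (hO : O ≤ V) : ∃ l' j', Gn L D O l' j' := ⟨_, _, h.bl.res hO, h.bj.res hO⟩

variable {V : P.Opens} {l : Fin 1 → Γ(L, V)} {j : Fin 1 → Γ(ClSub.idealMod D, V)}

theorem Gn.bijL (h : Gn L D V l j) : Function.Bijective (LinearMap.toSpanSingleton Γ(P, V) Γ(L, V) (l 0)) := by
  have h1 := h.bl.bijective
  constructor
  · intro c c' hc
    have h2 := @h1.1 (fun _ => c) (fun _ => c') (by rw [comb_one, comb_one]; exact hc)
    exact congrFun h2 0
  · intro m
    obtain ⟨a, ha⟩ := h1.2 m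
    rw [comb_one] at ha
    exact ⟨a 0, ha⟩

theorem Gn.ideal_eq (h : Gn L D V l j) (hV : IsAffineOpen V) : D.ideal ⟨V, hV⟩ = Ideal.span {dl D j} := by
  apply le_antisymm
  · intro r hr
    obtain ⟨m, hm⟩ := exists_idealModι_app_eq D ⟨V, hV⟩ r hr
    obtain ⟨a, ha⟩ := h.bj.bijective.2 m
    rw [comb_one] at ha
    rw [Ideal.mem_span_singleton']
    refine ⟨a 0, ?_⟩
    have h1 : (ClSub.idealModι D).app V (a 0 • j 0) = a 0 • (ClSub.idealModι D).app V (j 0) :=
      Scheme.Modules.Hom.app_smul _ _ _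
    have h2 : ofFun r = a 0 • (ClSub.idealModι D).app V (j 0) := by rw [← h1, ha, hm]
    exact h2.symm
  · rw [Ideal.span_singleton_le_iff_mem]
    exact idealModι_app_mem D ⟨V, hV⟩ (j 0)

theorem Gn.inj (h : Gn L D V l j) (c : Γ(P, V)) (hc : c * dl D j = 0) : c = 0 := by
  have h1 : (ClSub.idealModι D).app V (c • j 0) = 0 := by
    have h2 : (ClSub.idealModι D).app V (c • j 0) = c • (ClSub.idealModι D).app V (j 0) :=
      Scheme.Modules.Hom.app_smul _ _ _
    rw [h2]
    exact hc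
  have h3 : c • j 0 = 0 := idealModι_app_injective D V (by rw [h1, map_zero])
  have h4 := @h.bj.bijective.1 (fun _ => c) 0 (by rw [comb_one, comb_one, Pi.zero_apply, zero_smul]; exact h3)
  exact congrFun h4 0

/-- the module data attached to generators and a basis of the divisor -/
theorem Gn.ac (h : Gn L D V l j) (hV : IsAffineOpen V) {R : CommRingCat.{u}} (ρ : R ⟶ Γ(P, V)) {b : ℕ}
    {v : Fin b → Γ(P, V)}
    (hv : IsUB ρ.hom (fun i => (Ideal.Quotient.mk (D.ideal ⟨V, hV⟩) (v i) : Γ(P, V) ⧸ D.ideal ⟨V, hV⟩))) :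
    AC ρ.hom (D.ideal ⟨V, hV⟩) (dl D j • l 0) (fun i => v i • l 0) := by
  have hb := h.bijL
  have hI := h.ideal_eq hV
  let c : Γ(P, V) ≃ₗ[Γ(P, V)] Γ(L, V) := LinearEquiv.ofBijective _ hb
  have hc : ∀ r, c r = r • l 0 := fun r => rfl
  have hmap : Submodule.map (c : Γ(P, V) →ₗ[Γ(P, V)] Γ(L, V)) (D.ideal ⟨V, hV⟩) =
      Submodule.span Γ(P, V) {dl D j • l 0} := by
    rw [hI]
    refine (Submodule.map_span _ _).trans ?_
    rw [Set.image_singleton]
    rfl
  refine ⟨?_, ?_, ?_⟩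
  · rw [← hmap]
    apply le_antisymm
    · rw [Submodule.smul_le]
      intro r hr m _
      obtain ⟨m, rfl⟩ := c.surjective m
      rw [← map_smul, smul_eq_mul, mul_comm]
      exact ⟨m * r, Ideal.mul_mem_left _ _ hr, rfl⟩
    · rintro _ ⟨r, hr, rfl⟩
      change c r ∈ _
      rw [hc]
      exact Submodule.smul_mem_smul hr trivial
  · intro r hr
    refine h.inj r ?_
    apply c.injective
    rw [map_zero, hc, mul_smul]
    exact hr
  · have h1 := hv.of_equiv (Submodule.Quotient.equiv _ _ c hmap)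
    exact h1

end K928.Gens
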