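import Mathlib.AlgebraicGeometry.Morphisms.ClosedImmersion
import Mathlib.AlgebraicGeometry.IdealSheaf.Subscheme
import Mathlib.AlgebraicGeometry.Restrict
import Mathlib.AlgebraicGeometry.Noetherian
import Groth.Agent.Ega1.ReducedSub

/-!
# Noetherian induction for properties of subschemes

`K928.NoethInd.noethInd`: a property of morphisms `T ⟶ Y` that holds for empty `T`, is invariant under
isomorphisms and passes from the two pieces of a cut-and-paste datum to the whole, holds for every closed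
subscheme of `Y` as soon as it holds for all small opens of every integral closed subscheme.
-/

set_option autoImplicit false
universe u

open CategoryTheory CategoryTheory.Limits AlgebraicGeometry TopologicalSpace

namespace K928.NoethInd

/-- The closed reduced subscheme on a closed set. -/
theorem exists_reduced_closed {X : Scheme.{u}} (C : Set X) (hC : IsClosed C) :
    ∃ (W : Scheme.{u}) (j : W ⟶ X), IsClosedImmersion j ∧ IsReduced W ∧ Set.range j = C := by
  refine ⟨(Scheme.IdealSheafData.vanishingIdeal ⟨C, hC⟩).subscheme,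
    (Scheme.IdealSheafData.vanishingIdeal ⟨C, hC⟩).subschemeι, inferInstance,
    Groth.Agent.Ega1.ReducedSub.isReduced_subscheme_vanishingIdeal _, ?_⟩
  rw [Scheme.IdealSheafData.range_subschemeι]
  exact Scheme.IdealSheafData.coe_support_vanishingIdeal _

/-- An open subscheme of a reduced scheme inside a closed reduced subscheme is an open of the latter. -/
theorem isIso_restrict {Z Z₁ : Scheme.{u}} (i₁ : Z₁ ⟶ Z) [IsClosedImmersion i₁] [IsReduced Z]
    (W : Z.Opens) (hW : (W : Set Z) ⊆ Set.range i₁) : IsIso (i₁ ∣_ W) := by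
  have h1 : IsClosedImmersion (i₁ ∣_ W) := inferInstance
  have h2 : Surjective (i₁ ∣_ W) := by
    constructor
    intro w
    obtain ⟨z, hz⟩ := hW w.2
    refine ⟨⟨z, ?_⟩, ?_⟩
    · change i₁ z ∈ W
      rw [hz]; exact w.2
    · apply Subtype.ext
      rw [morphismRestrict_base_coe]
      exact hz
  exact isIso_of_isClosedImmersion_of_surjective _

theorem noethInd {Y : Scheme.{u}} [NoetherianSpace Y] (P : ∀ ⦃T : Scheme.{u}⦄, (T ⟶ Y) → Prop)
    (h_empty : ∀ ⦃T : Scheme.{u}⦄ (t : T ⟶ Y) [IsEmpty T], P t)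
    (h_iso : ∀ ⦃T T' : Scheme.{u}⦄ (e : T ≅ T') (t : T' ⟶ Y), P t → P (e.hom ≫ t))
    (h_sciss : ∀ ⦃T Z U : Scheme.{u}⦄ (t : T ⟶ Y) [IsClosedImmersion t] (i : Z ⟶ T)
      [IsClosedImmersion i] (j : U ⟶ T) [IsOpenImmersion j], Set.range i = (Set.range j)ᶜ →
      P (i ≫ t) → P (j ≫ t) → P t)
    (h_dense : ∀ ⦃Z : Scheme.{u}⦄ (i : Z ⟶ Y) [IsClosedImmersion i] [IsIntegral Z],
      ∃ U : Z.Opens, (U : Set Z).Nonempty ∧ ∀ U' : Z.Opens, U' ≤ U → P (U'.ι ≫ i))
    {Z : Scheme.{u}} (i : Z ⟶ Y) [IsClosedImmersion i] : P i := by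
  suffices key : ∀ (C : Closeds Y) ⦃Z : Scheme.{u}⦄ (i : Z ⟶ Y) [IsClosedImmersion i],
      Set.range i = C → P i from
    key ⟨Set.range i, i.isClosedEmbedding.isClosed_range⟩ i rfl
  intro C
  induction C using WellFoundedLT.induction with
  | ind C ih =>
  have hlt : ∀ ⦃Z T : Scheme.{u}⦄ (i : Z ⟶ Y) [IsClosedImmersion i] (t : T ⟶ Z)
      [IsClosedImmersion t], Set.range i = C → Set.range t ≠ Set.univ → P (t ≫ i) := by
    intro Z T i _ t _ hi ht
    have h1 : IsClosedImmersion (t ≫ i) := inferInstance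
    refine ih ⟨Set.range (t ≫ i), (t ≫ i).isClosedEmbedding.isClosed_range⟩ ?_ (t ≫ i) rfl
    rw [lt_iff_le_and_ne]
    constructor
    · rintro _ ⟨y, rfl⟩
      change (t ≫ i) y ∈ (C : Set Y)
      rw [← hi, Scheme.Hom.comp_apply]
      exact ⟨_, rfl⟩
    · intro e
      apply ht
      rw [Set.eq_univ_iff_forall]
      intro y
      have h3 : i y ∈ (C : Set Y) := by rw [← hi]; exact ⟨y, rfl⟩
      rw [← e] at h3
      obtain ⟨x, hx⟩ := h3
      exact ⟨x, i.isClosedEmbedding.injective (by rw [← hx, Scheme.Hom.comp_apply])⟩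
  -- the reduced case
  have hred : ∀ ⦃Z : Scheme.{u}⦄ (i : Z ⟶ Y) [IsClosedImmersion i] [IsReduced Z],
      Set.range i = C → P i := by
    intro Z i _ _ hi
    rcases isEmpty_or_nonempty Z with he | hne
    · exact h_empty i
    have hnoeth : NoetherianSpace Z := i.isClosedEmbedding.isEmbedding.isInducing.noetherianSpace
    obtain ⟨z⟩ := hne
    obtain ⟨o, ho, hone, hosub⟩ := NoetherianSpace.exists_isOpen_nonempty_subset_irreducibleComponent
      (irreducibleComponent z) (irreducibleComponent_mem_irreducibleComponents z)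
    obtain ⟨Z₁, i₁, h1, h2, h3⟩ := exists_reduced_closed (irreducibleComponent z)
      isClosed_irreducibleComponent
    have hirr : IsIrreducible (Set.range i₁) := by
      rw [h3]; exact isIrreducible_irreducibleComponent
    have hirr2 : IrreducibleSpace Z₁ :=
      (i₁.isClosedEmbedding.isEmbedding.toHomeomorph).irreducibleSpace_iff.2
        (isIrreducible_iff_irreducibleSpace.1 hirr)
    have hint : IsIntegral Z₁ := isIntegral_of_irreducibleSpace_of_isReduced Z₁
    obtain ⟨U, hU, hPU⟩ := h_dense (i₁ ≫ i)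
    -- an open of `Z` inside the component with trace inside `U`
    obtain ⟨O, hO, hOU⟩ := (i₁.isClosedEmbedding.isInducing.isOpen_iff).mp U.isOpen
    let W : Z.Opens := ⟨o ∩ O, ho.inter hO⟩
    have hWsub : (W : Set Z) ⊆ Set.range i₁ := fun w hw => by rw [h3]; exact hosub hw.1
    have hWU : i₁ ⁻¹ᵁ W ≤ U := by
      intro w hw
      have : i₁ w ∈ O := hw.2
      have h4 : w ∈ i₁ ⁻¹' O := this
      rw [hOU] at h4
      exact h4
    have hWne : (W : Set Z).Nonempty := by
      -- both `o` and `U` are non empty opens of the irreducible space `Z₁`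
      have ho' : (i₁ ⁻¹' o).Nonempty := by
        obtain ⟨x, hx⟩ := hone
        have : x ∈ Set.range i₁ := by rw [h3]; exact hosub hx
        obtain ⟨y, rfl⟩ := this
        exact ⟨y, hx⟩
      obtain ⟨y, hy1, hy2⟩ := nonempty_preirreducible_inter (ho.preimage i₁.continuous) U.isOpen
        ho' hU
      refine ⟨i₁ y, hy1, ?_⟩
      have : y ∈ i₁ ⁻¹' O := by rw [hOU]; exact hy2
      exact this
    obtain ⟨Z', i', hi', -, hri'⟩ := exists_reduced_closed ((W : Set Z)ᶜ) W.isOpen.isClosed_compl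
    refine h_sciss i i' W.ι (by rw [hri', Scheme.Opens.range_ι]) ?_ ?_
    · apply hlt i i' hi
      rw [hri']
      intro h
      obtain ⟨w, hw⟩ := hWne
      have : w ∈ (W : Set Z)ᶜ := by rw [h]; trivial
      exact this hw
    · have hiso := isIso_restrict i₁ W hWsub
      have h5 := h_iso (asIso (i₁ ∣_ W)).symm ((i₁ ⁻¹ᵁ W).ι ≫ i₁ ≫ i) (hPU _ hWU)
      have h6 : (asIso (i₁ ∣_ W)).symm.hom ≫ (i₁ ⁻¹ᵁ W).ι ≫ i₁ ≫ i = W.ι ≫ i := by
        rw [Iso.symm_hom, asIso_inv, IsIso.inv_comp_eq, ← Category.assoc, ← Category.assoc,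
          morphismRestrict_ι]
      rwa [h6] at h5
  intro Z i _ hi
  -- reduce to the reduced case
  obtain ⟨Z', i', hi', hr', hri'⟩ := exists_reduced_closed (Set.univ : Set Z) isClosed_univ
  refine h_sciss i i' (Scheme.emptyTo Z) ?_ ?_ ?_
  · rw [hri', Set.range_eq_empty (Scheme.emptyTo Z), Set.compl_empty]
  · have h1 : IsClosedImmersion (i' ≫ i) := inferInstance
    apply hred
    rw [Scheme.Hom.comp_base, TopCat.coe_comp, Set.range_comp, hri', Set.image_univ, hi]
  · exact h_empty _

end K928.NoethInd
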