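import Groth.Prelude.Def_K0Var
import Mathlib.AlgebraicGeometry.Noetherian
import Mathlib.AlgebraicGeometry.PullbackCarrier
import Groth.Agent.RelQuot.K928.NoethInd

/-!
# Calculus in the Grothendieck ring of varieties

* `cl_eq_mul_of_isPullback`: `[P] = [T]·[F]` for a fibre product `P = T ×_S F` given as a pull-back square;
* `cl_scissor_of_isPullback`: the cut-and-paste relation pulled back along `b : XT ⟶ T`;
* `cl_eq_of_bijective_closed`: a surjective closed immersion does not change the class;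
* `cl_fibration`: `[X] = [Y]·[F]` for Zariski locally trivial fibrations, `Y` Noetherian.
-/

set_option autoImplicit false
universe u

open CategoryTheory CategoryTheory.Limits AlgebraicGeometry TopologicalSpace

namespace K928.K0Calc

variable {S : Scheme.{u}}

theorem cl_eq_zero {X : Scheme.{u}} [IsEmpty X] (f : X ⟶ S) [LocallyOfFiniteType f] [QuasiCompact f] :
    K0Var.cl f = 0 :=
  haveI : IsEmpty (K0Var.Gen.mk X f).X := inferInstanceAs (IsEmpty X)
  K0Var.Gen.cl_eq_zero_of_isEmpty (K0Var.Gen.mk X f)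

/-- the class of a fibre product given by a pull-back square. -/
theorem cl_eq_mul_of_isPullback {P T F : Scheme.{u}} {a : P ⟶ F} {b : P ⟶ T} {g : F ⟶ S} {t : T ⟶ S}
    (h : IsPullback a b g t) [LocallyOfFiniteType t] [QuasiCompact t] [LocallyOfFiniteType g]
    [QuasiCompact g] [LocallyOfFiniteType (b ≫ t)] [QuasiCompact (b ≫ t)] :
    K0Var.cl (b ≫ t) = K0Var.cl t * K0Var.cl g := by
  rw [← K0Var.cl_mul]
  refine K0Var.cl_congr _ _ (h.flip.isoPullback) ?_
  rw [← Category.assoc, IsPullback.isoPullback_hom_fst]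

/-- The cut-and-paste relation for generators given by arbitrary pieces. -/
theorem cl_scissor' {X Z U : Scheme.{u}} (f : X ⟶ S) [LocallyOfFiniteType f] [QuasiCompact f]
    (i : Z ⟶ X) [IsClosedImmersion i] (j : U ⟶ X) [IsOpenImmersion j]
    (z : Z ⟶ S) [LocallyOfFiniteType z] [QuasiCompact z]
    (v : U ⟶ S) [LocallyOfFiniteType v] [QuasiCompact v] (hz : i ≫ f = z) (hv : j ≫ f = v)
    (hr : Set.range i = (Set.range j)ᶜ) :
    K0Var.cl f = K0Var.cl z + K0Var.cl v :=
  K0Var.Gen.cl_scissor (A := K0Var.Gen.mk X f) (Z := K0Var.Gen.mk Z z) (U := K0Var.Gen.mk U v)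
    { isClosedImmersion := inferInstance
      isOpenImmersion := inferInstance
      i_comp := hz
      j_comp := hv
      range_eq := hr }

/-- A surjective closed immersion does not change the class. -/
theorem cl_eq_of_surjective_closed {X Z : Scheme.{u}} (f : X ⟶ S) [LocallyOfFiniteType f]
    [QuasiCompact f] (i : Z ⟶ X) [IsClosedImmersion i] (hi : Function.Surjective i)
    (z : Z ⟶ S) [LocallyOfFiniteType z] [QuasiCompact z] (hz : i ≫ f = z) :
    K0Var.cl f = K0Var.cl z := by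
  rw [cl_scissor' f i (Scheme.emptyTo X) z (Scheme.emptyTo S) hz (Subsingleton.elim _ _) (by
    rw [Set.range_eq_empty (Scheme.emptyTo X), Set.compl_empty, Set.range_eq_univ]
    exact hi), K0Var.cl_empty, add_zero]

/-- The cut-and-paste relation pulled back along `b : XT ⟶ T`. -/
theorem cl_scissor_pullback {XT T Z U : Scheme.{u}} (b : XT ⟶ T) (f : XT ⟶ S)
    [LocallyOfFiniteType f] [QuasiCompact f]
    (i : Z ⟶ T) [IsClosedImmersion i] (j : U ⟶ T) [IsOpenImmersion j] [QuasiCompact j]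
    (hr : Set.range i = (Set.range j)ᶜ) :
    K0Var.cl f = K0Var.cl (pullback.fst b i ≫ f) + K0Var.cl (pullback.fst b j ≫ f) := by
  refine cl_scissor' f (pullback.fst b i) (pullback.fst b j) _ _ rfl rfl ?_
  rw [Scheme.Pullback.range_fst, Scheme.Pullback.range_fst, hr, Set.preimage_compl]

theorem noetherian_of_isClosedImmersion {Y Z : Scheme.{u}} [NoetherianSpace Y] (i : Z ⟶ Y)
    [IsClosedImmersion i] : NoetherianSpace Z :=
  i.isClosedEmbedding.isEmbedding.isInducing.noetherianSpace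

/-- An additive family of values attached to the morphisms to a fixed base `Y`. -/
structure IsAdd {Y : Scheme.{u}} {R : Type*} [AddCommGroup R]
    (A : ∀ ⦃T : Scheme.{u}⦄, (T ⟶ Y) → R) : Prop where
  zero : ∀ ⦃T : Scheme.{u}⦄ (t : T ⟶ Y) [IsEmpty T], A t = 0
  iso : ∀ ⦃T T' : Scheme.{u}⦄ (e : T ≅ T') (t : T' ⟶ Y), A (e.hom ≫ t) = A t
  add : ∀ ⦃T Z U : Scheme.{u}⦄ (t : T ⟶ Y) [LocallyOfFiniteType t] [QuasiCompact t] (i : Z ⟶ T)
      [IsClosedImmersion i] (j : U ⟶ T) [IsOpenImmersion j] [QuasiCompact j],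
      Set.range i = (Set.range j)ᶜ → A t = A (i ≫ t) + A (j ≫ t)

/-- Principle: two additive families over a Noetherian base `Y` agree as soon as they
agree over small opens of integral closed subschemes. -/
theorem IsAdd.ext {Y : Scheme.{u}} [NoetherianSpace Y] {R : Type*} [AddCommGroup R]
    {A B : ∀ ⦃T : Scheme.{u}⦄, (T ⟶ Y) → R} (hA : IsAdd A) (hB : IsAdd B)
    (h_dense : ∀ ⦃Z : Scheme.{u}⦄ (i : Z ⟶ Y) [IsClosedImmersion i] [IsIntegral Z],
      ∃ U : Z.Opens, (U : Set Z).Nonempty ∧ ∀ U' : Z.Opens, U' ≤ U →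
        A (U'.ι ≫ i) = B (U'.ι ≫ i))
    {Z : Scheme.{u}} (i : Z ⟶ Y) [IsClosedImmersion i] : A i = B i := by
  refine NoethInd.noethInd (fun T t => A t = B t) ?_ ?_ ?_ h_dense i
  · intro T t _
    rw [hA.zero, hB.zero]
  · intro T T' e t h
    rw [hA.iso, hB.iso, h]
  · intro T Z U t _ i _ j _ hr h1 h2
    have : NoetherianSpace T := noetherian_of_isClosedImmersion t
    have : NoetherianSpace U := j.isOpenEmbedding.isInducing.noetherianSpace
    rw [hA.add t i j hr, hB.add t i j hr, h1, h2]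

theorem IsAdd.plus {Y : Scheme.{u}} {R : Type*} [AddCommGroup R]
    {A B : ∀ ⦃T : Scheme.{u}⦄, (T ⟶ Y) → R} (hA : IsAdd A) (hB : IsAdd B) :
    IsAdd (fun T (t : T ⟶ Y) => A t + B t) where
  zero T t _ := by rw [hA.zero, hB.zero, add_zero]
  iso T T' e t := by rw [hA.iso, hB.iso]
  add T Z U t _ _ i _ j _ _ hr := by
    rw [hA.add t i j hr, hB.add t i j hr]; abel

theorem IsAdd.map {Y : Scheme.{u}} {R R' : Type*} [AddCommGroup R] [AddCommGroup R'] (φ : R →+ R')
    {A : ∀ ⦃T : Scheme.{u}⦄, (T ⟶ Y) → R} (hA : IsAdd A) :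
    IsAdd (fun T (t : T ⟶ Y) => φ (A t)) where
  zero T t _ := by rw [hA.zero, map_zero]
  iso T T' e t := by rw [hA.iso]
  add T Z U t _ _ i _ j _ _ hr := by rw [hA.add t i j hr, map_add]

theorem IsAdd.mul_const {Y : Scheme.{u}} {R : Type*} [CommRing R]
    {A : ∀ ⦃T : Scheme.{u}⦄, (T ⟶ Y) → R} (hA : IsAdd A) (c : R) :
    IsAdd (fun T (t : T ⟶ Y) => A t * c) :=
  hA.map (AddMonoidHom.mulRight c)

theorem isAdd_zero {Y : Scheme.{u}} {R : Type*} [AddCommGroup R] :
    IsAdd (fun T (_ : T ⟶ Y) => (0 : R)) where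
  zero T t _ := rfl
  iso T T' e t := rfl
  add T Z U t _ _ i _ j _ _ hr := by simp

theorem IsAdd.sum {Y : Scheme.{u}} {R : Type*} [AddCommGroup R] {ι : Type*} (s : Finset ι)
    {A : ι → ∀ ⦃T : Scheme.{u}⦄, (T ⟶ Y) → R} (hA : ∀ i ∈ s, IsAdd (A i)) :
    IsAdd (fun T (t : T ⟶ Y) => ∑ i ∈ s, A i t) := by
  classical
  induction s using Finset.induction_on with
  | empty => simpa using isAdd_zero
  | insert a s ha ih =>
    have h1 := (hA a (Finset.mem_insert_self a s)).plus
      (ih (fun i hi => hA i (Finset.mem_insert_of_mem hi)))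
    simpa [Finset.sum_insert ha] using h1

open Classical in
/-- the class of a morphism, zero if it is not of finite type. -/
noncomputable def clD {X : Scheme.{u}} (f : X ⟶ S) : K0Var.K S :=
  if h : LocallyOfFiniteType f ∧ QuasiCompact f then
    (haveI := h.1; haveI := h.2; K0Var.cl f) else 0

theorem clD_eq {X : Scheme.{u}} (f : X ⟶ S) [h1 : LocallyOfFiniteType f] [h2 : QuasiCompact f] :
    clD f = K0Var.cl f := by
  rw [clD, dif_pos ⟨h1, h2⟩]

/-- the class over `S` of the pull-back of `f : X ⟶ Y` along `t : T ⟶ Y`, where `p : Y ⟶ S`. -/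
noncomputable def relCl {X Y : Scheme.{u}} (f : X ⟶ Y) (p : Y ⟶ S) ⦃T : Scheme.{u}⦄ (t : T ⟶ Y) :
    K0Var.K S :=
  clD (pullback.snd f t ≫ t ≫ p)

theorem relCl_eq_of_isPullback {X Y : Scheme.{u}} (f : X ⟶ Y) (p : Y ⟶ S)
    [LocallyOfFiniteType f] [QuasiCompact f] [LocallyOfFiniteType p] [QuasiCompact p]
    {T XT : Scheme.{u}} {a : XT ⟶ X} {b : XT ⟶ T} {t : T ⟶ Y} (h : IsPullback a b f t)
    [LocallyOfFiniteType t] [QuasiCompact t] (q : XT ⟶ S) [LocallyOfFiniteType q] [QuasiCompact q]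
    (hq : b ≫ t ≫ p = q) :
    relCl f p t = K0Var.cl q := by
  rw [relCl, clD_eq]
  refine K0Var.cl_congr _ _ h.isoPullback.symm ?_
  rw [Iso.symm_hom, ← hq, ← Category.assoc, IsPullback.isoPullback_inv_snd]

theorem isAdd_relCl {X Y : Scheme.{u}} (f : X ⟶ Y) (p : Y ⟶ S) [LocallyOfFiniteType f]
    [QuasiCompact f] [LocallyOfFiniteType p] [QuasiCompact p] :
    IsAdd (fun T (t : T ⟶ Y) => relCl f p t) where
  zero T t _ := by
    have : IsEmpty (pullback f t : Scheme.{u}) := ⟨fun x => isEmptyElim (pullback.snd f t x)⟩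
    change relCl f p t = 0
    rw [relCl]
    by_cases h : LocallyOfFiniteType (pullback.snd f t ≫ t ≫ p) ∧
      QuasiCompact (pullback.snd f t ≫ t ≫ p)
    · have := h.1
      have := h.2
      rw [clD_eq, cl_eq_zero]
    · rw [clD, dif_neg h]
  iso T T' e t := by
    change relCl f p (e.hom ≫ t) = relCl f p t
    have hp : IsPullback (pullback.fst f (e.hom ≫ t)) (pullback.snd f (e.hom ≫ t) ≫ e.hom) f t := by
      have h1 : IsPullback (pullback.fst f (e.hom ≫ t)) (pullback.snd f (e.hom ≫ t)) f (e.hom ≫ t) :=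
        IsPullback.of_hasPullback _ _
      exact h1.of_iso (Iso.refl _) (Iso.refl _) e (Iso.refl _) (by simp) (by simp) (by simp)
        (by simp)
    let e' : pullback f (e.hom ≫ t) ≅ pullback f t := hp.isoPullback
    have he' : e'.hom ≫ (pullback.snd f t ≫ t ≫ p) =
        pullback.snd f (e.hom ≫ t) ≫ (e.hom ≫ t) ≫ p := by
      rw [← Category.assoc, IsPullback.isoPullback_hom_snd]; simp
    rw [relCl, relCl]
    by_cases h : LocallyOfFiniteType (pullback.snd f t ≫ t ≫ p) ∧
      QuasiCompact (pullback.snd f t ≫ t ≫ p)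
    · have h1 := h.1
      have h2 := h.2
      have h3 : LocallyOfFiniteType (pullback.snd f (e.hom ≫ t) ≫ (e.hom ≫ t) ≫ p) := by
        rw [← he']; infer_instance
      have h4 : QuasiCompact (pullback.snd f (e.hom ≫ t) ≫ (e.hom ≫ t) ≫ p) := by
        rw [← he']; infer_instance
      rw [clD_eq, clD_eq]
      exact K0Var.cl_congr _ _ e' he'
    · have h' : ¬ (LocallyOfFiniteType (pullback.snd f (e.hom ≫ t) ≫ (e.hom ≫ t) ≫ p) ∧
          QuasiCompact (pullback.snd f (e.hom ≫ t) ≫ (e.hom ≫ t) ≫ p)) := by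
        rintro ⟨h1, h2⟩
        apply h
        have h5 : pullback.snd f t ≫ t ≫ p = e'.inv ≫
            pullback.snd f (e.hom ≫ t) ≫ (e.hom ≫ t) ≫ p := by
          rw [← he', Iso.inv_hom_id_assoc]
        rw [h5]
        exact ⟨inferInstance, inferInstance⟩
      rw [clD, clD, dif_neg h, dif_neg h']
  add T Z U t _ _ i _ j _ _ hr := by
    change relCl f p t = relCl f p (i ≫ t) + relCl f p (j ≫ t)
    rw [relCl, clD_eq, cl_scissor_pullback (pullback.snd f t) _ i j hr]
    have h1 : ∀ {W : Scheme.{u}} (w : W ⟶ T), IsPullback (pullback.fst (pullback.snd f t) w ≫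
        pullback.fst f t) (pullback.snd (pullback.snd f t) w) f (w ≫ t) := fun w =>
      (IsPullback.of_hasPullback (pullback.snd f t) w).flip.paste_vert
        (IsPullback.of_hasPullback f t).flip |>.flip
    congr 1
    · symm
      refine relCl_eq_of_isPullback f p (h1 i) _ ?_
      rw [Category.assoc, ← reassoc_of% (pullback.condition (f := pullback.snd f t) (g := i))]
    · symm
      refine relCl_eq_of_isPullback f p (h1 j) _ ?_
      rw [Category.assoc, ← reassoc_of% (pullback.condition (f := pullback.snd f t) (g := j))]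

theorem relCl_id {X Y : Scheme.{u}} (f : X ⟶ Y) (p : Y ⟶ S) [LocallyOfFiniteType f]
    [QuasiCompact f] [LocallyOfFiniteType p] [QuasiCompact p] :
    relCl f p (𝟙 Y) = K0Var.cl (f ≫ p) :=
  relCl_eq_of_isPullback f p (IsPullback.of_horiz_isIso ⟨by simp⟩ : IsPullback (𝟙 X) f f (𝟙 Y)) _
    (by simp)

/-- `t ↦ [T]` as a relative class. -/
theorem relCl_self {Y : Scheme.{u}} (p : Y ⟶ S) [LocallyOfFiniteType p] [QuasiCompact p]
    {T : Scheme.{u}} (t : T ⟶ Y) [LocallyOfFiniteType t] [QuasiCompact t] :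
    relCl (𝟙 Y) p t = K0Var.cl (t ≫ p) :=
  relCl_eq_of_isPullback (𝟙 Y) p (IsPullback.of_vert_isIso ⟨by simp⟩ :
    IsPullback t (𝟙 T) (𝟙 Y) t) _ (by simp)

end K928.K0Calc
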