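import Groth.Agent.RelQuot.K928.K0Calc
import Mathlib.AlgebraicGeometry.Limits

/-!
# The class of a finite disjoint union
-/

set_option autoImplicit false
universe u

open CategoryTheory CategoryTheory.Limits AlgebraicGeometry TopologicalSpace

namespace K928.K0Sum

/-- The class of a finite disjoint union of opens is the sum of the classes. -/
theorem cl_eq_sum {T Y : Scheme.{u}} (h : T ⟶ Y) [LocallyOfFiniteType h] [QuasiCompact h]
    {ι : Type*} [Fintype ι] {P : ι → Scheme.{u}} (φ : ∀ i, P i ⟶ T) [∀ i, IsOpenImmersion (φ i)]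
    (hd : ∀ i j t, t ∈ Set.range (φ i) → t ∈ Set.range (φ j) → i = j)
    (hc : ∀ t, ∃ i, t ∈ Set.range (φ i)) (p : ∀ i, P i ⟶ Y) [∀ i, LocallyOfFiniteType (p i)]
    [∀ i, QuasiCompact (p i)] (hp : ∀ i, φ i ≫ h = p i) :
    K0Var.cl h = ∑ i, K0Var.cl (p i) := by
  classical
  let U : Finset ι → T.Opens := fun s => ⨆ i ∈ s, (φ i).opensRange
  have hU : ∀ s t, t ∈ U s ↔ ∃ i ∈ s, t ∈ Set.range (φ i) := by
    intro s t
    simp only [U, Opens.mem_iSup, exists_prop]
    rfl
  have hcl : ∀ s, IsClosedImmersion (U s).ι := by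
    intro s
    refine .of_isPreimmersion _ ?_
    rw [Scheme.Opens.range_ι]
    have h1 : (U s : Set T) = (U sᶜ : Set T)ᶜ := by
      ext t
      rw [SetLike.mem_coe, hU, Set.mem_compl_iff, SetLike.mem_coe, hU]
      constructor
      · rintro ⟨i, hi, hti⟩ ⟨j, hj, htj⟩
        exact (Finset.mem_compl.1 hj) (hd i j t hti htj ▸ hi)
      · intro hn
        obtain ⟨i, hi⟩ := hc t
        by_contra hns
        exact hn ⟨i, Finset.mem_compl.2 fun his => hns ⟨i, his, hi⟩, hi⟩
    rw [h1]
    exact (U sᶜ).isOpen.isClosed_compl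
  have key : ∀ s : Finset ι, ∀ [QuasiCompact ((U s).ι ≫ h)],
      K0Var.cl ((U s).ι ≫ h) = ∑ i ∈ s, K0Var.cl (p i) := by
    intro s
    induction s using Finset.induction_on with
    | empty =>
      intro _
      have : IsEmpty (U ∅).toScheme := ⟨fun x => by
        obtain ⟨i, hi, -⟩ := (hU ∅ x.1).1 x.2
        simp at hi⟩
      rw [Finset.sum_empty, K0Calc.cl_eq_zero]
    | insert a s ha ih =>
      intro _
      have := hcl s
      have := hcl (insert a s)
      have hle : U s ≤ U (insert a s) := fun t ht => by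
        obtain ⟨i, hi, hit⟩ := (hU s t).1 ht
        exact (hU _ t).2 ⟨i, Finset.mem_insert_of_mem hi, hit⟩
      have hra : Set.range (φ a) ⊆ Set.range (U (insert a s)).ι := by
        rw [Scheme.Opens.range_ι]
        intro t ht
        exact (hU _ t).2 ⟨a, Finset.mem_insert_self a s, ht⟩
      have hz : T.homOfLE hle ≫ (U (insert a s)).ι = (U s).ι := T.homOfLE_ι hle
      have : IsClosedImmersion (T.homOfLE hle) := by
        have : IsClosedImmersion (T.homOfLE hle ≫ (U (insert a s)).ι) := by
          rw [hz]; infer_instance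
        exact IsClosedImmersion.of_comp _ (U (insert a s)).ι
      rw [Finset.sum_insert ha, ← ih, add_comm]
      refine K0Calc.cl_scissor' _ (T.homOfLE hle)
        (IsOpenImmersion.lift (U (insert a s)).ι (φ a) hra) _ _ ?_ ?_ ?_
      · rw [← Category.assoc, hz]
      · rw [IsOpenImmersion.lift_fac_assoc, hp]
      · ext t
        have h2 : t ∈ Set.range (T.homOfLE hle) ↔ t.1 ∈ U s := by
          constructor
          · rintro ⟨y, rfl⟩
            have : (T.homOfLE hle y).1 = y.1 := by
              change (U (insert a s)).ι (T.homOfLE hle y) = _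
              rw [← Scheme.Hom.comp_apply, hz]; rfl
            rw [this]
            exact y.2
          · intro hy
            refine ⟨⟨t.1, hy⟩, ?_⟩
            apply Subtype.ext
            change (U (insert a s)).ι (T.homOfLE hle _) = _
            rw [← Scheme.Hom.comp_apply, hz]; rfl
        have h3 : t ∈ Set.range (IsOpenImmersion.lift (U (insert a s)).ι (φ a) hra) ↔
            t.1 ∈ Set.range (φ a) := by
          constructor
          · rintro ⟨y, rfl⟩
            refine ⟨y, ?_⟩
            change _ = (U (insert a s)).ι _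
            rw [← Scheme.Hom.comp_apply, IsOpenImmersion.lift_fac]
          · rintro ⟨y, hy⟩
            refine ⟨y, ?_⟩
            apply Subtype.ext
            change (U (insert a s)).ι _ = _
            rw [← Scheme.Hom.comp_apply, IsOpenImmersion.lift_fac, hy]
        rw [h2, Set.mem_compl_iff, h3, hU]
        constructor
        · rintro ⟨i, hi, hti⟩ hta
          exact ha (hd i a _ hti hta ▸ hi)
        · intro hta
          obtain ⟨i, hi, hti⟩ := (hU _ t.1).1 t.2
          rcases Finset.mem_insert.1 hi with rfl | hi'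
          · exact absurd hti hta
          · exact ⟨i, hi', hti⟩
  have htop : U Finset.univ = ⊤ := by
    ext t
    simp only [SetLike.mem_coe, hU, Opens.coe_top, Set.mem_univ, iff_true]
    obtain ⟨i, hi⟩ := hc t
    exact ⟨i, Finset.mem_univ i, hi⟩
  have := hcl Finset.univ
  rw [← key Finset.univ]
  have : IsIso (U Finset.univ).ι := by
    apply isIso_of_isOpenImmersion_of_opensRange_eq_top
    rw [Scheme.Opens.opensRange_ι, htop]
  exact K0Var.cl_congr _ _ (asIso (U Finset.univ).ι).symm (by simp)

/-- The class of a finite coproduct is the sum of the classes. -/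
theorem cl_sigmaDesc {Y : Scheme.{u}} {ι : Type} [Fintype ι] {P : ι → Scheme.{u}}
    (p : ∀ i, P i ⟶ Y) [∀ i, LocallyOfFiniteType (p i)] [∀ i, QuasiCompact (p i)]
    [LocallyOfFiniteType (Sigma.desc p)] [QuasiCompact (Sigma.desc p)] :
    K0Var.cl (Sigma.desc p) = ∑ i, K0Var.cl (p i) := by
  refine cl_eq_sum (Sigma.desc p) (fun i => Sigma.ι P i) ?_ ?_ p (fun i => Sigma.ι_desc p i)
  · rintro i j t ⟨x, hx⟩ ⟨y, hy⟩
    exact congrArg Sigma.fst ((sigmaι_eq_iff P i j x y).1 (hx.trans hy.symm))
  · intro t
    obtain ⟨i, x, hx⟩ := (sigmaOpenCover P).exists_eq t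
    exact ⟨i, x, hx⟩

end K928.K0Sum
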