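import Groth.Prelude.Def_K0VarBC
import Mathlib.CategoryTheory.Monoidal.Cartesian.Over
import Mathlib.Algebra.Ring.Subring.Basic

/-!
# The additive push-forward on Grothendieck rings of varieties

`push p : K U →+ K S` for `p : U ⟶ S` of finite type, with `push p [T ⟶ U] = [T ⟶ U ⟶ S]` and the projection
formula `push p (baseChange p c) = [U ⟶ S] * c`.
-/

set_option autoImplicit false
universe v u

open CategoryTheory CategoryTheory.Limits AlgebraicGeometry K0Var

namespace K928.KPush

variable {U S : Scheme.{u}} {R : Type v} [AddCommGroup R]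

/-- additive functions on generators -/
def addFun (U : Scheme.{u}) (R : Type v) [AddCommGroup R] : AddSubgroup (Gen U → R) where
  carrier := {g | ∀ ⦃A Z V : Gen U⦄ (i : Z.X ⟶ A.X) (j : V.X ⟶ A.X), IsScissor A Z V i j → g A = g Z + g V}
  zero_mem' := fun A Z V i j _ => by simp
  add_mem' := fun {a b} ha hb A Z V i j h => by
    rw [Pi.add_apply, Pi.add_apply, Pi.add_apply, ha i j h, hb i j h]
    abel
  neg_mem' := fun {a} ha A Z V i j h => by
    rw [Pi.neg_apply, Pi.neg_apply, Pi.neg_apply, ha i j h]
    abel

theorem addFun_empty (g : addFun U R) (A : Gen U) [IsEmpty A.X] : g.1 A = 0 := by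
  have h : IsScissor A A A (𝟙 A.X) (𝟙 A.X) :=
    { isClosedImmersion := inferInstance
      isOpenImmersion := inferInstance
      i_comp := Category.id_comp _
      j_comp := Category.id_comp _
      range_eq := Subsingleton.elim _ _ }
  have h1 := g.2 _ _ h
  exact (add_eq_left.1 h1.symm)

theorem addFun_congr (g : addFun U R) {A B : Gen U} (e : (Over.mk A.hom : Over U) ≅ Over.mk B.hom) :
    g.1 A = g.1 B := by
  let E : Gen U := Gen.mk (∅ : Scheme.{u}) (Scheme.emptyTo B.X ≫ B.hom)
  have i1 : IsIso e.hom.left := inferInstance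
  have h : IsScissor B A E e.hom.left (Scheme.emptyTo B.X) :=
    { isClosedImmersion := inferInstance
      isOpenImmersion := inferInstance
      i_comp := Over.w e.hom
      j_comp := rfl
      range_eq := by
        rw [Set.range_eq_empty (Scheme.emptyTo B.X), Set.compl_empty, Set.eq_univ_iff_forall]
        intro y
        exact e.hom.left.homeomorph.surjective y }
  have h1 := g.2 _ _ h
  have h2 : g.1 E = 0 := by
    have : IsEmpty E.X := inferInstanceAs (IsEmpty (∅ : Scheme.{u}))
    exact addFun_empty g E
  rw [h1, h2, add_zero]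

theorem isScissor_prod {A Z V : Gen U} {i : Z.X ⟶ A.X} {j : V.X ⟶ A.X} (h : IsScissor A Z V i j) (B : Gen U) :
    ∃ (i' : (Z.prod B).X ⟶ (A.prod B).X) (j' : (V.prod B).X ⟶ (A.prod B).X),
      IsScissor (A.prod B) (Z.prod B) (V.prod B) i' j' := by
  have h1 := h.baseChange B.hom
  refine ⟨pullback.map Z.hom B.hom A.hom B.hom i (𝟙 _) (𝟙 U) (by rw [h.i_comp, Category.comp_id]) (by simp),
    pullback.map V.hom B.hom A.hom B.hom j (𝟙 _) (𝟙 U) (by rw [h.j_comp, Category.comp_id]) (by simp),
    h1.isClosedImmersion, h1.isOpenImmersion, ?_, ?_, h1.range_eq⟩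
  · change pullback.map _ _ _ _ _ _ _ _ _ ≫ pullback.fst A.hom B.hom ≫ A.hom = pullback.fst Z.hom B.hom ≫ Z.hom
    rw [pullback.lift_fst_assoc, Category.assoc, h.i_comp]
  · change pullback.map _ _ _ _ _ _ _ _ _ ≫ pullback.fst A.hom B.hom ≫ A.hom = pullback.fst V.hom B.hom ≫ V.hom
    rw [pullback.lift_fst_assoc, Category.assoc, h.j_comp]

/-- `g ↦ g (- ×_U B)` -/
noncomputable def tr (R : Type v) [AddCommGroup R] (B : Gen U) : AddMonoid.End (addFun U R) where
  toFun g := ⟨fun A => g.1 (A.prod B), fun A Z V i j h => by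
    obtain ⟨i', j', h'⟩ := isScissor_prod h B
    exact g.2 i' j' h'⟩
  map_zero' := rfl
  map_add' g g' := rfl

theorem tr_apply (B : Gen U) (g : addFun U R) (A : Gen U) : (tr R B g).1 A = g.1 (A.prod B) := rfl

section

attribute [local instance] CategoryTheory.Over.cartesianMonoidalCategory CategoryTheory.Over.braidedCategory

open MonoidalCategory

theorem tr_comm (B C : Gen U) : tr R B * tr R C = tr R C * tr R B := by
  ext g A
  change g.1 ((A.prod B).prod C) = g.1 ((A.prod C).prod B)
  apply addFun_congr
  let a : Over U := Over.mk A.hom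
  let b : Over U := Over.mk B.hom
  let c : Over U := Over.mk C.hom
  exact (α_ a b c) ≪≫ whiskerLeftIso a (β_ b c) ≪≫ (α_ a c b).symm

theorem tr_mul (B C : Gen U) : tr R (B.prod C) = tr R B * tr R C := by
  ext g A
  change g.1 (A.prod (B.prod C)) = g.1 ((A.prod B).prod C)
  apply addFun_congr
  let a : Over U := Over.mk A.hom
  let b : Over U := Over.mk B.hom
  let c : Over U := Over.mk C.hom
  exact (α_ a b c).symm

theorem tr_one : tr R (Gen.base U) = 1 := by
  ext g A
  change g.1 (A.prod (Gen.base U)) = g.1 A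
  apply addFun_congr
  let a : Over U := Over.mk A.hom
  exact (ρ_ a)

theorem prod_congr_swap (g : addFun U R) (A B : Gen U) : g.1 (A.prod B) = g.1 (B.prod A) := by
  apply addFun_congr
  let a : Over U := Over.mk A.hom
  let b : Over U := Over.mk B.hom
  exact (β_ a b)

end

theorem tr_scissor {A Z V : Gen U} {i : Z.X ⟶ A.X} {j : V.X ⟶ A.X} (h : IsScissor A Z V i j) :
    tr R A = tr R Z + tr R V := by
  ext g B
  change g.1 (B.prod A) = g.1 (B.prod Z) + g.1 (B.prod V)
  rw [prod_congr_swap g B A, prod_congr_swap g B Z, prod_congr_swap g B V]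
  obtain ⟨i', j', h'⟩ := isScissor_prod h B
  exact g.2 i' j' h'

/-- the commutative ring generated by the `tr B` -/
abbrev Tr (U : Scheme.{u}) (R : Type v) [AddCommGroup R] : Subring (AddMonoid.End (addFun U R)) :=
  Subring.closure (Set.range (tr (U := U) R))

/-- its ring structure -/
noncomputable abbrev commRingTr : CommRing (Tr U R) :=
  { (Tr U R).toRing with
    mul_comm := (Subring.isMulCommutative_closure (by
      rintro _ ⟨B, rfl⟩ _ ⟨C, rfl⟩
      exact tr_comm B C)).is_comm.comm }

attribute [local instance] commRingTr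

/-- the measure with values in `Tr` -/
noncomputable def trm (R : Type v) [AddCommGroup R] (B : Gen U) : Tr U R := ⟨tr R B, Subring.subset_closure ⟨B, rfl⟩⟩

theorem isMotivicMeasure_trm : IsMotivicMeasure (S := U) (trm R) where
  scissor h := Subtype.ext (tr_scissor h)
  mul A B := Subtype.ext (tr_mul A B)
  one := Subtype.ext tr_one

/-- the function `A ↦ [A ⟶ U ⟶ S]` -/
noncomputable def g₀ (p : U ⟶ S) [LocallyOfFiniteType p] [QuasiCompact p] : addFun U (K S) :=
  ⟨fun A => cl (A.hom ≫ p), fun A Z V i j h => by
    have h' : IsScissor (Gen.mk A.X (A.hom ≫ p)) (Gen.mk Z.X (Z.hom ≫ p)) (Gen.mk V.X (V.hom ≫ p)) i j :=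
      { isClosedImmersion := h.isClosedImmersion
        isOpenImmersion := h.isOpenImmersion
        i_comp := by
          change i ≫ A.hom ≫ p = Z.hom ≫ p
          rw [← Category.assoc, h.i_comp]
        j_comp := by
          change j ≫ A.hom ≫ p = V.hom ≫ p
          rw [← Category.assoc, h.j_comp]
        range_eq := h.range_eq }
    exact Gen.cl_scissor h'⟩

/-- the push-forward -/
noncomputable def push (p : U ⟶ S) [LocallyOfFiniteType p] [QuasiCompact p] : K U →+ K S where
  toFun x := ((K0Var.lift (trm (K S)) isMotivicMeasure_trm x).1 (g₀ p)).1 (Gen.base U)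
  map_zero' := by
    rw [map_zero]
    rfl
  map_add' x y := by
    rw [map_add]
    rfl

theorem push_gen (p : U ⟶ S) [LocallyOfFiniteType p] [QuasiCompact p] (A : Gen U) :
    push p A.cl = cl (A.hom ≫ p) := by
  change ((K0Var.lift (trm (K S)) isMotivicMeasure_trm A.cl).1 (g₀ p)).1 (Gen.base U) = _
  rw [K0Var.lift_cl]
  change (g₀ p).1 ((Gen.base U).prod A) = (g₀ p).1 A
  rw [prod_congr_swap]
  exact congrArg (fun t : AddMonoid.End (addFun U (K S)) => (t (g₀ p)).1 A) tr_one

theorem push_cl (p : U ⟶ S) [LocallyOfFiniteType p] [QuasiCompact p] {T : Scheme.{u}} (t : T ⟶ U)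
    [LocallyOfFiniteType t] [QuasiCompact t] : push p (cl t) = cl (t ≫ p) :=
  push_gen p (Gen.mk T t)

/-- additive generation by classes -/
theorem closure_cl (c : K S) : c ∈ AddSubgroup.closure (Set.range (Gen.cl (S := S))) := by
  obtain ⟨x, rfl⟩ := Ideal.Quotient.mk_surjective c
  have hone : (1 : K S) ∈ AddSubgroup.closure (Set.range (Gen.cl (S := S))) := by
    rw [← Gen.cl_base S]
    exact AddSubgroup.subset_closure ⟨_, rfl⟩
  have hmul : ∀ {a b : K S}, a ∈ AddSubgroup.closure (Set.range (Gen.cl (S := S))) →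
      b ∈ AddSubgroup.closure (Set.range (Gen.cl (S := S))) →
      a * b ∈ AddSubgroup.closure (Set.range (Gen.cl (S := S))) := by
    intro a b ha hb
    induction ha using AddSubgroup.closure_induction with
    | mem a ha =>
      obtain ⟨A, rfl⟩ := ha
      induction hb using AddSubgroup.closure_induction with
      | mem b hb =>
        obtain ⟨B, rfl⟩ := hb
        rw [← Gen.cl_prod]
        exact AddSubgroup.subset_closure ⟨_, rfl⟩
      | zero =>
        rw [mul_zero]
        exact zero_mem _
      | add x y _ _ hx hy =>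
        rw [mul_add]
        exact add_mem hx hy
      | neg x _ hx =>
        rw [mul_neg]
        exact neg_mem hx
    | zero =>
      rw [zero_mul]
      exact zero_mem _
    | add x y _ _ hx hy =>
      rw [add_mul]
      exact add_mem hx hy
    | neg x _ hx =>
      rw [neg_mul]
      exact neg_mem hx
  induction x using FreeCommRing.induction_on with
  | neg_one =>
    rw [map_neg, map_one]
    exact neg_mem hone
  | of A => exact AddSubgroup.subset_closure ⟨A, rfl⟩
  | add x y hx hy =>
    rw [map_add]
    exact add_mem hx hy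
  | mul x y hx hy =>
    rw [map_mul]
    exact hmul hx hy

/-- the projection formula -/
theorem push_baseChange (p : U ⟶ S) [LocallyOfFiniteType p] [QuasiCompact p] (c : K S) :
    push p (baseChange p c) = cl p * c := by
  induction closure_cl c using AddSubgroup.closure_induction with
  | mem a ha =>
    obtain ⟨A, rfl⟩ := ha
    rw [baseChange_gen_cl, push_gen, mul_comm, ← Gen.cl_mk_hom A, ← K0Var.cl_mul A.hom p]
    refine K0Var.cl_congr _ _ (Iso.refl _) ?_
    rw [Iso.refl_hom, Category.id_comp]
    exact pullback.condition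
  | zero => rw [map_zero, map_zero, mul_zero]
  | add x y _ _ hx hy => rw [map_add, map_add, hx, hy, mul_add]
  | neg x _ hx => rw [map_neg, map_neg, hx, mul_neg]

/-- the affine line -/
theorem baseChange_L (p : U ⟶ S) : baseChange p (K0Var.L S) = K0Var.L U := by
  rw [K0Var.L, baseChange_cl]
  have h1 := AffineSpace.isPullback_map (n := PUnit.{u + 1}) p
  refine K0Var.cl_congr _ _ h1.isoPullback.symm ?_
  rw [Iso.symm_hom]
  exact h1.isoPullback_inv_snd

end K928.KPush
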