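import Groth.Agent.RelQuot.K928.Frame
import Groth.Agent.Picfga.OverRep
import Mathlib.AlgebraicGeometry.Morphisms.Proper

/-!
# Local existence of frames
-/

set_option autoImplicit false
set_option linter.style.haveILetI false
set_option linter.dupNamespace false
universe u v

open CategoryTheory CategoryTheory.Limits AlgebraicGeometry Opposite TopologicalSpace

namespace K928.OfObj

open Groth.Agent.Fga.QTDefs Groth.Agent.Fga.QT2 Groth.Agent.Ega1.SubSheaf Groth.Agent.CohqA.BaseChangeMod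
  K928.Cap K928.UB K928.Sec K928.Sq K928.Frame K928.ObjOf Groth.Agent.Picfga

theorem ideal_eq_top_of_disjoint {P : Scheme.{u}} (I : P.IdealSheafData) (U : P.affineOpens)
    (h : ∀ x ∈ U.1, x ∉ I.support) : I.ideal U = ⊤ := by
  have h0 : P.zeroLocus (U := U.1) (I.ideal U) ∩ U = ∅ := by
    rw [← I.coe_support_inter U]
    ext x
    simp only [Set.mem_inter_iff, SetLike.mem_coe, Set.mem_empty_iff_false, iff_false, not_and']
    exact fun hx => h x hx
  have h1 := U.2.fromSpec_image_zeroLocus (I.ideal U)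
  rw [h0, Set.image_eq_empty] at h1
  exact PrimeSpectrum.zeroLocus_empty_iff_eq_top.mp h1

/-- the quotient vanishes away from the support of an ideal which kills it -/
theorem away_of_killed {P : Scheme.{u}} {M : P.Modules} (hM : Coh.IsQCoh M) {K : Subobject M}
    (I : P.IdealSheafData) (hI : ClSub.KilledByIdeal I (cokernel K.arrow)) {W : P.Opens}
    (hW : ∀ x ∈ W, x ∉ I.support) : Away K W := by
  refine away_of_cover hM fun x hx => ?_
  obtain ⟨U, hU, hxU, hUW⟩ := exists_aff hx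
  refine ⟨U, hxU, hU, ?_⟩
  have h1 : I.ideal ⟨U, hU⟩ = ⊤ := ideal_eq_top_of_disjoint I ⟨U, hU⟩ fun y hy => hW y (hUW hy)
  rw [eq_top_iff]
  intro s _
  rw [mem_secSub_iff]
  have h2 := hI ⟨U, hU⟩ 1 (by rw [h1]; trivial) ((cokernel.π K.arrow).app U s)
  rw [one_smul] at h2
  exact h2

/-- restriction of sections of the quotient -/
theorem bijective_res' {P : Scheme.{u}} {M : P.Modules} (hM : Coh.IsQCoh M) {K : Subobject M}
    (hK : Coh.IsQCoh (cokernel K.arrow)) {O O' W : P.Opens}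
    (hO : O' ≤ O) (hO' : O ≤ O' ⊔ W) (hW : Away K W) :
    Function.Bijective (res (cokernel K.arrow) hO) := by
  constructor
  · intro s t hst
    refine section_ext _ _ _ fun x hx => ?_
    rcases hO' hx with hx' | hx'
    · exact ⟨O', hO, hx', hst⟩
    · have := subsingleton_sec hM hK hW (O ⊓ W) inf_le_right
      exact ⟨O ⊓ W, inf_le_left, ⟨hx, hx'⟩, Subsingleton.elim _ _⟩
  · intro s
    obtain ⟨t, ht⟩ := exists_glue (cokernel K.arrow) (U := O) (ι := Bool) (fun b => if b then O' else O ⊓ W)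
      (fun b => by cases b; exacts [inf_le_left, hO]) (fun x hx => by
        rcases hO' hx with hx' | hx'
        · exact ⟨true, hx'⟩
        · exact ⟨false, ⟨hx, hx'⟩⟩) (fun b => match b with
          | true => s
          | false => 0) (by
        intro i j
        rcases i with _ | _ <;> rcases j with _ | _
        · rfl
        · have := subsingleton_sec hM hK hW ((O ⊓ W) ⊓ O') (inf_le_left.trans inf_le_right)
          exact Subsingleton.elim (α := Γ(cokernel K.arrow, (O ⊓ W) ⊓ O')) _ _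
        · have := subsingleton_sec hM hK hW (O' ⊓ (O ⊓ W)) (inf_le_right.trans inf_le_right)
          exact Subsingleton.elim (α := Γ(cokernel K.arrow, O' ⊓ (O ⊓ W))) _ _
        · rfl)
    exact ⟨t, ht true⟩

variable {X Y : Scheme.{u}} (f : X ⟶ Y) {E : X.Modules}

/-- shrinking the base so that two opens cover -/
theorem exists_cover_nhd [IsProper f] (T : Over Y) (t : T.left) (V W : (PicF.XT f T).Opens)
    (h : ∀ z, PicF.XTproj f T z = t → z ∈ V ⊔ W) :
    ∃ N : T.left.Opens, t ∈ N ∧ ∀ U ≤ N, pb f (OverRep.res T U) V ⊔ pb f (OverRep.res T U) W = ⊤ := by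
  have hp : IsProper (PicF.XTproj f T) := inferInstanceAs (IsProper (pullback.snd f T.hom))
  have hcl : IsClosed (PicF.XTproj f T '' ((V ⊔ W : (PicF.XT f T).Opens) : Set (PicF.XT f T))ᶜ) :=
    (PicF.XTproj f T).isClosedMap _ (V ⊔ W).isOpen.isClosed_compl
  refine ⟨⟨_, hcl.isOpen_compl⟩, ?_, ?_⟩
  · rintro ⟨z, hz, hzt⟩
    exact hz (h z hzt)
  · intro U hU
    rw [pb, pb, ← Scheme.Hom.preimage_sup, eq_top_iff]
    intro x _
    change PicF.XTmap f (OverRep.res T U) x ∈ V ⊔ W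
    by_contra hx
    have h1 : PicF.XTproj f T (PicF.XTmap f (OverRep.res T U) x) ∈ U := by
      have h2 := (HilbPull.isPullback_XTmap f (OverRep.res T U)).w
      have h3 := congr($(h2) x)
      simp only [Scheme.Hom.comp_apply] at h3
      rw [h3]
      exact (PicF.XTproj f _ x).2
    exact hU h1 ⟨_, hx, rfl⟩

instance (T : Over Y) (U : T.left.Opens) : IsOpenImmersion (PicF.XTmap f (OverRep.res T U)) :=
  MorphismProperty.of_isPullback (HilbPull.isPullback_XTmap f (OverRep.res T U)).flip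
    (inferInstanceAs (IsOpenImmersion U.ι))

theorem range_XTmap_res (T : Over Y) (U : T.left.Opens) (z : PicF.XT f T) (hz : PicF.XTproj f T z ∈ U) :
    ∃ z', PicF.XTmap f (OverRep.res T U) z' = z := by
  have h := HilbPull.isPullback_XTmap f (OverRep.res T U)
  have h1 : z ∈ Set.range (pullback.fst (PicF.XTproj f T) (OverRep.res T U).left) := by
    rw [Scheme.Pullback.range_fst]
    exact ⟨⟨_, hz⟩, rfl⟩
  obtain ⟨w, rfl⟩ := h1
  refine ⟨h.isoPullback.inv w, ?_⟩
  rw [← Scheme.Hom.comp_apply, h.isoPullback_inv_fst]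

theorem isIso_appLE {A B : Scheme.{u}} (a : A ⟶ B) [IsOpenImmersion a] (W : B.Opens) (V : A.Opens)
    (h : W = a ''ᵁ V) (e : V ≤ a ⁻¹ᵁ W) : IsIso (a.appLE W V e) := by
  subst h
  rw [← Scheme.Hom.appIso_hom']
  infer_instance

theorem isAffineOpen_pb_res (T : Over Y) {U₀ : T.left.Opens} (hU₀ : IsAffineOpen U₀) {V : (PicF.XT f T).Opens}
    (hV : IsAffineOpen V) (hVU : V ≤ PicF.XTproj f T ⁻¹ᵁ U₀) {U : T.left.Opens} (hU : IsAffineOpen U)
    (hUU : U ≤ U₀) : IsAffineOpen (pb f (OverRep.res T U) V) := by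
  let p := PicF.XTproj f T
  have i1 : IsAffine (U₀ : Scheme.{u}) := hU₀
  have i2 : IsAffine (V : Scheme.{u}) := hV
  -- `V ⊓ p⁻¹ U` is affine
  have h1 : IsAffineOpen (p.resLE U₀ V hVU ⁻¹ᵁ (U₀.ι ⁻¹ᵁ U)) := by
    refine IsAffineOpen.preimage ?_ _
    rw [← U₀.ι.isAffineOpen_iff_of_isOpenImmersion]
    rw [Scheme.Hom.image_preimage_eq_opensRange_inf, Scheme.Opens.opensRange_ι, inf_eq_right.2 hUU]
    exact hU
  have h2 := h1.image_of_isOpenImmersion V.ι
  -- compare
  have h3 : V.ι ''ᵁ (p.resLE U₀ V hVU ⁻¹ᵁ (U₀.ι ⁻¹ᵁ U)) = PicF.XTmap f (OverRep.res T U) ''ᵁ (pb f (OverRep.res T U) V) := by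
    ext z
    constructor
    · rintro ⟨v, hv, rfl⟩
      have hz : p (V.ι v) ∈ U := by
        have h4 : U₀.ι (p.resLE U₀ V hVU v) ∈ U := hv
        rw [← Scheme.Hom.comp_apply, Scheme.Hom.resLE_comp_ι] at h4
        exact h4
      obtain ⟨z', hz'⟩ := range_XTmap_res f T U (V.ι v) hz
      refine ⟨z', ?_, hz'⟩
      change PicF.XTmap f (OverRep.res T U) z' ∈ V
      rw [hz']
      exact v.2
    · rintro ⟨z', hz', rfl⟩
      have hz'' : PicF.XTmap f (OverRep.res T U) z' ∈ V := hz'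
      refine ⟨⟨_, hz''⟩, ?_, rfl⟩
      change U₀.ι (p.resLE U₀ V hVU _) ∈ U
      rw [← Scheme.Hom.comp_apply, Scheme.Hom.resLE_comp_ι]
      change PicF.XTproj f T (PicF.XTmap f (OverRep.res T U) z') ∈ U
      have h5 := congr($((HilbPull.isPullback_XTmap f (OverRep.res T U)).w) z')
      simp only [Scheme.Hom.comp_apply] at h5
      rw [h5]
      exact (PicF.XTproj f _ z').2
  rw [h3] at h2
  rwa [Scheme.Hom.isAffineOpen_iff_of_isOpenImmersion] at h2

/-- **Local existence of frames.** -/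
theorem exists_frame_nhd [IsProper f] (hE : Coh.IsQCoh E) (T : Over Y)
    {K : Subobject (FGA.ET f E T)} {d : ℕ} (hK : QuotD.IsRelFinLen (PicF.XTproj f T) d (cokernel K.arrow))
    (t : T.left) {V W : (PicF.XT f T).Opens} {U₀ : T.left.Opens} (ht₀ : t ∈ U₀) (hU₀ : IsAffineOpen U₀)
    (hV : IsAffineOpen V) (hVU : V ≤ PicF.XTproj f T ⁻¹ᵁ U₀) (hW : Away K W)
    (h : ∀ z, PicF.XTproj f T z = t → z ∈ V ⊔ W) :
    ∃ N ≤ U₀, t ∈ N ∧ ∀ U ≤ N, IsAffineOpen U →
      ∃ x : Fin d → Γ(FGA.ET f E (Over.mk (U.ι ≫ T.hom)), pb f (OverRep.res T U) V),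
        Frame f (Over.mk (U.ι ≫ T.hom)) (FGA.quotPull f E (OverRep.res T U) K) (pb f (OverRep.res T U) V)
          (pb f (OverRep.res T U) W) x := by
  obtain ⟨N₁, ht₁, hN₁⟩ := exists_cover_nhd f T t V W h
  obtain ⟨hKq, -, hr⟩ := hK
  rw [Groth.Agent.Ega2.BasSec.isFinLocFreeOfRank_iff] at hr
  obtain ⟨N₂, e, ht₂, he⟩ := hr t
  refine ⟨U₀ ⊓ (N₁ ⊓ N₂), inf_le_left, ⟨ht₀, ht₁, ht₂⟩, fun U hU hUa => ?_⟩
  have hU₁ : U ≤ N₁ := hU.trans (inf_le_right.trans inf_le_left)
  have hU₂ : U ≤ N₂ := hU.trans (inf_le_right.trans inf_le_right)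
  have : IsAffine (Over.mk (U.ι ≫ T.hom) : Over Y).left := hUa
  set g := OverRep.res T U with hg
  let p := PicF.XTproj f T
  let V' := pb f g V
  have hV' : IsAffineOpen V' := isAffineOpen_pb_res f T hU₀ hV hVU hUa (hU.trans inf_le_left)
  let O := PicF.XTmap f g ''ᵁ V'
  have hO : IsAffineOpen O := hV'.image_of_isOpenImmersion _
  have e0 : V' ≤ PicF.XTmap f g ⁻¹ᵁ O := (Scheme.Hom.preimage_image_eq _ _).ge
  have hOU : O ≤ p ⁻¹ᵁ U := by
    rintro _ ⟨z, hz, rfl⟩
    have h3 := congr($((HilbPull.isPullback_XTmap f g).w) z)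
    simp only [Scheme.Hom.comp_apply] at h3
    change PicF.XTproj f T (PicF.XTmap f g z) ∈ U
    rw [h3]
    exact (PicF.XTproj f _ z).2
  have hOW : p ⁻¹ᵁ U ≤ O ⊔ W := by
    intro z hz
    obtain ⟨z', rfl⟩ := range_XTmap_res f T U z hz
    have h4 : z' ∈ pb f g V ⊔ pb f g W := by rw [hN₁ U hU₁]; trivial
    rcases h4 with h4 | h4
    · exact Or.inl ⟨z', h4, rfl⟩
    · exact Or.inr h4
  have hres := bijective_res' (isQCoh_ET f hE T) hKq hOU hOW hW
  -- a basis of the sections of the quotient over `O`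
  let e' : Fin d → Γ(cokernel K.arrow, p ⁻¹ᵁ U) := fun i =>
    (res ((Scheme.Modules.pushforward p).obj (cokernel K.arrow)) hU₂ (e i))
  let t' : Fin d → Γ(cokernel K.arrow, O) := fun i => res (cokernel K.arrow) hOU (e' i)
  have ht' : IsUB (p.appLE U O hOU).hom t' := by
    have h1 := he U hU₂
    let cmb : (Fin d → Γ(T.left, U)) → Γ(cokernel K.arrow, p ⁻¹ᵁ U) := fun a =>
      ∑ i, (p.app U).hom (a i) • e' i
    have h2 : Function.Bijective cmb := h1
    have h3 : lc (p.appLE U O hOU).hom t' = res (cokernel K.arrow) hOU ∘ cmb := by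
      funext a
      simp only [lc, cmb, Function.comp_apply, map_sum, t']
      refine Finset.sum_congr rfl fun i _ => ?_
      rw [res_smul]
      rfl
    rw [IsUB, h3]
    exact hres.comp h2
  have hEq := isQCoh_ET f hE T
  have h5 := ht'.of_equiv (cokEquiv hEq hKq hO).symm
  -- base change to the open subscheme
  have hKO := secSub_quotPull f g e0 hE hO hV' hKq
  obtain ⟨q, hq, hbc⟩ := isBC_quot (isBC_ps f g e0 hE hO hV') (secSub K O)
    (secSub (FGA.quotPull f E g K) V') hKO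
  have hpo : IsPushout (g.left.appLE U ⊤ (by rw [hg]; simp)) (p.appLE U O hOU) (coef f _ V')
      ((PicF.XTmap f g).appLE O V' e0) := by
    have i1 : IsIso (g.left.appLE U ⊤ (by rw [hg]; simp)) := isIso_appLE U.ι U ⊤ (by simp) (by simp)
    have i2 : IsIso ((PicF.XTmap f g).appLE O V' e0) := isIso_appLE _ O V' rfl e0
    refine IsPushout.of_horiz_isIso ⟨?_⟩
    rw [coef, Scheme.Hom.appLE_comp_appLE, Scheme.Hom.appLE_comp_appLE]
    congr 1
    exact (HilbPull.isPullback_XTmap f g).w.symm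
  have h6 := IsUB.baseChange hpo hbc h5
  choose x hx using fun i => Submodule.Quotient.mk_surjective _
    (q ((cokEquiv hEq hKq hO).symm (t' i)))
  refine ⟨x, hV', hN₁ U hU₁, away_quotPull f g hE hKq hW, ?_⟩
  have h7 : (fun i => (Submodule.Quotient.mk (x i) : Γ(FGA.ET f E (Over.mk (U.ι ≫ T.hom)), V') ⧸
      secSub (FGA.quotPull f E g K) V')) = fun i => q ((cokEquiv hEq hKq hO).symm (t' i)) := funext hx
  rw [h7]
  exact h6

end K928.OfObj
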