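import Groth.Agent.RelQuot.K928.SqQuot
import Groth.Agent.FormalA.ClosedImm
import Groth.Agent.CohqA.AffineBaseChange
import Groth.Agent.Grass.K652.LfRank

/-!
# Relatively finite modules and base change
-/

set_option autoImplicit false
universe u

open CategoryTheory CategoryTheory.Limits AlgebraicGeometry Opposite TopologicalSpace

namespace K928.QBC

open K928.SqQuot Groth.Agent.Picfga

theorem isRelFinLen_pullback {P P' T T' : Scheme.{u}} {θ : P' ⟶ P} {p' : P' ⟶ T'} {p : P ⟶ T} {g : T' ⟶ T}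
    (h : IsPullback θ p' p g) {d : ℕ} {Q : P.Modules} (hQ : QuotD.IsRelFinLen p d Q) :
    QuotD.IsRelFinLen p' d ((Scheme.Modules.pullback θ).obj Q) := by
  obtain ⟨hq, ⟨I, hI, hIQ⟩, hr⟩ := hQ
  let i := I.subschemeι
  have hk : ClSub.KilledByIdeal i.ker Q := by
    rw [Scheme.IdealSheafData.ker_subschemeι]
    exact hIQ
  let G := (Scheme.Modules.pullback i).obj Q
  have hG : Coh.IsQCoh G := Groth.Agent.FormalA.PullbackQC.isQCoh_pullback _ _ hq
  have hG' : G.IsQuasicoherent := hG
  have hq' : Q.IsQuasicoherent := hq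
  let e₀ : (Scheme.Modules.pushforward i).obj G ≅ Q := Groth.Agent.FormalA.ClosedImm.pushPullIso i hk
  let i' := pullback.fst θ i
  let θ' := pullback.snd θ i
  have hsq : IsPullback θ' i' i θ := (IsPullback.of_hasPullback θ i).flip
  obtain ⟨e₁⟩ := Groth.Agent.CohqA.AffineBaseChange.nonempty_iso hsq G
  have hsq2 : IsPullback θ' (i' ≫ p') (i ≫ p) g := hsq.paste_vert h
  obtain ⟨e₂⟩ := Groth.Agent.CohqA.AffineBaseChange.nonempty_iso hsq2 G
  have hfin : IsFinite (i' ≫ p') := MorphismProperty.of_isPullback hsq2 hI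
  let e₃ : (Scheme.Modules.pullback θ).obj Q ≅
      (Scheme.Modules.pushforward i').obj ((Scheme.Modules.pullback θ').obj G) :=
    (Scheme.Modules.pullback θ).mapIso e₀.symm ≪≫ e₁
  refine ⟨Groth.Agent.FormalA.PullbackQC.isQCoh_pullback _ _ hq, ⟨i'.ker, ?_, ?_⟩, ?_⟩
  · have h1 : i'.ker.subschemeι ≫ p' = inv i'.toImage ≫ i' ≫ p' := by
      rw [IsIso.eq_inv_comp, ← Category.assoc]
      congr 1
      exact i'.toImage_imageι
    rw [h1]
    infer_instance
  · exact Groth.Agent.FormalB.KQuot.killedByIdeal_of_mono e₃.hom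
      (Groth.Agent.FormalA.ClosedImm.killed_pushforward i' _)
  · have h2 : FlatMod.IsFinLocFreeOfRank d ((Scheme.Modules.pullback g).obj ((Scheme.Modules.pushforward p).obj Q)) :=
      K652.LfRank.pullback _ hr
    refine rank_iso ?_ h2
    exact (Scheme.Modules.pullback g).mapIso ((Scheme.Modules.pushforward p).mapIso e₀.symm ≪≫
        (Scheme.Modules.pushforwardComp i p).app G) ≪≫ e₂ ≪≫
      ((Scheme.Modules.pushforwardComp i' p').app _).symm ≪≫ (Scheme.Modules.pushforward p').mapIso e₃.symm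

/-- stability of `QuotD.Obj` under base change -/
theorem isRelFinLen_quotPull {X Y : Scheme.{u}} (f : X ⟶ Y) (E : X.Modules) {T T' : Over Y} (g : T' ⟶ T) {d : ℕ}
    {K : Subobject (FGA.ET f E T)} (hK : QuotD.IsRelFinLen (PicF.XTproj f T) d (cokernel K.arrow)) :
    QuotD.IsRelFinLen (PicF.XTproj f T') d (cokernel (FGA.quotPull f E g K).arrow) := by
  obtain ⟨e, -⟩ := Groth.Agent.Fga.QuotPull.exists_cokernel_quotPull f E g K
  have h1 := isRelFinLen_pullback (HilbPull.isPullback_XTmap f g) hK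
  have h2 : QuotD.IsRelFinLen (𝟙 _ ≫ PicF.XTproj f T') d
      ((Scheme.Modules.pullback (PicF.XTmap f g)).obj (cokernel K.arrow)) := by
    rw [Category.id_comp]
    exact h1
  exact isRelFinLen_iso (𝟙 _) _ _ rfl h1 ((Scheme.Modules.pullbackId _).app _ ≪≫ e.symm)

end K928.QBC
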