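import Groth.Prelude.Def_QuotD
import Groth.Agent.RelQuot.K928.Cap
import Groth.Agent.Fga.QTPull1
import Groth.Agent.Fga.QuotPull

/-!
# Sections of `E_T`, their base change, and captured submodules under base change
-/

set_option autoImplicit false
universe u v

open CategoryTheory CategoryTheory.Limits AlgebraicGeometry Opposite TopologicalSpace

namespace K928.Sec

open Groth.Agent.Fga.QTDefs Groth.Agent.Fga.QT2 Groth.Agent.Ega1.SubSheaf Groth.Agent.Ega1.LocMod
  Groth.Agent.Ega1.QCohOfLoc Groth.Agent.Ega1.SubExt Groth.Agent.Fga.SubPull Groth.Agent.Fga.QuotPull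
  Groth.Agent.CohqA.BaseChangeMod Groth.Agent.CohqA.PullbackSections Groth.Agent.CohqA.PullbackAffine
  Groth.Agent.CohqA.PullbackQCoh Groth.Agent.Picfga.HilbPull K928.Cap

section Gen

variable {P P' : Scheme.{u}} (a : P' ⟶ P) {M N : P.Modules} {M' N' : P'.Modules}
  (φ : (Scheme.Modules.pullback a).obj M ≅ M') (ψ : (Scheme.Modules.pullback a).obj N ≅ N')
  {V : P.Opens} {V' : P'.Opens} (e : V' ≤ a ⁻¹ᵁ V)

theorem psec_eq (s : Γ(M, V)) : psec a φ e s = φ.hom.app V' (pbSec a M V V' e s) := rfl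

theorem isBC_psec (hM : Coh.IsQCoh M) (hV : IsAffineOpen V) (hV' : IsAffineOpen V') :
    IsBC (a.appLE V V' e).hom (psec a φ e) := by
  have : M.IsQuasicoherent := hM
  have h1 := isBC_pbSec a M hV hV' e
  let ψ : Γ((Scheme.Modules.pullback a).obj M, V') ≃ₗ[Γ(P', V')] Γ(M', V') :=
    { toFun := fun s => φ.hom.app V' s
      map_add' := fun _ _ => map_add _ _ _
      map_smul' := fun _ _ => app_smul' _ _ _
      invFun := fun s => φ.inv.app V' s
      left_inv := fun s => by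
        change (φ.hom ≫ φ.inv).app V' s = s
        rw [φ.hom_inv_id]
        rfl
      right_inv := fun s => by
        change (φ.inv ≫ φ.hom).app V' s = s
        rw [φ.inv_hom_id]
        rfl }
  exact h1.of_equiv ψ (fun x => psec_eq a φ e x)

theorem secSub_psec (hM : Coh.IsQCoh M) (hV : IsAffineOpen V) (hV' : IsAffineOpen V') {K : Subobject M}
    (hK : Coh.IsQCoh (cokernel K.arrow)) :
    secSub (imageSubobject ((Scheme.Modules.pullback a).map K.arrow ≫ φ.hom)) V' =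
      Submodule.span Γ(P', V') (psec a φ e '' (secSub K V : Set Γ(M, V))) := by
  have h1 : (fun s => φ.hom.app V' (pbSec a M V V' e s)) = psec a φ e := funext fun s => (psec_eq a φ e s).symm
  rw [Groth.Agent.Fga.QTPull.secSub_pullback a hM hV hV' e hK φ, h1]

theorem psec_nat (c : M ⟶ N) (c' : M' ⟶ N') (h : (Scheme.Modules.pullback a).map c ≫ ψ.hom = φ.hom ≫ c')
    (s : Γ(M, V)) : psec a ψ e (c.app V s) = c'.app V' (psec a φ e s) := by
  rw [psec_eq, psec_eq, ← Groth.Agent.Fga.QTPull.pbSec_naturality]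
  have h2 : ∀ t, ((Scheme.Modules.pullback a).map c ≫ ψ.hom).app V' t = (φ.hom ≫ c').app V' t := fun t => by
    rw [h]
  exact h2 _

end Gen

variable {X Y : Scheme.{u}} (f : X ⟶ Y) {E' E L : X.Modules}

theorem isQCoh_ET (hE : Coh.IsQCoh E) (T : Over Y) : Coh.IsQCoh (FGA.ET f E T) :=
  Groth.Agent.FormalA.PullbackQC.isQCoh_pullback _ _ hE

/-- base change of sections of `E_T` -/
noncomputable irreducible_def ps (E : X.Modules) {T T' : Over Y} (g : T' ⟶ T) {V : (PicF.XT f T).Opens} {V' : (PicF.XT f T').Opens}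
    (e : V' ≤ PicF.XTmap f g ⁻¹ᵁ V) : Γ(FGA.ET f E T, V) →+ Γ(FGA.ET f E T', V') :=
  psec (PicF.XTmap f g) (FGA.ETiso f E g) e

variable {T T' T'' : Over Y} (g : T' ⟶ T) {V : (PicF.XT f T).Opens} {V' : (PicF.XT f T').Opens}
  (e : V' ≤ PicF.XTmap f g ⁻¹ᵁ V)

theorem ps_smul (c : Γ(PicF.XT f T, V)) (s : Γ(FGA.ET f E T, V)) :
    ps f E g e (c • s) = (PicF.XTmap f g).appLE V V' e c • ps f E g e s := by
  rw [ps_def]
  exact psec_smul _ _ e c s

theorem res_ps {V₁ : (PicF.XT f T).Opens} {V₁' : (PicF.XT f T').Opens} (e₁ : V₁' ≤ PicF.XTmap f g ⁻¹ᵁ V₁)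
    (h : V₁ ≤ V) (h' : V₁' ≤ V') (s : Γ(FGA.ET f E T, V)) :
    res _ h' (ps f E g e s) = ps f E g e₁ (res _ h s) := by
  rw [ps_def, ps_def]
  exact res_psec _ _ e e₁ h h' s

theorem ps_comp (h : T'' ⟶ T') (k : T'' ⟶ T) (hk : h ≫ g = k) {V'' : (PicF.XT f T'').Opens}
    (e' : V'' ≤ PicF.XTmap f h ⁻¹ᵁ V') (e'' : V'' ≤ PicF.XTmap f k ⁻¹ᵁ V) (s : Γ(FGA.ET f E T, V)) :
    ps f E h e' (ps f E g e s) = ps f E k e'' s := by
  rw [ps_def, ps_def, ps_def]
  exact (compatIso_ETiso f E h g k (XTmap_comp_eq f hk)).psec_comp e e' e'' s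

/-- base change of sections over affine opens -/
theorem isBC_ps (hE : Coh.IsQCoh E) (hV : IsAffineOpen V) (hV' : IsAffineOpen V') :
    IsBC ((PicF.XTmap f g).appLE V V' e).hom (ps f E g e) := by
  rw [ps_def]
  exact isBC_psec _ _ e (isQCoh_ET f hE T) hV hV'

/-- the sections of the pulled back submodule -/
theorem secSub_quotPull (hE : Coh.IsQCoh E) (hV : IsAffineOpen V) (hV' : IsAffineOpen V')
    {K : Subobject (FGA.ET f E T)} (hK : Coh.IsQCoh (cokernel K.arrow)) :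
    secSub (FGA.quotPull f E g K) V' =
      Submodule.span Γ(PicF.XT f T', V') (ps f E g e '' (secSub K V : Set Γ(FGA.ET f E T, V))) := by
  rw [ps_def, FGA.quotPull]
  exact secSub_psec (PicF.XTmap f g) (FGA.ETiso f E g) e (isQCoh_ET f hE T) hV hV' hK

theorem isQCoh_quotPull {K : Subobject (FGA.ET f E T)} (hK : Coh.IsQCoh (cokernel K.arrow)) :
    Coh.IsQCoh (cokernel (FGA.quotPull f E g K).arrow) := by
  obtain ⟨e, -⟩ := exists_cokernel_quotPull f E g K
  exact Groth.Agent.PerfA.QCohSerre.isQCoh_of_iso e.symm (Groth.Agent.FormalA.PullbackQC.isQCoh_pullback _ _ hK)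

theorem span_range_of_isBC {A B M N : Type u} [CommRing A] [CommRing B] [AddCommGroup M] [Module A M]
    [AddCommGroup N] [Module B N] {φ : A →+* B} {m : M →+ N} (h : IsBC φ m) :
    Submodule.span B (Set.range m) = ⊤ := by
  have h1 : (Submodule.span B (Set.range m)).mkQ = 0 := h.hom_ext fun x => by
    rw [LinearMap.zero_apply, Submodule.mkQ_apply, Submodule.Quotient.mk_eq_zero]
    exact Submodule.subset_span ⟨x, rfl⟩
  rw [← Submodule.ker_mkQ (Submodule.span B (Set.range m)), h1, LinearMap.ker_zero]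

theorem span_ps_top (hE : Coh.IsQCoh E) (hV : IsAffineOpen V) (hV' : IsAffineOpen V') :
    Submodule.span Γ(PicF.XT f T', V')
      (ps f E g e '' ((⊤ : Submodule Γ(PicF.XT f T, V) Γ(FGA.ET f E T, V)) : Set Γ(FGA.ET f E T, V))) = ⊤ := by
  rw [Submodule.top_coe, Set.image_univ]
  exact span_range_of_isBC (isBC_ps f g e hE hV hV')

theorem away_quotPull (hE : Coh.IsQCoh E) {K : Subobject (FGA.ET f E T)} (hK : Coh.IsQCoh (cokernel K.arrow))
    {W : (PicF.XT f T).Opens} (h : Away K W) : Away (FGA.quotPull f E g K) (PicF.XTmap f g ⁻¹ᵁ W) := by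
  refine away_of_cover (isQCoh_ET f hE T') fun x hx => ?_
  obtain ⟨U, hU, hxU, hUW⟩ := exists_aff (show PicF.XTmap f g x ∈ W from hx)
  obtain ⟨U', hU', hxU', hUU'⟩ := exists_aff (show x ∈ PicF.XTmap f g ⁻¹ᵁ U from hxU)
  refine ⟨U', hxU', hU', ?_⟩
  rw [secSub_quotPull f g hUU' hE hU hU' hK, h U hUW]
  exact span_ps_top f g hUU' hE hU hU'

/-! ### Morphisms -/

/-- the pullback of a morphism `E' ⟶ E` to `X_T` -/
noncomputable def iT (φ : E' ⟶ E) (T : Over Y) : FGA.ET f E' T ⟶ FGA.ET f E T :=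
  (Scheme.Modules.pullback (pullback.fst f T.hom)).map φ

theorem tri_nat {X₀ X₁ X₂ : Scheme.{u}} (a : X₂ ⟶ X₁) (p : X₁ ⟶ X₀) (p' : X₂ ⟶ X₀) (h : a ≫ p = p')
    {A A' : X₀.Modules} (φ : A' ⟶ A) :
    (Scheme.Modules.pullback a).map ((Scheme.Modules.pullback p).map φ) ≫ (tri a p p' h A).hom =
      (tri a p p' h A').hom ≫ (Scheme.Modules.pullback p').map φ := by
  have h1 := (Scheme.Modules.pullbackComp a p).hom.naturality φ
  have h2 := (Scheme.Modules.pullbackCongr h).hom.naturality φ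
  simp only [Functor.comp_map] at h1
  rw [tri_def, tri_def, Iso.trans_hom, Iso.trans_hom, Iso.app_hom, Iso.app_hom, Iso.app_hom, Iso.app_hom,
    Category.assoc, ← h2, ← Category.assoc, h1, Category.assoc]

theorem ETiso_naturality (φ : E' ⟶ E) :
    (Scheme.Modules.pullback (PicF.XTmap f g)).map (iT f φ T) ≫ (FGA.ETiso f E g).hom =
      (FGA.ETiso f E' g).hom ≫ iT f φ T' := by
  rw [iT, iT, ETiso_eq_tri, ETiso_eq_tri]
  exact tri_nat (PicF.XTmap f g) (pullback.fst f T.hom) (pullback.fst f T'.hom) (FGA.XTmap_fst f g) φ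

theorem ps_iT (φ : E' ⟶ E) (s : Γ(FGA.ET f E' T, V)) :
    ps f E g e ((iT f φ T).app V s) = (iT f φ T').app V' (ps f E' g e s) := by
  rw [ps_def, ps_def]
  exact psec_nat (PicF.XTmap f g) (FGA.ETiso f E' g) (FGA.ETiso f E g) e (iT f φ T) (iT f φ T')
    (ETiso_naturality f g φ) s

/-- on sections -/
noncomputable irreducible_def iTl (φ : E' ⟶ E) (T : Over Y) (V : (PicF.XT f T).Opens) :
    Γ(FGA.ET f E' T, V) →ₗ[Γ(PicF.XT f T, V)] Γ(FGA.ET f E T, V) where
  toFun s := (iT f φ T).app V s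
  map_add' _ _ := map_add _ _ _
  map_smul' _ _ := app_smul' _ _ _

theorem iTl_apply (φ : E' ⟶ E) (T : Over Y) (V : (PicF.XT f T).Opens) (s : Γ(FGA.ET f E' T, V)) :
    iTl f φ T V s = (iT f φ T).app V s := by
  rw [iTl_def]
  rfl

end K928.Sec
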