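import Groth.Agent.RelQuot.K928.Square
import Groth.Agent.RelQuot.K928.Sec
import Groth.Agent.Sga2lef.H78.SysPull

/-!
# Change of base for universal quotients
-/

set_option autoImplicit false
universe u

open CategoryTheory CategoryTheory.Limits AlgebraicGeometry Opposite TopologicalSpace

namespace K928.SqQuot

open K928.Pts K928.Square Groth.Agent.Picfga Groth.Agent.Fga.SubPull Groth.Agent.Fga.QuotPull

/-! ### Relatively finite modules and isomorphisms -/

theorem isEquivalence_pushforward {X Y : Scheme.{u}} (f : X ⟶ Y) [IsIso f] :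
    (Scheme.Modules.pushforward f).IsEquivalence := by
  let e : X.Modules ≌ Y.Modules :=
    CategoryTheory.Equivalence.mk (Scheme.Modules.pushforward f) (Scheme.Modules.pushforward (inv f))
      ((Scheme.Modules.pushforwardId X).symm ≪≫
        Scheme.Modules.pushforwardCongr (IsIso.hom_inv_id f).symm ≪≫
        (Scheme.Modules.pushforwardComp f (inv f)).symm)
      ((Scheme.Modules.pushforwardComp (inv f) f) ≪≫
        Scheme.Modules.pushforwardCongr (IsIso.inv_hom_id f) ≪≫ Scheme.Modules.pushforwardId Y)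
  exact inferInstanceAs e.functor.IsEquivalence

theorem isEquivalence_pullback {X Y : Scheme.{u}} (f : X ⟶ Y) [IsIso f] :
    (Scheme.Modules.pullback f).IsEquivalence := by
  have := isEquivalence_pushforward f
  exact (Scheme.Modules.pullbackPushforwardAdjunction f).isEquivalence_left_of_isEquivalence_right

theorem nonempty_push_pull {X Y : Scheme.{u}} (f : X ⟶ Y) [IsIso f] (M : Y.Modules) :
    Nonempty ((Scheme.Modules.pushforward f).obj ((Scheme.Modules.pullback f).obj M) ≅ M) := by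
  have := isEquivalence_pushforward f
  have := isEquivalence_pullback f
  exact ⟨(asIso ((Scheme.Modules.pullbackPushforwardAdjunction f).unit.app M)).symm⟩

theorem rank_iso {X : Scheme.{u}} {n : ℕ} {M N : X.Modules} (e : M ≅ N) (h : FlatMod.IsFinLocFreeOfRank n M) :
    FlatMod.IsFinLocFreeOfRank n N := fun x => by
  obtain ⟨U, hx, ⟨a⟩⟩ := h x
  exact ⟨U, hx, ⟨(Scheme.Modules.restrictFunctor U.ι).mapIso e.symm ≪≫ a⟩⟩

theorem isRelFinLen_iso {P P' T : Scheme.{u}} (θ : P' ⟶ P) [IsIso θ] (p : P ⟶ T) (p' : P' ⟶ T) (h : θ ≫ p = p')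
    {d : ℕ} {Q : P.Modules} (hQ : QuotD.IsRelFinLen p d Q) {Q' : P'.Modules}
    (e : (Scheme.Modules.pullback θ).obj Q ≅ Q') : QuotD.IsRelFinLen p' d Q' := by
  obtain ⟨ε⟩ := nonempty_push_pull θ Q
  obtain ⟨hq, ⟨I, hI, hIQ⟩, hr⟩ := hQ
  have hq' : Coh.IsQCoh Q' := Groth.Agent.PerfA.QCohSerre.isQCoh_of_iso e
    (Groth.Agent.FormalA.PullbackQC.isQCoh_pullback _ _ hq)
  refine ⟨hq', ⟨I.comap θ, ?_, ?_⟩, ?_⟩
  · have h2 : (I.comap θ).subschemeι ≫ p' = (I.comapIso θ).hom ≫ pullback.snd θ I.subschemeι ≫ I.subschemeι ≫ p := by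
      rw [← Scheme.IdealSheafData.comapIso_hom_fst, ← h, Category.assoc, pullback.condition_assoc]
    rw [h2]
    infer_instance
  · have h3 : ClSub.KilledByIdeal I ((Scheme.Modules.pushforward θ).obj ((Scheme.Modules.pullback θ).obj Q)) :=
      Groth.Agent.FormalB.KQuot.killedByIdeal_of_mono ε.hom hIQ
    have h4 := Groth.Agent.Sga2lef.H78.SysPull.killed_of_push θ h3
    exact Groth.Agent.FormalB.KQuot.killedByIdeal_of_mono e.inv h4
  · subst h
    refine rank_iso ?_ hr
    exact (Scheme.Modules.pushforward p).mapIso (ε.symm ≪≫ (Scheme.Modules.pushforward θ).mapIso e) ≪≫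
      (Scheme.Modules.pushforwardComp θ p).app Q'

/-! ### Subobjects -/

theorem imageSubobject_congr {C : Type*} [Category* C] {A B : C} {f g : A ⟶ B} [HasImage f] [HasImage g] (h : f = g) :
    imageSubobject f = imageSubobject g := by
  subst h
  rfl

theorem exists_sub {C D : Type*} [Category* C] [Category* D] [Abelian C] [Abelian D] (F : C ⥤ D) [F.IsEquivalence]
    {M : C} {M' : D} (φ : F.obj M ≅ M') (K' : Subobject M') :
    ∃ K : Subobject M, imageSubobject (F.map K.arrow ≫ φ.hom) = K' := by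
  let N := F.objPreimage (K' : D)
  let ι : F.obj N ≅ (K' : D) := F.objObjPreimageIso (K' : D)
  let n : N ⟶ M := F.preimage (ι.hom ≫ K'.arrow ≫ φ.inv)
  have hn : F.map n = ι.hom ≫ K'.arrow ≫ φ.inv := F.map_preimage _
  have hmono : Mono n := by
    have : Mono (F.map n) := by rw [hn]; infer_instance
    exact F.mono_of_mono_map this
  refine ⟨Subobject.mk n, ?_⟩
  have h1 : F.map (Subobject.mk n).arrow ≫ φ.hom = (F.mapIso (Subobject.underlyingIso n) ≪≫ ι).hom ≫ K'.arrow := by
    have h2 : (Subobject.mk n).arrow = (Subobject.underlyingIso n).hom ≫ n := by simp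
    rw [h2, F.map_comp, hn]
    simp
  rw [imageSubobject_congr h1]
  have h3 : imageSubobject ((F.mapIso (Subobject.underlyingIso n) ≪≫ ι).hom ≫ K'.arrow) =
      imageSubobject K'.arrow := imageSubobject_iso_comp _ _
  rw [h3, imageSubobject_mono, Subobject.mk_arrow]

theorem sub_inj {C D : Type*} [Category* C] [Category* D] [Abelian C] [Abelian D] (F : C ⥤ D) [F.IsEquivalence]
    {M : C} {M' : D} (φ : F.obj M ≅ M') {K L : Subobject M}
    (h : imageSubobject (F.map K.arrow ≫ φ.hom) = imageSubobject (F.map L.arrow ≫ φ.hom)) : K = L := by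
  have key : ∀ {K L : Subobject M}, imageSubobject (F.map K.arrow ≫ φ.hom) = imageSubobject (F.map L.arrow ≫ φ.hom) →
      K ≤ L := by
    intro K L h
    rw [imageSubobject_mono, imageSubobject_mono] at h
    let g : F.obj (K : C) ⟶ F.obj (L : C) := (Subobject.isoOfMkEqMk _ _ h).hom
    have hg : g ≫ F.map L.arrow ≫ φ.hom = F.map K.arrow ≫ φ.hom := by
      simp [g]
    refine Subobject.le_of_comm (F.preimage g) ?_
    apply F.map_injective
    rw [F.map_comp, F.map_preimage, ← cancel_mono φ.hom, Category.assoc, hg]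
  exact le_antisymm (key h) (key h.symm)

/-! ### The comparison isomorphisms -/

section Eps

variable {X₀ X₁ Z Z' Z'' : Scheme.{u}}

/-- `θ^* p^* E ≅ q^* a^* E` for `θ ≫ p = q ≫ a` (opaque to the kernel) -/
noncomputable irreducible_def eps (θ : Z' ⟶ Z) (p : Z ⟶ X₀) (q : Z' ⟶ X₁) (a : X₁ ⟶ X₀) (h : θ ≫ p = q ≫ a)
    (E : X₀.Modules) :
    (Scheme.Modules.pullback θ).obj ((Scheme.Modules.pullback p).obj E) ≅
      (Scheme.Modules.pullback q).obj ((Scheme.Modules.pullback a).obj E) :=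
  tri θ p (q ≫ a) h E ≪≫ (tri q a (q ≫ a) rfl E).symm

theorem compat_right (b : Z'' ⟶ Z') (g : Z' ⟶ Z) (p : Z ⟶ X₀) (p' : Z' ⟶ X₀) (q : Z'' ⟶ X₁) (a : X₁ ⟶ X₀)
    (c : Z'' ⟶ Z) (hc : b ≫ g = c) (h1 : g ≫ p = p') (h2 : b ≫ p' = q ≫ a) (h3 : c ≫ p = q ≫ a) (E : X₀.Modules) :
    CompatIso hc (tri g p p' h1 E) (eps b p' q a h2 E) (eps c p q a h3 E) := by
  have h := tri_comp b g c p p' (q ≫ a) hc h1 h2 h3 E
  unfold CompatIso at h ⊢
  rw [eps_def, eps_def, Iso.trans_hom, Iso.trans_hom, ← Category.assoc, h]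
  simp only [Category.assoc]

theorem compat_left (b : Z'' ⟶ Z') (θ : Z' ⟶ Z) (p : Z ⟶ X₀) (q : Z' ⟶ X₁) (q' : Z'' ⟶ X₁) (a : X₁ ⟶ X₀)
    (c : Z'' ⟶ Z) (hc : b ≫ θ = c) (h1 : θ ≫ p = q ≫ a) (h2 : b ≫ q = q') (h3 : c ≫ p = q' ≫ a) (E : X₀.Modules) :
    CompatIso hc (eps θ p q a h1 E) (tri b q q' h2 ((Scheme.Modules.pullback a).obj E)) (eps c p q' a h3 E) := by
  have h4 : b ≫ q ≫ a = q' ≫ a := by rw [← Category.assoc, h2]
  have hA := tri_comp b θ c p (q ≫ a) (q' ≫ a) hc h1 h4 h3 E
  have hB := tri_comp b q q' a (q ≫ a) (q' ≫ a) h2 rfl h4 rfl E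
  unfold CompatIso at hA hB ⊢
  have hB' : (Scheme.Modules.pullback b).map (tri q a (q ≫ a) rfl E).hom ≫ (tri b (q ≫ a) (q' ≫ a) h4 E).hom =
      (tri b q q' h2 ((Scheme.Modules.pullback a).obj E)).hom ≫ (tri q' a (q' ≫ a) rfl E).hom := by
    rw [hB, tri_def b q q', Iso.trans_hom, Category.assoc, cong_def]
    rfl
  have hC : (Scheme.Modules.pullback b).map (tri q a (q ≫ a) rfl E).inv ≫
      (tri b q q' h2 ((Scheme.Modules.pullback a).obj E)).hom =
      (tri b (q ≫ a) (q' ≫ a) h4 E).hom ≫ (tri q' a (q' ≫ a) rfl E).inv := by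
    rw [← cancel_mono (tri q' a (q' ≫ a) rfl E).hom, Category.assoc, ← hB', Category.assoc, Iso.inv_hom_id,
      Category.comp_id, ← Category.assoc, ← Functor.map_comp, Iso.inv_hom_id,
      CategoryTheory.Functor.map_id, Category.id_comp]
  rw [eps_def, eps_def, Iso.trans_hom, Iso.trans_hom, Iso.symm_hom, Iso.symm_hom, Functor.map_comp, Category.assoc, hC,
    ← Category.assoc, hA]
  simp only [Category.assoc]

end Eps

/-! ### Quotients over a square -/

variable {X X' Y Y' : Scheme.{u}} {a : X' ⟶ X} {f' : X' ⟶ Y'} {f : X ⟶ Y} {t : Y' ⟶ Y} (sq : IsPullback a f' f t)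
  (E : X.Modules)

/-- the comparison isomorphism of modules -/
noncomputable irreducible_def ep (T : Over Y') :
    (Scheme.Modules.pullback (th sq T)).obj (FGA.ET f E ((Over.map t).obj T)) ≅
      FGA.ET f' ((Scheme.Modules.pullback a).obj E) T :=
  eps (th sq T) (pullback.fst f ((Over.map t).obj T).hom) (pullback.fst f' T.hom) a (th_fst sq T) E

/-- the comparison of submodules -/
noncomputable irreducible_def bc (T : Over Y') (K : Subobject (FGA.ET f E ((Over.map t).obj T))) :
    Subobject (FGA.ET f' ((Scheme.Modules.pullback a).obj E) T) :=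
  subPull (th sq T) (ep sq E T) K

variable {E}

theorem bc_bijective (T : Over Y') : Function.Bijective (bc sq E T) := by
  have i1 := isIso_th sq T
  have i2 := isEquivalence_pullback (th sq T)
  constructor
  · intro K L h
    rw [bc_def, bc_def, subPull, subPull] at h
    exact sub_inj (Scheme.Modules.pullback (th sq T)) (ep sq E T) h
  · intro K'
    obtain ⟨K, hK⟩ := exists_sub (Scheme.Modules.pullback (th sq T)) (ep sq E T) K'
    refine ⟨K, ?_⟩
    rw [bc_def, subPull]
    exact hK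

theorem quotPull_eq_subPull {T T' : Over Y} (g : T' ⟶ T) (K : Subobject (FGA.ET f E T)) :
    FGA.quotPull f E g K = subPull (PicF.XTmap f g) (FGA.ETiso f E g) K := by
  rw [FGA.quotPull, subPull]

theorem quotPull_bc {T T' : Over Y'} (g : T' ⟶ T) (K : Subobject (FGA.ET f E ((Over.map t).obj T))) :
    FGA.quotPull f' ((Scheme.Modules.pullback a).obj E) g (bc sq E T K) =
      bc sq E T' (FGA.quotPull f E ((Over.map t).map g) K) := by
  have hc : PicF.XTmap f' g ≫ th sq T = th sq T' ≫ PicF.XTmap f ((Over.map t).map g) := (th_nat sq g).symm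
  have h3 : (th sq T' ≫ PicF.XTmap f ((Over.map t).map g)) ≫ pullback.fst f ((Over.map t).obj T).hom =
      pullback.fst f' T'.hom ≫ a := by
    rw [Category.assoc, FGA.XTmap_fst, th_fst]
  have hL := compat_left (PicF.XTmap f' g) (th sq T) (pullback.fst f ((Over.map t).obj T).hom)
    (pullback.fst f' T.hom) (pullback.fst f' T'.hom) a _ hc (th_fst sq T) (FGA.XTmap_fst f' g) h3 E
  have hR := compat_right (th sq T') (PicF.XTmap f ((Over.map t).map g)) (pullback.fst f ((Over.map t).obj T).hom)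
    (pullback.fst f ((Over.map t).obj T').hom) (pullback.fst f' T'.hom) a _ rfl
    (FGA.XTmap_fst f ((Over.map t).map g)) (th_fst sq T') h3 E
  rw [bc_def, bc_def, quotPull_eq_subPull, quotPull_eq_subPull, ep_def, ep_def, ETiso_eq_tri, ETiso_eq_tri]
  exact (hL.subPull_comp K).symm.trans (hR.subPull_comp K)

theorem isRelFinLen_bc (T : Over Y') (K : Subobject (FGA.ET f E ((Over.map t).obj T))) (d : ℕ) :
    QuotD.IsRelFinLen (PicF.XTproj f' T) d (cokernel (bc sq E T K).arrow) ↔
      QuotD.IsRelFinLen (PicF.XTproj f ((Over.map t).obj T)) d (cokernel K.arrow) := by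
  have i1 := isIso_th sq T
  obtain ⟨e, -⟩ : ∃ e : cokernel (bc sq E T K).arrow ≅ (Scheme.Modules.pullback (th sq T)).obj (cokernel K.arrow),
      True := by
    rw [bc_def]
    obtain ⟨e, -⟩ := exists_cokernel_subPull (th sq T) (ep sq E T) K
    exact ⟨e, trivial⟩
  constructor
  · intro h
    have h3 : inv (th sq T) ≫ PicF.XTproj f' T = PicF.XTproj f ((Over.map t).obj T) := by
      rw [IsIso.inv_comp_eq, th_snd]
    refine isRelFinLen_iso (inv (th sq T)) _ _ h3 h ?_
    exact (Scheme.Modules.pullback (inv (th sq T))).mapIso e ≪≫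
      (Scheme.Modules.pullbackComp (inv (th sq T)) (th sq T)).app _ ≪≫
      (Scheme.Modules.pullbackCongr (IsIso.inv_hom_id (th sq T))).app _ ≪≫
      (Scheme.Modules.pullbackId _).app _
  · intro h
    exact isRelFinLen_iso (th sq T) _ _ (th_snd sq T) h e.symm

include sq in
/-- the base change of a universal quotient is universal -/
theorem quot_bc {d : ℕ} {H : Over Y} (κ : QuotD.Obj f E d H) (hκ : QuotD.IsUniversal f E d H κ)
    (hpull : ∀ (T : Over Y) (x : T ⟶ H), QuotD.IsRelFinLen (PicF.XTproj f T) d (cokernel (FGA.quotPull f E x κ.1).arrow)) :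
    ∃ κ' : QuotD.Obj f' ((Scheme.Modules.pullback a).obj E) d (Over.mk (pullback.snd H.hom t)),
      QuotD.IsUniversal f' ((Scheme.Modules.pullback a).obj E) d (Over.mk (pullback.snd H.hom t)) κ' := by
  let H' : Over Y' := Over.mk (pullback.snd H.hom t)
  let pr : (Over.map t).obj H' ⟶ H := Over.homMk (pullback.fst H.hom t) pullback.condition
  -- the pull back of the universal element to `H'` is an element
  have hpr : QuotD.IsRelFinLen (PicF.XTproj f ((Over.map t).obj H')) d (cokernel (FGA.quotPull f E pr κ.1).arrow) := hpull _ pr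
  let κ' : QuotD.Obj f' ((Scheme.Modules.pullback a).obj E) d H' :=
    ⟨bc sq E H' (FGA.quotPull f E pr κ.1), (isRelFinLen_bc sq H' _ d).2 hpr⟩
  have key : ∀ (T : Over Y') (g : T ⟶ H'), FGA.quotPull f' ((Scheme.Modules.pullback a).obj E) g κ'.1 =
      bc sq E T (FGA.quotPull f E ((Over.map t).map g ≫ pr) κ.1) := by
    intro T g
    change FGA.quotPull f' ((Scheme.Modules.pullback a).obj E) g (bc sq E H' (FGA.quotPull f E pr κ.1)) = _
    rw [quotPull_bc, Groth.Agent.Fga.QuotPull.quotPull_comp]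
  refine ⟨κ', ?_⟩
  intro T q
  obtain ⟨K, hK⟩ := (bc_bijective sq (E := E) T).2 q.1
  have hKr : QuotD.IsRelFinLen (PicF.XTproj f ((Over.map t).obj T)) d (cokernel K.arrow) := by
    rw [← isRelFinLen_bc sq, hK]
    exact q.2
  obtain ⟨g₀, hg₀, hu⟩ := hκ ((Over.map t).obj T) ⟨K, hKr⟩
  have hg₀' : FGA.quotPull f E g₀ κ.1 = K := hg₀
  have hw : g₀.left ≫ H.hom = T.hom ≫ t := Over.w g₀
  let g : T ⟶ H' := Over.homMk (pullback.lift g₀.left T.hom hw) (pullback.lift_snd _ _ _)
  have hg : (Over.map t).map g ≫ pr = g₀ := by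
    ext1
    exact pullback.lift_fst _ _ _
  refine ⟨g, ?_, ?_⟩
  · change FGA.quotPull f' ((Scheme.Modules.pullback a).obj E) g κ'.1 = q.1
    rw [key, hg, hg₀', hK]
  · intro g₂ hg₂
    have h4 : FGA.quotPull f' ((Scheme.Modules.pullback a).obj E) g₂ κ'.1 = q.1 := hg₂
    rw [key, ← hK] at h4
    have h5 : (Over.map t).map g₂ ≫ pr = g₀ := hu _ ((bc_bijective sq (E := E) T).1 h4)
    ext1
    apply pullback.hom_ext
    · exact (congrArg CommaMorphism.left h5).trans (pullback.lift_fst _ _ _).symm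
    · have h6 : g₂.left ≫ pullback.snd H.hom t = T.hom := Over.w g₂
      exact h6.trans (pullback.lift_snd _ _ _).symm

end K928.SqQuot
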