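import Groth.Agent.RelQuot.K928.Flags
import Groth.Agent.RelQuot.K928.KPush
import Groth.Agent.RelQuot.K928.QBC
import Groth.Agent.RelQuot.K928.SqQuot

/-!
# The class of the Quot scheme over a piece of the base
-/

set_option autoImplicit false
set_option linter.style.haveILetI false
set_option linter.dupNamespace false
universe u v

open CategoryTheory CategoryTheory.Limits AlgebraicGeometry TopologicalSpace Opposite

namespace K928.PieceCl

open K928.Pts K928.Flags K928.Square K928.SqQuot K928.QBC K928.K0Calc K928.KPush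

theorem Cr_map {R : Type u} {R' : Type v} [CommRing R] [CommRing R'] (φ : R →+* R') (s : ℕ → R) (L : R) (r d : ℕ) :
    φ (Comb.Cr s L r d) = Comb.Cr (fun n => φ (s n)) (φ L) r d := by
  induction r generalizing d with
  | zero =>
    rw [Comb.Cr_zero, Comb.Cr_zero]
    split_ifs
    · exact map_one φ
    · exact map_zero φ
  | succ r ih =>
    rw [Comb.Cr_succ, Comb.Cr_succ, map_sum]
    refine Finset.sum_congr rfl fun a _ => ?_
    rw [map_mul, map_mul, map_pow, ih]

variable {S X Y C : Scheme.{u}} {f : X ⟶ Y} {pC : C ⟶ S} {pY : Y ⟶ S} {a : X ⟶ C}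

theorem exists_div (sq : IsPullback a f pC pY) {d : ℕ} (𝒟 : Filt.Div pC d) :
    ∃ 𝒟' : Filt.Div f d, ∀ n, 𝒟'.s n = K0Var.baseChange pY (𝒟.s n) := by
  choose D' hD' using fun b => hilb_bc sq (𝒟.D b) (𝒟.univ b)
  have i1 := 𝒟.lft
  have i2 := 𝒟.qc
  refine ⟨{ B := fun b => Over.mk (pullback.snd (𝒟.B b).hom pY)
            lft := fun b => inferInstanceAs (LocallyOfFiniteType (pullback.snd (𝒟.B b).hom pY))
            qc := fun b => inferInstanceAs (QuasiCompact (pullback.snd (𝒟.B b).hom pY))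
            D := D'
            univ := hD' }, fun n => ?_⟩
  rw [Filt.Div.s, Filt.Div.s]
  split_ifs with h
  · change clD (pullback.snd (𝒟.B ⟨n, h⟩).hom pY) = K0Var.baseChange pY (clD (𝒟.B ⟨n, h⟩).hom)
    rw [clD_eq, clD_eq, K0Var.baseChange_cl]
  · exact (map_zero _).symm

theorem cl_piece (sq : IsPullback a f pC pY) [IsProper pC] [SmoothOfRelativeDimension 1 pC] (hAF : AFb pC)
    [AlgebraicGeometry.IsNoetherian Y] [LocallyOfFiniteType pY] [QuasiCompact pY] {E : X.Modules} {r d : ℕ}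
    (hE : FlagOn (Set.univ : Set X) r E) (hEq : Coh.IsQCoh E) (𝒟 : Filt.Div pC d) (H : Over Y)
    [LocallyOfFiniteType H.hom] [QuasiCompact H.hom] (κ : QuotD.Obj f E d H) (hκ : QuotD.IsUniversal f E d H κ) :
    K0Var.cl (H.hom ≫ pY) = K0Var.cl pY * Comb.Cr 𝒟.s (K0Var.L S) r d := by
  have h1 : SmoothOfRelativeDimension 1 f :=
    (smoothOfRelativeDimension_isStableUnderBaseChange.{u} 1).of_isPullback sq inferInstance
  have h2 : IsProper f := MorphismProperty.of_isPullback sq inferInstance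
  have h3 := afb sq hAF
  obtain ⟨𝒟', h𝒟⟩ := exists_div sq 𝒟
  have h4 := Final.cl_eq_of_universal h3 hEq (wf_flag h3 hE 𝒟' d le_rfl) H κ hκ
  have h5 : 𝒟'.s = fun n => K0Var.baseChange pY (𝒟.s n) := funext h𝒟
  rw [← push_cl pY H.hom, h4, h5, ← baseChange_L pY, ← Cr_map, push_baseChange]

end K928.PieceCl
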