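import Groth.Agent.RelQuot.K928.K0Calc
import Mathlib.AlgebraicGeometry.SpreadingOut
import Mathlib.AlgebraicGeometry.FunctionField
import Mathlib.AlgebraicGeometry.Morphisms.Immersion

/-!
# Classes and points with values in fields

`cl_eq_sum_of_points`: if `φ j : M j ⟶ H` are finitely many morphisms of finite type such that every point of
`H` with values in a field lifts uniquely to one of the `M j`, then `[H] = Σ [M j]`.
-/

set_option autoImplicit false
universe u

open CategoryTheory CategoryTheory.Limits AlgebraicGeometry TopologicalSpace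

namespace K928.PointBij

open K928.K0Calc

/-- every point of `H` with values in a field lifts to exactly one point of exactly one of the `M j` -/
def PtBij {H : Scheme.{u}} {ι : Type} {M : ι → Scheme.{u}} (φ : ∀ i, M i ⟶ H) : Prop :=
  ∀ (K : Type u) [Field K] (x : Spec (.of K) ⟶ H), ∃! p : Σ i, (Spec (.of K) ⟶ M i), p.2 ≫ φ p.1 = x

theorem PtBij.unique {H : Scheme.{u}} {ι : Type} {M : ι → Scheme.{u}} {φ : ∀ i, M i ⟶ H}
    (h : PtBij φ) {K : Type u} [Field K] {i j : ι} (a : Spec (.of K) ⟶ M i) (b : Spec (.of K) ⟶ M j)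
    (hab : a ≫ φ i = b ≫ φ j) : (⟨i, a⟩ : Σ i, (Spec (.of K) ⟶ M i)) = ⟨j, b⟩ :=
  (h K (b ≫ φ j)).unique hab rfl

variable {S : Scheme.{u}}

theorem cl_eq_sum_of_points {H : Scheme.{u}} (h : H ⟶ S) [NoetherianSpace H] [LocallyOfFiniteType h]
    [QuasiCompact h] {ι : Type} [Fintype ι] {M : ι → Scheme.{u}} (φ : ∀ i, M i ⟶ H)
    [∀ i, LocallyOfFiniteType (φ i)] [∀ i, QuasiCompact (φ i)] (hb : PtBij φ) :
    K0Var.cl h = ∑ i, K0Var.cl (φ i ≫ h) := by
  classical
  have hA : IsAdd (fun T (t : T ⟶ H) => relCl (𝟙 H) h t) := isAdd_relCl (𝟙 H) h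
  have hB : IsAdd (fun T (t : T ⟶ H) => ∑ i, relCl (φ i) h t) :=
    IsAdd.sum Finset.univ (fun i _ => isAdd_relCl (φ i) h)
  have key := hA.ext hB (fun Z i _ _ => by
    let z : Z := genericPoint Z
    have : NoetherianSpace Z := noetherian_of_isClosedImmersion i
    -- lift the generic point
    let : Field (Z.presheaf.stalk z) := inferInstanceAs (Field Z.functionField)
    let x : Spec (.of (Z.presheaf.stalk z)) ⟶ H := Z.fromSpecStalk z ≫ i
    obtain ⟨⟨j, m⟩, hm, -⟩ := hb (Z.presheaf.stalk z) x
    have hm' : m ≫ φ j = Z.fromSpecStalk z ≫ i := hm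
    obtain ⟨U, hzU, s, -, hs⟩ := spread_out_of_isGermInjective' i (φ j) (x := z) m hm'
    refine ⟨U, ⟨z, hzU⟩, fun U' hU' => ?_⟩
    change relCl (𝟙 H) h (U'.ι ≫ i) = ∑ i', relCl (φ i') h (U'.ι ≫ i)
    have : NoetherianSpace U' := U'.ι.isOpenEmbedding.isInducing.noetherianSpace
    set t : U'.toScheme ⟶ H := U'.ι ≫ i with ht
    let s' : U'.toScheme ⟶ M j := Z.homOfLE hU' ≫ s
    have hs' : s' ≫ φ j = t := by
      rw [Category.assoc, hs, ht, ← Category.assoc, Z.homOfLE_ι]
    -- the other pieces are empty
    have hz : ∀ j', j' ≠ j → relCl (φ j') h t = 0 := by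
      intro j' hj'
      have he : IsEmpty (pullback (φ j') t : Scheme.{u}) := by
        refine ⟨fun p => hj' ?_⟩
        have h1 := hb.unique (K := (pullback (φ j') t).residueField p)
          ((pullback (φ j') t).fromSpecResidueField p ≫ pullback.fst _ _)
          ((pullback (φ j') t).fromSpecResidueField p ≫ pullback.snd _ _ ≫ s') (by
            rw [Category.assoc, pullback.condition, Category.assoc, Category.assoc, hs'])
        exact congrArg Sigma.fst h1
      rw [relCl, clD_eq, cl_eq_zero]
    rw [Finset.sum_eq_single j (fun j' _ hj' => hz j' hj') (fun hj => absurd (Finset.mem_univ j) hj),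
      relCl_self]
    -- the section is a surjective closed immersion
    let r : U'.toScheme ⟶ pullback (φ j) t := pullback.lift s' (𝟙 _) (by rw [hs', Category.id_comp])
    have hr : r ≫ pullback.snd (φ j) t = 𝟙 _ := pullback.lift_snd _ _ _
    have hr1 : r ≫ pullback.fst (φ j) t = s' := pullback.lift_fst _ _ _
    have hsurj : Function.Surjective r := by
      intro p
      have h1 := hb.unique (K := (pullback (φ j) t).residueField p)
          ((pullback (φ j) t).fromSpecResidueField p ≫ pullback.fst _ _)
          ((pullback (φ j) t).fromSpecResidueField p ≫ pullback.snd _ _ ≫ s') (by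
            rw [Category.assoc, pullback.condition, Category.assoc, Category.assoc, hs'])
      have h2 : (pullback (φ j) t).fromSpecResidueField p ≫ pullback.fst _ _ =
          (pullback (φ j) t).fromSpecResidueField p ≫ pullback.snd _ _ ≫ s' :=
        eq_of_heq (Sigma.mk.inj_iff.1 h1).2
      have h3 : (pullback (φ j) t).fromSpecResidueField p =
          ((pullback (φ j) t).fromSpecResidueField p ≫ pullback.snd _ _) ≫ r := by
        apply pullback.hom_ext
        · rw [h2, Category.assoc, Category.assoc, hr1]
        · rw [Category.assoc, Category.assoc, hr, Category.comp_id]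
      have h4 : p ∈ Set.range ((pullback (φ j) t).fromSpecResidueField p) := by
        rw [Scheme.range_fromSpecResidueField]; rfl
      rw [h3] at h4
      obtain ⟨y, hy⟩ := h4
      exact ⟨_, (Scheme.Hom.comp_apply _ _ _).symm.trans hy⟩
    have hrim : IsImmersion r := by
      have : IsImmersion (r ≫ pullback.snd (φ j) t) := by rw [hr]; infer_instance
      exact IsImmersion.of_comp r (pullback.snd (φ j) t)
    have hrcl : IsClosedImmersion r := IsClosedImmersion.of_isPreimmersion r (by
      rw [Set.range_eq_univ.2 hsurj]; exact isClosed_univ)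
    rw [relCl, clD_eq]
    symm
    refine cl_eq_of_surjective_closed _ r hsurj _ ?_
    rw [← Category.assoc, hr, Category.id_comp]) (𝟙 H)
  have h2 := key
  change relCl (𝟙 H) h (𝟙 H) = ∑ i, relCl (φ i) h (𝟙 H) at h2
  rw [relCl_self] at h2
  simp only [relCl_id] at h2
  simpa using h2

end K928.PointBij
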