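import Groth.Agent.RelQuot.K928.TypeEx2

/-!
# Members of the family attached to a chart, over arbitrary affine test schemes
-/

set_option autoImplicit false
set_option linter.style.haveILetI false
set_option linter.dupNamespace false
universe u v

open CategoryTheory CategoryTheory.Limits AlgebraicGeometry Opposite TopologicalSpace

namespace K928.Rel

open Groth.Agent.Fga.QTDefs Groth.Agent.Fga.QT2 Groth.Agent.Ega1.SubSheaf Groth.Agent.Ega1.SubExt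
  Groth.Agent.CohqA.BaseChangeMod K928.Cap K928.UB K928.Sec K928.SecEx K928.Sq K928.Frame K928.OfObj
  K928.DivAlg K928.Res K928.Chart K928.Fam K928.Fam2 Groth.Agent.Picfga

variable {X Y : Scheme.{u}} {f : X ⟶ Y} {S : ShortComplex X.Modules} {T T' T'' : Over Y}
  {ξ : Subobject (FGA.ET f S.X₁ T)} {D : (PicF.XT f T).IdealSheafData}
  {V W : (PicF.XT f T).Opens} {a b : ℕ} {x : Fin a → Γ(FGA.ET f S.X₁ T, V)} {y : Γ(FGA.ET f S.X₂ T, V)}
  {e : Fin b → Γ(FGA.ET f S.X₃ T, V)}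

/-- `K ≤ E_{T'}` is the member with parameters `c` of the family attached to the pulled back chart. -/
def Rel (W : (PicF.XT f T).Opens) (ξ : Subobject (FGA.ET f S.X₁ T)) (x : Fin a → Γ(FGA.ET f S.X₁ T, V))
    (y : Γ(FGA.ET f S.X₂ T, V)) (g : T' ⟶ T) (c : Fin a → Γ(T'.left, ⊤)) (K : Subobject (FGA.ET f S.X₂ T')) : Prop :=
  IsFam (pb f g W) (FGA.quotPull f S.X₁ g ξ) (fun i => pz S.X₁ g V (x i)) (pz S.X₂ g V y) c K

theorem isFam_congr {k : T' ⟶ T} {V₁ V₂ : (PicF.XT f T').Opens} (hV : V₁ = V₂)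
    (h1 : V₁ ≤ PicF.XTmap f k ⁻¹ᵁ V) (h2 : V₂ ≤ PicF.XTmap f k ⁻¹ᵁ V) {W' : (PicF.XT f T').Opens}
    {ξ' : Subobject (FGA.ET f S.X₁ T')} {c : Fin a → Γ(T'.left, ⊤)} {K : Subobject (FGA.ET f S.X₂ T')}
    (h : IsFam W' ξ' (fun i => ps f S.X₁ k h1 (x i)) (ps f S.X₂ k h1 y) c K) :
    IsFam W' ξ' (fun i => ps f S.X₁ k h2 (x i)) (ps f S.X₂ k h2 y) c K := by
  subst hV
  exact h

theorem Rel.pull (hS : Hyp S) [IsAffine T.left] [IsAffine T'.left] [IsAffine T''.left]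
    (hξ : Coh.IsQCoh (cokernel ξ.arrow)) (hV : IsAffineOpen V) {g : T' ⟶ T} {c : Fin a → Γ(T'.left, ⊤)}
    {K : Subobject (FGA.ET f S.X₂ T')} (h : Rel W ξ x y g c K) (g' : T'' ⟶ T') :
    Rel W ξ x y (g' ≫ g) (fun i => g'.left.appTop.hom (c i)) (FGA.quotPull f S.X₂ g' K) := by
  have h1 := isFam_pull hS (isQCoh_quotPull f g hξ) (isAffineOpen_pb f g hV) h g'
  have e'' : pb f g' (pb f g V) ≤ PicF.XTmap f (g' ≫ g) ⁻¹ᵁ V := by
    rw [pb_comp]; exact le_rfl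
  have h2 : (fun i => pz S.X₁ g' (pb f g V) (pz S.X₁ g V (x i))) = fun i => ps f S.X₁ (g' ≫ g) e'' (x i) := by
    funext i
    exact ps_comp f g le_rfl g' (g' ≫ g) rfl le_rfl e'' (x i)
  have h3 : pz S.X₂ g' (pb f g V) (pz S.X₂ g V y) = ps f S.X₂ (g' ≫ g) e'' y :=
    ps_comp f g le_rfl g' (g' ≫ g) rfl le_rfl e'' y
  rw [h2, h3, ← Groth.Agent.Fga.QuotPull.quotPull_comp, pb_comp f g g' W] at h1
  exact isFam_congr (pb_comp f g g' V) e'' le_rfl h1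

/-- the type of a member -/
theorem Rel.isType (hS : Hyp S) [IsAffine T.left] [IsAffine T'.left] (hξ : Coh.IsQCoh (cokernel ξ.arrow))
    (h : Chart f S T ξ D V W x y e) {g : T' ⟶ T} {c : Fin a → Γ(T'.left, ⊤)}
    {K : Subobject (FGA.ET f S.X₂ T')} (hK : Rel W ξ x y g c K) :
    IsType f S T' K (FGA.quotPull f S.X₁ g ξ) (HilbD.pull f g D) :=
  isType_of_isFam hS (isQCoh_quotPull f g hξ) (h.pull hS hξ g) hK

/-- completeness -/
theorem existsUnique_rel (hS : Hyp S) [IsAffine T.left] [IsAffine T'.left] (hξ : Coh.IsQCoh (cokernel ξ.arrow))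
    (h : Chart f S T ξ D V W x y e) (g : T' ⟶ T) {K : Subobject (FGA.ET f S.X₂ T')}
    (hK : Coh.IsQCoh (cokernel K.arrow)) (ht : IsType f S T' K (FGA.quotPull f S.X₁ g ξ) (HilbD.pull f g D)) :
    ∃! c : Fin a → Γ(T'.left, ⊤), Rel W ξ x y g c K :=
  existsUnique_param hS (h.pull hS hξ g) hK ht

/-- uniqueness -/
theorem Rel.unique (hS : Hyp S) [IsAffine T.left] [IsAffine T'.left] (hξ : Coh.IsQCoh (cokernel ξ.arrow))
    (h : Chart f S T ξ D V W x y e) {g : T' ⟶ T} {c : Fin a → Γ(T'.left, ⊤)}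
    {K K' : Subobject (FGA.ET f S.X₂ T')} (hK : Rel W ξ x y g c K) (hK' : Rel W ξ x y g c K') : K = K' :=
  IsFam.unique hS (h.pull hS hξ g).frame.aff (h.pull hS hξ g).frame.sup hK hK'

/-- existence -/
theorem exists_rel (hS : Hyp S) [IsAffine T.left] [IsAffine T'.left] (hξ : Coh.IsQCoh (cokernel ξ.arrow))
    (h : Chart f S T ξ D V W x y e) (g : T' ⟶ T) (c : Fin a → Γ(T'.left, ⊤)) :
    ∃ K : Subobject (FGA.ET f S.X₂ T'), Rel W ξ x y g c K ∧ Coh.IsQCoh (cokernel K.arrow) ∧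
      ∃ (V' W' : (PicF.XT f T').Opens) (z : Fin a ⊕ Fin b → Γ(FGA.ET f S.X₂ T', V')), Frame f T' K V' W' z := by
  obtain ⟨K, hK⟩ := exists_fam hS (isQCoh_quotPull f g hξ) (h.pull hS hξ g) c
  obtain ⟨z, hz⟩ := Fam2.exists_frame hS (h.pull hS hξ g) hK
  exact ⟨K, hK, hK.qc, _, _, z, hz⟩

end K928.Rel
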