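import Groth.Agent.CohqA.PullbackSections
import Groth.Agent.RelQuot.K928.DivAlg
import Groth.Agent.Dual.H371.IdealMul
import Groth.Agent.RelQuot.K928.OfObj
import Groth.Agent.Fga.QTSub

/-!
# Preimages and images of submodules; the submodule `D·L`
-/

set_option autoImplicit false
set_option linter.style.haveILetI false
universe u v

open CategoryTheory CategoryTheory.Limits AlgebraicGeometry Opposite TopologicalSpace

namespace K928.Res

open Groth.Agent.Fga.QTDefs Groth.Agent.Fga.QT2 Groth.Agent.Ega1.SubSheaf Groth.Agent.Ega1.SubExt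
  Groth.Agent.CohqA.BaseChangeMod Groth.Agent.CohqA.PullbackUniv Groth.Agent.CohqA.PullbackSections Groth.Agent.CohqA.PullbackAffine K928.Cap
  K928.DivAlg

variable {X : Scheme.{u}}

theorem isUniv_id (F : X.Modules) : IsUniv (𝟙 X) ((Scheme.Modules.pushforwardId X).inv.app F) := by
  intro G
  have h : (fun φ : F ⟶ G => (Scheme.Modules.pushforwardId X).inv.app F ≫
      (Scheme.Modules.pushforward (𝟙 X)).map φ) = fun φ => φ ≫ (Scheme.Modules.pushforwardId X).inv.app G := by
    funext φ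
    exact ((Scheme.Modules.pushforwardId X).inv.naturality φ).symm
  rw [h]
  constructor
  · intro φ ψ hφ
    exact (cancel_mono _).1 hφ
  · intro ψ
    exact ⟨ψ ≫ (Scheme.Modules.pushforwardId X).hom.app G, by
      dsimp only
      rw [Category.assoc, ← NatTrans.comp_app, Iso.hom_inv_id, NatTrans.id_app]
      exact Category.comp_id _⟩

/-- restriction between affine opens is a base change -/
theorem isBC_res (F : X.Modules) (hF : Coh.IsQCoh F) {U V : X.Opens} (hU : IsAffineOpen U)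
    (hV : IsAffineOpen V) (h : V ≤ U) :
    IsBC (X.presheaf.map (homOfLE h).op).hom (res F h).hom := by
  have : F.IsQuasicoherent := hF
  have h1 := isBC_secMap (M := F) (N := F) (𝟙 X)
    ((Scheme.Modules.pushforwardId X).inv.app F) (isUniv_id F) hU hV h
  have h3 : (𝟙 X : X ⟶ X).appLE U V h = X.presheaf.map (homOfLE h).op := Category.id_comp _
  rw [h3] at h1
  have h2 : secMap (𝟙 X) ((Scheme.Modules.pushforwardId X).inv.app F) U V h = F.presheaf.map (homOfLE h).op :=
    Category.id_comp _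
  rw [h2] at h1
  exact h1

variable {M' M : X.Modules} (φ : M' ⟶ M)

/-- on sections -/
noncomputable def appl (U : X.Opens) : Γ(M', U) →ₗ[Γ(X, U)] Γ(M, U) where
  toFun s := φ.app U s
  map_add' _ _ := map_add _ _ _
  map_smul' _ _ := app_smul' _ _ _

/-- the preimage of a subsheaf -/
noncomputable def cmSub (N : Sub M) : Sub M' where
  obj U := (N.obj U).comap (appl φ U)
  map_mem {U V} h s hs := by
    change φ.app V (res M' h s) ∈ N.obj V
    rw [app_res]
    exact N.map_mem h hs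
  local_mem {U} s h := by
    change φ.app U s ∈ N.obj U
    refine N.local_mem _ fun x hx => ?_
    obtain ⟨V, hV, hxV, h1⟩ := h x hx
    have h2 : φ.app V (res M' hV s) ∈ N.obj V := h1
    rw [app_res] at h2
    exact ⟨V, hV, hxV, h2⟩

/-- the preimage of a subobject -/
noncomputable def cm (K : Subobject M) : Subobject M' := Subobject.mk (cmSub φ (subOf K)).ι

theorem secSub_cm (K : Subobject M) (U : X.Opens) : secSub (cm φ K) U = (secSub K U).comap (appl φ U) := by
  rw [cm, secSub_mk]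
  rfl

theorem isQCoh_cm (hM' : Coh.IsQCoh M') {K : Subobject M} (hK : Coh.IsQCoh (cokernel K.arrow)) :
    Coh.IsQCoh (cokernel (cm φ K).arrow) := by
  refine isQCoh_cokernel_mk hM' _ fun x => ?_
  obtain ⟨U, hU, hxU, -⟩ := exists_aff (show x ∈ (⊤ : X.Opens) from trivial)
  refine ⟨U, hxU, hU, fun r s hs => ?_⟩
  have h1 : φ.app _ (res M' (X.basicOpen_le r) s) ∈ (subOf K).obj (X.basicOpen r) := hs
  rw [app_res] at h1
  obtain ⟨n, hn⟩ := qc_subOf hK hU r _ h1
  refine ⟨n, ?_⟩
  change φ.app U (r ^ n • s) ∈ (subOf K).obj U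
  rw [app_smul']
  exact hn

theorem away_cm {K : Subobject M} {W : X.Opens} (h : Away K W) : Away (cm φ K) W := by
  intro U hU
  rw [secSub_cm, h U hU, Submodule.comap_top]

/-- a subobject with quasi-coherent cokernel is quasi-coherent -/
theorem isQCoh_of_cokernel (hM : Coh.IsQCoh M) {K : Subobject M} (hK : Coh.IsQCoh (cokernel K.arrow)) :
    Coh.IsQCoh (K : X.Modules) := by
  have h1 : Coh.IsQCoh (Limits.kernel (cokernel.π K.arrow)) :=
    Groth.Agent.PerfA.QCohSerre.isQCoh_kernel _ hM hK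
  have h2 := Abelian.monoIsKernelOfCokernel _ (colimit.isColimit (parallelPair K.arrow 0))
  exact Groth.Agent.PerfA.QCohSerre.isQCoh_of_iso
    (IsLimit.conePointUniqueUpToIso (limit.isLimit (parallelPair (cokernel.π K.arrow) 0)) h2) h1

theorem mem_secSub_mk {A : X.Modules} (i : A ⟶ M) [Mono i] (U : X.Opens) (s : Γ(M, U)) :
    s ∈ secSub (Subobject.mk i) U ↔ ∃ t, i.app U t = s := by
  rw [mem_secSub]
  constructor
  · rintro ⟨t, rfl⟩
    refine ⟨(Subobject.underlyingIso i).hom.app U t, ?_⟩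
    exact congr($(congrArg (fun ψ => Scheme.Modules.Hom.app ψ U) (Subobject.underlyingIso_hom_comp_eq_mk i)) t)
  · rintro ⟨t, rfl⟩
    refine ⟨(Subobject.underlyingIso i).inv.app U t, ?_⟩
    exact congr($(congrArg (fun ψ => Scheme.Modules.Hom.app ψ U) (Subobject.underlyingIso_arrow i)) t)

/-- the image of a subobject -/
noncomputable def im (K : Subobject M') : Subobject M := imageSubobject (K.arrow ≫ φ)

theorem isQCoh_im (hM' : Coh.IsQCoh M') (hM : Coh.IsQCoh M) {K : Subobject M'} (hK : Coh.IsQCoh (cokernel K.arrow)) :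
    Coh.IsQCoh (cokernel (im φ K).arrow) :=
  Groth.Agent.PerfA.QCohSerre.isQCoh_of_iso (Groth.Agent.Fga.QTSub.cokImage (K.arrow ≫ φ)).symm
    (Groth.Agent.PerfA.QCohSerre.isQCoh_cokernel _ (isQCoh_of_cokernel hM' hK) hM)

theorem secSub_im (hM' : Coh.IsQCoh M') (hM : Coh.IsQCoh M) {K : Subobject M'}
    (hK : Coh.IsQCoh (cokernel K.arrow)) {U : X.Opens} (hU : IsAffineOpen U) :
    secSub (im φ K) U = (secSub K U).map (appl φ U) := by
  have h1 : Coh.IsQCoh (K : X.Modules) := isQCoh_of_cokernel hM' hK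
  have h2 : Coh.IsQCoh (imageSubobject (K.arrow ≫ φ) : X.Modules) :=
    isQCoh_of_cokernel hM (isQCoh_im φ hM' hM hK)
  have h3 : factorThruImageSubobject (K.arrow ≫ φ) ≫ (im φ K).arrow = K.arrow ≫ φ :=
    imageSubobject_arrow_comp (K.arrow ≫ φ)
  have h4 := fun t => congr($(congrArg (fun ψ => Scheme.Modules.Hom.app ψ U) h3) t)
  have h5 : Function.Surjective ((factorThruImageSubobject (K.arrow ≫ φ)).app U) :=
    Groth.Agent.PerfA.QCohEpi.app_surjective_of_epi (factorThruImageSubobject (K.arrow ≫ φ)) hU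
  ext s
  constructor
  · rintro ⟨t, rfl⟩
    obtain ⟨t, rfl⟩ := h5 t
    exact ⟨K.arrow.app U t, ⟨t, rfl⟩, (h4 t).symm⟩
  · rintro ⟨_, ⟨t, rfl⟩, rfl⟩
    exact ⟨(factorThruImageSubobject (K.arrow ≫ φ)).app U t, h4 t⟩

/-- the submodule `D·F` -/
noncomputable def DL (D : X.IdealSheafData) (F : X.Modules) : Subobject F := Subobject.mk (Dual3.idealMulι D F)

theorem secSub_DL (D : X.IdealSheafData) {F : X.Modules} (hF : Coh.IsQCoh F) {U : X.Opens} (hU : IsAffineOpen U) :
    secSub (DL D F) U = D.ideal ⟨U, hU⟩ • (⊤ : Submodule Γ(X, U) Γ(F, U)) := by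
  ext s
  rw [DL, mem_secSub_mk]
  exact Groth.Agent.Dual.H371.IdealMul.mem_iff D hF ⟨U, hU⟩ s

theorem isQCoh_DL (D : X.IdealSheafData) {F : X.Modules} (hF : Coh.IsQCoh F) :
    Coh.IsQCoh (cokernel (DL D F).arrow) := by
  refine Groth.Agent.PerfA.QCohSerre.isQCoh_cokernel _ ?_ hF
  exact Groth.Agent.PerfA.QCohSerre.isQCoh_of_iso (Subobject.underlyingIso (Dual3.idealMulι D F)).symm
    (Groth.Agent.Dual.H371.IdealMul.isQCoh_obj D hF)

theorem away_DL (D : X.IdealSheafData) {F : X.Modules} (hF : Coh.IsQCoh F) {W : X.Opens}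
    (h : ∀ x ∈ W, x ∉ D.support) : Away (DL D F) W := by
  refine away_of_cover hF fun x hx => ?_
  obtain ⟨U, hU, hxU, hUW⟩ := exists_aff hx
  refine ⟨U, hxU, hU, ?_⟩
  rw [secSub_DL D hF hU, K928.OfObj.ideal_eq_top_of_disjoint D ⟨U, hU⟩ fun y hy => h y (hUW hy)]
  exact Submodule.top_smul _

end K928.Res
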