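import Groth.Agent.RelQuot.K928.Flags
import Groth.Agent.RelQuot.K928.GenFib
import Groth.Agent.Grass.K652.LfRank
import Groth.Agent.PerfA.CohSerre
import Mathlib.AlgebraicGeometry.Geometrically.Integral
import Mathlib.AlgebraicGeometry.Morphisms.FlatDescent

/-!
# Flags over small opens of the base
-/

set_option autoImplicit false
set_option linter.style.haveILetI false
set_option linter.dupNamespace false
universe u

open CategoryTheory CategoryTheory.Limits AlgebraicGeometry TopologicalSpace Opposite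

namespace K928.Spread

open K928.TFStep K928.Flags K928.Cap

theorem exists_flag_open {X Y : Scheme.{u}} (f : X ⟶ Y) [IsProper f] [SmoothOfRelativeDimension 1 f]
    [GeometricallyIntegral f] {k : Type u} [Field k] [CharZero k] (pY : Y ⟶ Spec (CommRingCat.of k))
    {E : X.Modules} {r : ℕ} (hE : FlatMod.IsFinLocFreeOfRank r E) {Z : Scheme.{u}} (i : Z ⟶ Y)
    [IsIntegral Z] [IsNoetherian Z] (O : Z.Opens) (hO : (O : Set Z).Nonempty) :
    ∃ (U : Scheme.{u}) (j : U ⟶ Z), IsOpenImmersion j ∧ Set.range j ⊆ O ∧ Nonempty U ∧ IsAffine U ∧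
      FlagOn Set.univ r (FGA.ET f E (Over.mk (j ≫ i))) := by
  let T : Over Y := Over.mk i
  let q : PicF.XT f T ⟶ Z := PicF.XTproj f T
  have h0 : IsPullback (pullback.fst f i) q f i := IsPullback.of_hasPullback f i
  have h1 : SmoothOfRelativeDimension 1 q :=
    (smoothOfRelativeDimension_isStableUnderBaseChange.{u} 1).of_isPullback h0 inferInstance
  have h2 : IsProper q := MorphismProperty.of_isPullback h0 inferInstance
  have h3 : GeometricallyIntegral q := MorphismProperty.of_isPullback h0 inferInstance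
  have h4 : Smooth q := SmoothOfRelativeDimension.smooth 1 q
  have h5 : IsIntegral (PicF.XT f T) := GeometricallyIntegral.isIntegral_of_isLocallyNoetherian q
  have h6 : IsLocallyNoetherian (PicF.XT f T) := LocallyOfFiniteType.isLocallyNoetherian q
  have h7 : CompactSpace (PicF.XT f T) := QuasiCompact.compactSpace_of_compactSpace q
  have h8 : IsNoetherian (PicF.XT f T) := {}
  have hET : FlatMod.IsFinLocFreeOfRank r (FGA.ET f E T) := K652.LfRank.pullback _ hE
  have hlf : FlatMod.IsFinLocFree (FGA.ET f E T) := fun x => by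
    obtain ⟨U, hU, e⟩ := hET x
    exact ⟨U, r, hU, e⟩
  have hcoh : Coh.IsCoh (FGA.ET f E T) := Groth.Agent.PerfA.CohSerre.isCoh_of_isFinLocFree hlf
  obtain ⟨Ω, hΩ, hfl⟩ := (flagOn_of_tf r hcoh (isTorsionFree_of_isFinLocFree hlf)
    (rk_of_isFinLocFree hET)).exists_open
  have hcl : IsClosed (q '' ((Ω : Set (PicF.XT f T))ᶜ)) := q.isClosedMap _ Ω.isOpen.isClosed_compl
  let U₀ : Z.Opens := ⟨(q '' ((Ω : Set (PicF.XT f T))ᶜ))ᶜ, hcl.isOpen_compl⟩
  have hη : genericPoint Z ∈ O ⊓ U₀ := by
    refine ⟨((genericPoint_spec Z).mem_open_set_iff O.isOpen).2 (by simpa using hO), ?_⟩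
    rintro ⟨x, hx, hxη⟩
    exact hx (hΩ (GenFib.pid_stalk (i ≫ pY) q x hxη))
  obtain ⟨U, hU, hηU, hUO⟩ := exists_aff hη
  refine ⟨U, U.ι, inferInstance, ?_, ⟨⟨_, hηU⟩⟩, hU, ?_⟩
  · rw [Scheme.Opens.range_ι]
    exact fun x hx => (hUO hx).1
  · let l : (Over.mk (U.ι ≫ i) : Over Y) ⟶ T := Over.homMk U.ι rfl
    have h9 := Groth.Agent.Picfga.HilbPull.isPullback_XTmap f l
    have h10 : IsOpenImmersion (PicF.XTmap f l) :=
      MorphismProperty.of_isPullback h9.flip (inferInstanceAs (IsOpenImmersion U.ι))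
    have h11 := (hfl.restrict (PicF.XTmap f l)).iso
      ((Scheme.Modules.restrictFunctorIsoPullback (PicF.XTmap f l)).app _ ≪≫ FGA.ETiso f E l)
    refine h11.mono fun x _ => ?_
    by_contra hx
    have h12 : q (PicF.XTmap f l x) ∈ q '' ((Ω : Set (PicF.XT f T))ᶜ) := ⟨_, hx, rfl⟩
    have h13 : q (PicF.XTmap f l x) ∈ U := by
      have h14 : q (PicF.XTmap f l x) = U.ι (PicF.XTproj f _ x) := by
        have h15 := h9.w
        rw [← Scheme.Hom.comp_apply, h15, Scheme.Hom.comp_apply]
        rfl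
      rw [h14]
      exact (PicF.XTproj f (Over.mk (U.ι ≫ i)) x : U).2
    exact (hUO h13).2 h12

end K928.Spread
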