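import Groth.Agent.RelQuot.K928.Sec
import Groth.Agent.RelQuot.K928.UB
import Mathlib.AlgebraicGeometry.Morphisms.Flat

/-!
# Affine opens of `X_T` for affine `T`, and base change
-/

set_option autoImplicit false
universe u v

open CategoryTheory CategoryTheory.Limits AlgebraicGeometry Opposite TopologicalSpace

namespace K928.Sq

open Groth.Agent.Fga.QTDefs Groth.Agent.Fga.QT2 Groth.Agent.Picfga.HilbPull K928.Sec K928.Cap K928.UB

variable {X Y : Scheme.{u}} (f : X ⟶ Y) {T T' T'' : Over Y}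

/-- `Γ(T, ⊤) ⟶ Γ(X_T, V)` -/
noncomputable def coef (T : Over Y) (V : (PicF.XT f T).Opens) : Γ(T.left, ⊤) ⟶ Γ(PicF.XT f T, V) :=
  (PicF.XTproj f T).appLE ⊤ V le_top

/-- pulled back opens -/
noncomputable def pb (g : T' ⟶ T) (V : (PicF.XT f T).Opens) : (PicF.XT f T').Opens := PicF.XTmap f g ⁻¹ᵁ V

/-- the map on functions -/
noncomputable def pbR (g : T' ⟶ T) (V : (PicF.XT f T).Opens) : Γ(PicF.XT f T, V) ⟶ Γ(PicF.XT f T', pb f g V) :=
  (PicF.XTmap f g).appLE V (pb f g V) le_rfl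

theorem isAffineHom_XTmap (g : T' ⟶ T) [IsAffine T.left] [IsAffine T'.left] : IsAffineHom (PicF.XTmap f g) :=
  MorphismProperty.of_isPullback (isPullback_XTmap f g).flip (inferInstance : IsAffineHom g.left)

theorem isAffineOpen_pb (g : T' ⟶ T) [IsAffine T.left] [IsAffine T'.left] {V : (PicF.XT f T).Opens}
    (hV : IsAffineOpen V) : IsAffineOpen (pb f g V) := by
  have := isAffineHom_XTmap f g
  exact hV.preimage _

theorem isPushout_pb (g : T' ⟶ T) [IsAffine T.left] [IsAffine T'.left] {V : (PicF.XT f T).Opens}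
    (hV : IsAffineOpen V) :
    IsPushout g.left.appTop (coef f T V) (coef f T' (pb f g V)) (pbR f g V) := by
  have h1 := isIso_pushoutSection_of_isAffineOpen (isPullback_XTmap f g) (US := ⊤) (UT := ⊤) (UX := V)
    (UY := pb f g V) le_top le_top (by rw [pb]; simp) (isAffineOpen_top _) (isAffineOpen_top _) hV
  rw [isIso_pushoutSection_iff] at h1
  have h2 : g.left.appLE ⊤ ⊤ le_top = g.left.appTop := Scheme.Hom.appLE_eq_app _
  rw [← h2]
  exact h1.flip

theorem pb_comp (g : T' ⟶ T) (h : T'' ⟶ T') (V : (PicF.XT f T).Opens) : pb f h (pb f g V) = pb f (h ≫ g) V := by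
  rw [pb, pb, pb, XTmap_comp]
  rfl

theorem pb_sup (g : T' ⟶ T) (V W : (PicF.XT f T).Opens) (h : V ⊔ W = ⊤) : pb f g V ⊔ pb f g W = ⊤ := by
  rw [pb, pb, ← Scheme.Hom.preimage_sup, h]
  rfl

end K928.Sq
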