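import Groth.Agent.RelQuot.K928.Pts
import Groth.Agent.Picfga.HilbPull

/-!
# Change of base for families over a square

For a pull-back square `X' = X ×_Y Y'` and `T` over `Y'` (seen over `Y` as `(Over.map t).obj T`), the schemes
`X' ×_{Y'} T` and `X ×_Y T` agree; consequences for `AFb` and `HilbD`.
-/

set_option autoImplicit false
universe u

open CategoryTheory CategoryTheory.Limits AlgebraicGeometry Opposite TopologicalSpace

namespace K928.Square

open K928.Pts Groth.Agent.Picfga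

variable {X X' Y Y' : Scheme.{u}} {a : X' ⟶ X} {f' : X' ⟶ Y'} {f : X ⟶ Y} {t : Y' ⟶ Y} (sq : IsPullback a f' f t)

/-- `X' ×_{Y'} T ⟶ X ×_Y T` -/
noncomputable def th (T : Over Y') : PicF.XT f' T ⟶ PicF.XT f ((Over.map t).obj T) :=
  pullback.lift (pullback.fst f' T.hom ≫ a) (pullback.snd f' T.hom) (by
    rw [Category.assoc, sq.w, pullback.condition_assoc]
    rfl)

theorem th_fst (T : Over Y') : th sq T ≫ pullback.fst f ((Over.map t).obj T).hom =
    pullback.fst f' T.hom ≫ a := pullback.lift_fst _ _ _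

theorem th_snd (T : Over Y') : th sq T ≫ PicF.XTproj f ((Over.map t).obj T) = PicF.XTproj f' T :=
  pullback.lift_snd _ _ _

theorem isIso_th (T : Over Y') : IsIso (th sq T) := by
  have h : IsPullback (th sq T) (PicF.XTproj f' T) (PicF.XTproj f ((Over.map t).obj T)) (𝟙 T.left) := by
    refine IsPullback.of_right (h₁₂ := pullback.fst f ((Over.map t).obj T).hom) (h₂₂ := T.hom ≫ t) (v₁₃ := f) ?_ ?_
      (IsPullback.of_hasPullback f ((Over.map t).obj T).hom)
    · rw [th_fst, Category.id_comp]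
      exact (IsPullback.of_hasPullback f' T.hom).paste_horiz sq
    · rw [th_snd]
      exact (Category.comp_id _).symm
  exact h.isIso_fst_of_isIso

theorem th_nat {T T' : Over Y'} (g : T' ⟶ T) :
    th sq T' ≫ PicF.XTmap f ((Over.map t).map g) = PicF.XTmap f' g ≫ th sq T := by
  apply pullback.hom_ext
  · rw [Category.assoc, HilbPull.XTmap_fst, th_fst, Category.assoc, th_fst, reassoc_of% (HilbPull.XTmap_fst f' g)]
  · have h1 : PicF.XTmap f ((Over.map t).map g) ≫ PicF.XTproj f ((Over.map t).obj T) =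
      PicF.XTproj f ((Over.map t).obj T') ≫ g.left := HilbPull.XTmap_snd f ((Over.map t).map g)
    have h2 : PicF.XTmap f' g ≫ PicF.XTproj f' T = PicF.XTproj f' T' ≫ g.left := HilbPull.XTmap_snd f' g
    have h3 : (th sq T' ≫ PicF.XTmap f ((Over.map t).map g)) ≫ PicF.XTproj f ((Over.map t).obj T) =
        (PicF.XTmap f' g ≫ th sq T) ≫ PicF.XTproj f ((Over.map t).obj T) := by
      rw [Category.assoc, h1, ← Category.assoc, th_snd, Category.assoc, th_snd, h2]
    exact h3

include sq in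
theorem afb (h : AFb f) : AFb f' := by
  intro T hT s hs
  have hi := isIso_th sq T
  obtain ⟨U, hU, hsU⟩ := h ((Over.map t).obj T) hT (th sq T '' s) (hs.image _)
  exact ⟨th sq T ⁻¹ᵁ U, hU.preimage _, fun x hx => hsU ⟨x, hx, rfl⟩⟩

/-! ### Divisors -/

theorem deg_iso {P P' T : Scheme.{u}} (θ : P' ⟶ P) [IsIso θ] (p : P ⟶ T) (p' : P' ⟶ T) (h : θ ≫ p = p') {d : ℕ}
    (I : P.IdealSheafData) (hI : Mor2.IsFinLocFreeOfDeg d (I.subschemeι ≫ p)) :
    Mor2.IsFinLocFreeOfDeg d ((I.comap θ).subschemeι ≫ p') := by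
  have h2 : (I.comap θ).subschemeι ≫ p' = (I.comapIso θ).hom ≫ pullback.snd θ I.subschemeι ≫ I.subschemeι ≫ p := by
    rw [← Scheme.IdealSheafData.comapIso_hom_fst, ← h, Category.assoc, pullback.condition_assoc]
  rw [h2]
  exact HilbPull.isFinLocFreeOfDeg_comp_iso (HilbPull.isFinLocFreeOfDeg_comp_iso hI)

theorem comap_inv_comap {P P' : Scheme.{u}} (θ : P' ⟶ P) [IsIso θ] (I : P'.IdealSheafData) :
    (I.comap (inv θ)).comap θ = I := by
  rw [← Scheme.IdealSheafData.comap_comp, IsIso.hom_inv_id, Scheme.IdealSheafData.comap_id]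

theorem comap_comap_inv {P P' : Scheme.{u}} (θ : P' ⟶ P) [IsIso θ] (I : P.IdealSheafData) :
    (I.comap θ).comap (inv θ) = I := by
  rw [← Scheme.IdealSheafData.comap_comp, IsIso.inv_hom_id, Scheme.IdealSheafData.comap_id]

include sq in
/-- the base change of a universal divisor is universal -/
theorem hilb_bc {d : ℕ} {H : Over Y} (Z : HilbD.Obj f d H) (hZ : HilbD.IsUniversal f d H Z) :
    ∃ Z' : HilbD.Obj f' d (Over.mk (pullback.snd H.hom t)),
      HilbD.IsUniversal f' d (Over.mk (pullback.snd H.hom t)) Z' := by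
  let H' : Over Y' := Over.mk (pullback.snd H.hom t)
  let pr : (Over.map t).obj H' ⟶ H := Over.homMk (pullback.fst H.hom t) pullback.condition
  have i0 := isIso_th sq H'
  let Z₁ := HilbPull.pullObj f pr Z
  let Z' : HilbD.Obj f' d H' := ⟨Z₁.1.comap (th sq H'), deg_iso _ _ _ (th_snd sq H') Z₁.1 Z₁.2⟩
  have key : ∀ (T : Over Y') (g : T ⟶ H'), HilbD.pull f' g Z'.1 =
      (HilbD.pull f ((Over.map t).map g ≫ pr) Z.1).comap (th sq T) := by
    intro T g
    rw [HilbPull.pull_eq_comap, HilbPull.pull_comp, HilbPull.pull_eq_comap f ((Over.map t).map g)]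
    have h1 : Z'.1.comap (PicF.XTmap f' g) = Z₁.1.comap (PicF.XTmap f' g ≫ th sq H') :=
      (Scheme.IdealSheafData.comap_comp _ _ _).symm
    have h2 : (Z₁.1.comap (PicF.XTmap f ((Over.map t).map g))).comap (th sq T) =
        Z₁.1.comap (th sq T ≫ PicF.XTmap f ((Over.map t).map g)) :=
      (Scheme.IdealSheafData.comap_comp _ _ _).symm
    rw [h1, ← th_nat]
    exact h2.symm
  refine ⟨Z', ?_⟩
  intro T Z''
  have i1 := isIso_th sq T
  have h3 : inv (th sq T) ≫ PicF.XTproj f' T = PicF.XTproj f ((Over.map t).obj T) := by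
    rw [IsIso.inv_comp_eq, th_snd]
  obtain ⟨g₀, hg₀, hu⟩ := hZ ((Over.map t).obj T) ⟨Z''.1.comap (inv (th sq T)), deg_iso _ _ _ h3 Z''.1 Z''.2⟩
  have hg₀' : HilbD.pull f g₀ Z.1 = Z''.1.comap (inv (th sq T)) := hg₀
  have hw : g₀.left ≫ H.hom = T.hom ≫ t := Over.w g₀
  let g : T ⟶ H' := Over.homMk (pullback.lift g₀.left T.hom hw) (pullback.lift_snd _ _ _)
  have hg : (Over.map t).map g ≫ pr = g₀ := by
    ext1
    exact pullback.lift_fst _ _ _
  refine ⟨g, ?_, ?_⟩
  · change HilbD.pull f' g Z'.1 = Z''.1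
    rw [key, hg, hg₀', comap_inv_comap]
  · intro g₂ hg₂
    have h4 : HilbD.pull f' g₂ Z'.1 = Z''.1 := hg₂
    rw [key] at h4
    have h5 : (Over.map t).map g₂ ≫ pr = g₀ := by
      refine hu _ ?_
      change HilbD.pull f ((Over.map t).map g₂ ≫ pr) Z.1 = Z''.1.comap (inv (th sq T))
      rw [← h4, comap_comap_inv]
    ext1
    apply pullback.hom_ext
    · exact (congrArg CommaMorphism.left h5).trans (pullback.lift_fst _ _ _).symm
    · have h6 : g₂.left ≫ pullback.snd H.hom t = T.hom := Over.w g₂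
      exact h6.trans (pullback.lift_snd _ _ _).symm

end K928.Square
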