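import Groth.Agent.RelQuot.K928.WFam

/-!
# The family over one piece
-/

set_option autoImplicit false
set_option linter.style.haveILetI false
set_option linter.dupNamespace false
universe u v

open CategoryTheory CategoryTheory.Limits AlgebraicGeometry Opposite TopologicalSpace

namespace K928.StageA

open K928.Cap K928.UB K928.Sec K928.SecEx K928.Sq K928.Frame K928.ObjOf K928.OfObj K928.Pts K928.DivAlg
  K928.Chart K928.Fam K928.Fam2 K928.Res K928.Rel K928.K0Calc K928.Strat K928.PointBij K928.WFam K928.Aff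
  Groth.Agent.Picfga

variable {X Y : Scheme.{u}} {f : X ⟶ Y} {S : ShortComplex X.Modules}

theorem affine_family (hS : Hyp S) (T : Over Y) [IsAffine T.left] [LocallyOfFiniteType T.hom] [QuasiCompact T.hom]
    {ξ : Subobject (FGA.ET f S.X₁ T)} (hξ : Coh.IsQCoh (cokernel ξ.arrow)) {D : (PicF.XT f T).IdealSheafData}
    {V W : (PicF.XT f T).Opens} {a b : ℕ} {x : Fin a → Γ(FGA.ET f S.X₁ T, V)} {y : Γ(FGA.ET f S.X₂ T, V)}
    {e : Fin b → Γ(FGA.ET f S.X₃ T, V)} (h : Chart f S T ξ D V W x y e) :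
    ∃ (N : Over Y) (K : Subobject (FGA.ET f S.X₂ N)) (n : N ⟶ T), Piece f S.X₂ (a + b) N K ∧
      clD N.hom = K0Var.cl T.hom * K0Var.L Y ^ a ∧
      (∀ (T' : Over Y) (_ : IsAffine T'.left) (z : T' ⟶ N), IsType f S T' (FGA.quotPull f S.X₂ z K)
        (FGA.quotPull f S.X₁ (z ≫ n) ξ) (HilbD.pull f (z ≫ n) D)) ∧
      ∀ (T' : Over Y) (_ : IsAffine T'.left) (l : T' ⟶ T) (κ : Subobject (FGA.ET f S.X₂ T')),
        Coh.IsQCoh (cokernel κ.arrow) → IsType f S T' κ (FGA.quotPull f S.X₁ l ξ) (HilbD.pull f l D) →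
        ∃! p : T' ⟶ N, p ≫ n = l ∧ FGA.quotPull f S.X₂ p K = κ := by
  obtain ⟨N', π, t, hN, hπ1, hπ2, hcl, huniv⟩ := exists_affine a T.left
  let N : Over Y := Over.mk (π ≫ T.hom)
  let n : N ⟶ T := Over.homMk π rfl
  have i1 : IsAffine N.left := hN
  obtain ⟨K, hK, hKq, V', W', z, hz⟩ := exists_rel hS hξ h n t
  refine ⟨N, K, n, ⟨hN, inferInstanceAs (LocallyOfFiniteType (π ≫ T.hom)),
    inferInstanceAs (QuasiCompact (π ≫ T.hom)), hKq, V', W', z ∘ finSumFinEquiv.symm, ?_⟩, hcl Y T.hom, ?_, ?_⟩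
  · exact ⟨hz.aff, hz.sup, hz.away, hz.bas.reindex finSumFinEquiv.symm⟩
  · intro T' i2 z
    exact (hK.pull hS hξ h.frame.aff z).isType hS hξ h
  · intro T' i2 l κ hκ ht
    obtain ⟨c, hc, hcu⟩ := existsUnique_rel hS hξ h l hκ ht
    obtain ⟨m, ⟨hm1, hm2⟩, hmu⟩ := huniv T'.left l.left c
    let p : T' ⟶ N := Over.homMk m (by
      change m ≫ π ≫ T.hom = T'.hom
      rw [← Category.assoc, hm1, Over.w])
    have hp : p ≫ n = l := by
      ext1
      exact hm1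
    refine ⟨p, ⟨hp, ?_⟩, ?_⟩
    · have h1 := hK.pull hS hξ h.frame.aff p
      rw [hp] at h1
      have h2 : (fun i => p.left.appTop.hom (t i)) = c := funext hm2
      rw [h2] at h1
      exact Rel.unique hS hξ h h1 hc
    · rintro p' ⟨hp'1, hp'2⟩
      have h1 := hK.pull hS hξ h.frame.aff p'
      rw [hp'1, hp'2] at h1
      have h2 := hcu _ h1
      ext1
      exact hmu _ ⟨congrArg CommaMorphism.left hp'1, fun i => congrFun h2 i⟩

theorem noeth_of (T₀ : Over Y) [IsNoetherian Y] [LocallyOfFiniteType T₀.hom] [QuasiCompact T₀.hom] :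
    IsNoetherian T₀.left := by
  have h1 : IsLocallyNoetherian T₀.left := LocallyOfFiniteType.isLocallyNoetherian T₀.hom
  have h2 : CompactSpace T₀.left := QuasiCompact.compactSpace_of_compactSpace T₀.hom
  exact {}

theorem stageA (hS : Hyp S) [IsProper f] [SmoothOfRelativeDimension 1 f] (hAF : AFb f) [IsNoetherian Y]
    {a b : ℕ} (T₀ : Over Y) [LocallyOfFiniteType T₀.hom] [QuasiCompact T₀.hom]
    {ξ₀ : Subobject (FGA.ET f S.X₁ T₀)} (hξ₀ : Stab f S.X₁ a T₀ ξ₀) (D₀ : HilbD.Obj f b T₀) :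
    ∃ (ι : Type) (_ : Fintype ι) (N : ι → Over Y) (K : ∀ i, Subobject (FGA.ET f S.X₂ (N i))) (m : ∀ i, N i ⟶ T₀),
      (∀ i, Piece f S.X₂ (a + b) (N i) (K i)) ∧
      ∑ i, clD (N i).hom = K0Var.cl T₀.hom * K0Var.L Y ^ a ∧
      (∀ (i : ι) (T' : Over Y) (_ : IsAffine T'.left) (z : T' ⟶ N i), IsType f S T' (FGA.quotPull f S.X₂ z (K i))
        (FGA.quotPull f S.X₁ (z ≫ m i) ξ₀) (HilbD.pull f (z ≫ m i) D₀.1)) ∧
      ∀ (F : Type u) [Field F] (y : Spec (.of F) ⟶ Y) (μ : Over.mk y ⟶ T₀)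
        (κ : Subobject (FGA.ET f S.X₂ (Over.mk y))), Coh.IsQCoh (cokernel κ.arrow) →
        IsType f S (Over.mk y) κ (FGA.quotPull f S.X₁ μ ξ₀) (HilbD.pull f μ D₀.1) →
        ∃! p : Σ i, (Over.mk y ⟶ N i), p.2 ≫ m p.1 = μ ∧ FGA.quotPull f S.X₂ p.2 (K p.1) = κ := by
  have i0 : IsNoetherian T₀.left := noeth_of T₀
  obtain ⟨ι, hι, U, u, h1, h2, h3⟩ := exists_strat hS hAF T₀ hξ₀ D₀
  have hb : PtBij u := ptBij_of_partition u h3
  have hNS : ∀ i, NoetherianSpace (U i) := fun i => (u i).isEmbedding.isInducing.noetherianSpace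
  have hft : ∀ i, LocallyOfFiniteType (u i) := fun i => inferInstance
  have hqc : ∀ i, QuasiCompact (u i) := fun i => inferInstance
  have key : ∀ i, ∃ (N : Over Y) (K : Subobject (FGA.ET f S.X₂ N)) (n : N ⟶ Over.mk (u i ≫ T₀.hom)),
      Piece f S.X₂ (a + b) N K ∧
      clD N.hom = K0Var.cl (u i ≫ T₀.hom) * K0Var.L Y ^ a ∧
      (∀ (T' : Over Y) (_ : IsAffine T'.left) (z : T' ⟶ N), IsType f S T' (FGA.quotPull f S.X₂ z K)
        (FGA.quotPull f S.X₁ (z ≫ n ≫ lf (u i)) ξ₀) (HilbD.pull f (z ≫ n ≫ lf (u i)) D₀.1)) ∧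
      ∀ (T' : Over Y) (_ : IsAffine T'.left) (l : T' ⟶ Over.mk (u i ≫ T₀.hom)) (κ : Subobject (FGA.ET f S.X₂ T')),
        Coh.IsQCoh (cokernel κ.arrow) →
        IsType f S T' κ (FGA.quotPull f S.X₁ (l ≫ lf (u i)) ξ₀) (HilbD.pull f (l ≫ lf (u i)) D₀.1) →
        ∃! p : T' ⟶ N, p ≫ n = l ∧ FGA.quotPull f S.X₂ p K = κ := by
    intro i
    obtain ⟨hU, V, W, x, y, e, hc⟩ := h2 i
    have i1 : IsAffine (Over.mk (u i ≫ T₀.hom) : Over Y).left := hU
    have i2 : LocallyOfFiniteType (Over.mk (u i ≫ T₀.hom) : Over Y).hom :=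
      inferInstanceAs (LocallyOfFiniteType (u i ≫ T₀.hom))
    have i3 : QuasiCompact (Over.mk (u i ≫ T₀.hom) : Over Y).hom :=
      inferInstanceAs (QuasiCompact (u i ≫ T₀.hom))
    obtain ⟨N, K, n, hP, hcl, hty, hun⟩ := affine_family hS (Over.mk (u i ≫ T₀.hom))
      (isQCoh_quotPull f (lf (u i)) hξ₀.1) hc
    refine ⟨N, K, n, hP, hcl, ?_, ?_⟩
    · intro T' i4 z
      have h4 := hty T' i4 z
      rwa [← Groth.Agent.Fga.QuotPull.quotPull_comp, ← HilbPull.pull_comp, Category.assoc] at h4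
    · intro T' i4 l κ hκ ht
      rw [Groth.Agent.Fga.QuotPull.quotPull_comp, HilbPull.pull_comp] at ht
      exact hun T' i4 l κ hκ ht
  choose N K n hP hcl hty hun using key
  refine ⟨ι, hι, N, K, fun i => n i ≫ lf (u i), hP, ?_, hty, ?_⟩
  · rw [Finset.sum_congr rfl fun i _ => hcl i, ← Finset.sum_mul]
    congr 1
    exact (cl_eq_sum_of_points T₀.hom u hb).symm
  · intro F _ y μ κ hκ ht
    obtain ⟨⟨i, l⟩, hl, hlu⟩ := hb F μ.left
    have hl' : l ≫ u i = μ.left := hl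
    let l' : Over.mk y ⟶ Over.mk (u i ≫ T₀.hom) := Over.homMk l (by
      change l ≫ u i ≫ T₀.hom = y
      rw [← Category.assoc, hl', Over.w]
      rfl)
    have hl'' : l' ≫ lf (u i) = μ := by
      ext1
      exact hl'
    have i4 : IsAffine (Over.mk y : Over Y).left := inferInstanceAs (IsAffine (Spec (.of F)))
    obtain ⟨p, ⟨hp1, hp2⟩, hpu⟩ := hun i (Over.mk y) i4 l' κ hκ (by rw [hl'']; exact ht)
    refine ⟨⟨i, p⟩, ⟨?_, hp2⟩, ?_⟩
    · change p ≫ n i ≫ lf (u i) = μ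
      rw [← Category.assoc, hp1, hl'']
    · rintro ⟨j, p'⟩ ⟨hp'1, hp'2⟩
      have h5 : (p' ≫ n j).left ≫ u j = μ.left := by
        rw [← hp'1]
        change (p' ≫ n j).left ≫ u j = (p' ≫ n j ≫ lf (u j)).left
        rw [← Category.assoc]
        rfl
      have h6 := hlu ⟨j, (p' ≫ n j).left⟩ h5
      have hji : j = i := congrArg Sigma.fst h6
      subst hji
      have h7 : (p' ≫ n j).left = l := eq_of_heq (Sigma.mk.inj_iff.1 h6).2
      have h8 : p' ≫ n j = l' := by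
        ext1
        exact h7
      rw [hpu p' ⟨h8, hp'2⟩]

end K928.StageA
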