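import Groth.Agent.RelQuot.K928.StageA

/-!
# The inductive step
-/

set_option autoImplicit false
set_option linter.style.haveILetI false
set_option linter.dupNamespace false
universe u v

open CategoryTheory CategoryTheory.Limits AlgebraicGeometry Opposite TopologicalSpace

namespace K928.StageB

open K928.Cap K928.UB K928.Sec K928.SecEx K928.Sq K928.Frame K928.ObjOf K928.OfObj K928.Pts K928.DivAlg
  K928.Chart K928.Fam K928.Fam2 K928.Res K928.Rel K928.K0Calc K928.Strat K928.PointBij K928.WFam K928.Aff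
  K928.StageA Groth.Agent.Picfga

variable {X Y : Scheme.{u}} {f : X ⟶ Y} {S : ShortComplex X.Modules}

theorem stageB (hS : Hyp S) [IsProper f] [SmoothOfRelativeDimension 1 f] (hAF : AFb f) [IsNoetherian Y]
    {a b : ℕ} {M : Over Y} {ξ : Subobject (FGA.ET f S.X₁ M)} (hM : Piece f S.X₁ a M ξ)
    (B : Over Y) [LocallyOfFiniteType B.hom] [QuasiCompact B.hom] (D : HilbD.Obj f b B) :
    ∃ (ι : Type) (_ : Fintype ι) (N : ι → Over Y) (K : ∀ i, Subobject (FGA.ET f S.X₂ (N i)))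
      (m₁ : ∀ i, N i ⟶ M) (m₂ : ∀ i, N i ⟶ B),
      (∀ i, Piece f S.X₂ (a + b) (N i) (K i)) ∧
      ∑ i, clD (N i).hom = clD M.hom * K0Var.cl B.hom * K0Var.L Y ^ a ∧
      (∀ (i : ι) (T' : Over Y) (_ : IsAffine T'.left) (z : T' ⟶ N i), IsType f S T' (FGA.quotPull f S.X₂ z (K i))
        (FGA.quotPull f S.X₁ (z ≫ m₁ i) ξ) (HilbD.pull f (z ≫ m₂ i) D.1)) ∧
      ∀ (F : Type u) [Field F] (y : Spec (.of F) ⟶ Y) (μ₁ : Over.mk y ⟶ M) (μ₂ : Over.mk y ⟶ B)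
        (κ : Subobject (FGA.ET f S.X₂ (Over.mk y))), Coh.IsQCoh (cokernel κ.arrow) →
        IsType f S (Over.mk y) κ (FGA.quotPull f S.X₁ μ₁ ξ) (HilbD.pull f μ₂ D.1) →
        ∃! p : Σ i, (Over.mk y ⟶ N i), p.2 ≫ m₁ p.1 = μ₁ ∧ p.2 ≫ m₂ p.1 = μ₂ ∧
          FGA.quotPull f S.X₂ p.2 (K p.1) = κ := by
  have i1 := hM.lft
  have i2 := hM.qc
  let T₀ : Over Y := Over.mk (pullback.fst M.hom B.hom ≫ M.hom)
  have i3 : LocallyOfFiniteType T₀.hom := inferInstanceAs (LocallyOfFiniteType (pullback.fst M.hom B.hom ≫ M.hom))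
  have i4 : QuasiCompact T₀.hom := inferInstanceAs (QuasiCompact (pullback.fst M.hom B.hom ≫ M.hom))
  let p₁ : T₀ ⟶ M := Over.homMk (pullback.fst M.hom B.hom) rfl
  let p₂ : T₀ ⟶ B := Over.homMk (pullback.snd M.hom B.hom) pullback.condition.symm
  have hlift : ∀ {T' : Over Y} (μ₁ : T' ⟶ M) (μ₂ : T' ⟶ B), ∃ μ : T' ⟶ T₀, μ ≫ p₁ = μ₁ ∧ μ ≫ p₂ = μ₂ := by
    intro T' μ₁ μ₂
    have hw : μ₁.left ≫ M.hom = μ₂.left ≫ B.hom := by rw [Over.w, Over.w]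
    refine ⟨Over.homMk (pullback.lift μ₁.left μ₂.left hw) ?_, ?_, ?_⟩
    · change pullback.lift μ₁.left μ₂.left hw ≫ pullback.fst M.hom B.hom ≫ M.hom = T'.hom
      rw [pullback.lift_fst_assoc, Over.w]
    · ext1
      exact pullback.lift_fst _ _ _
    · ext1
      exact pullback.lift_snd _ _ _
  have hext : ∀ {T' : Over Y} (μ ν : T' ⟶ T₀), μ ≫ p₁ = ν ≫ p₁ → μ ≫ p₂ = ν ≫ p₂ → μ = ν := by
    intro T' μ ν h1 h2
    ext1
    apply pullback.hom_ext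
    · exact congrArg CommaMorphism.left h1
    · exact congrArg CommaMorphism.left h2
  have hst := (hM.stab hS.q1).pull p₁
  obtain ⟨ι, hι, N, K, m, hP, hcl, hty, hun⟩ := stageA hS hAF T₀ hst (HilbPull.pullObj f p₂ D)
  refine ⟨ι, hι, N, K, fun i => m i ≫ p₁, fun i => m i ≫ p₂, hP, ?_, ?_, ?_⟩
  · rw [hcl, clD_eq]
    congr 1
    exact cl_eq_mul_of_isPullback (IsPullback.of_hasPullback M.hom B.hom).flip
  · intro i T' hT' z
    have h1 := hty i T' hT' z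
    rw [HilbPull.pullObj_val, ← Groth.Agent.Fga.QuotPull.quotPull_comp, ← HilbPull.pull_comp, Category.assoc,
      Category.assoc] at h1
    exact h1
  · intro F _ y μ₁ μ₂ κ hκ ht
    obtain ⟨μ, hμ₁, hμ₂⟩ := hlift μ₁ μ₂
    have ht' : IsType f S (Over.mk y) κ (FGA.quotPull f S.X₁ μ (FGA.quotPull f S.X₁ p₁ ξ))
        (HilbD.pull f μ (HilbPull.pullObj f p₂ D).1) := by
      rw [HilbPull.pullObj_val, ← Groth.Agent.Fga.QuotPull.quotPull_comp, ← HilbPull.pull_comp, hμ₁, hμ₂]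
      exact ht
    obtain ⟨⟨i, p⟩, ⟨hp1, hp2⟩, hpu⟩ := hun F y μ κ hκ ht'
    refine ⟨⟨i, p⟩, ⟨?_, ?_, hp2⟩, ?_⟩
    · change p ≫ m i ≫ p₁ = μ₁
      rw [← Category.assoc, hp1, hμ₁]
    · change p ≫ m i ≫ p₂ = μ₂
      rw [← Category.assoc, hp1, hμ₂]
    · rintro ⟨j, p'⟩ ⟨h1, h2, h3⟩
      refine hpu ⟨j, p'⟩ ⟨hext _ _ ?_ ?_, h3⟩
      · rw [hμ₁, ← h1]
        exact Category.assoc _ _ _
      · rw [hμ₂, ← h2]
        exact Category.assoc _ _ _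

/-- a finite universal family (on points with values in fields) of quotients of length `d` with affine bases -/
def WF (f : X ⟶ Y) (E : X.Modules) (d : ℕ) (c : K0Var.K Y) : Prop :=
  ∃ (J : Type) (_ : Fintype J) (M : J → Over Y) (ξ : ∀ j, Subobject (FGA.ET f E (M j))),
    (∀ j, Piece f E d (M j) (ξ j)) ∧ ∑ j, clD (M j).hom = c ∧
    ∀ (F : Type u) [Field F] (y : Spec (.of F) ⟶ Y) (κ : QuotD.Obj f E d (Over.mk y)),
      ∃! p : Σ j, (Over.mk y ⟶ M j), FGA.quotPull f E p.2 (ξ p.1) = κ.1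

theorem step (hS : Hyp S) [IsProper f] [SmoothOfRelativeDimension 1 f] (hAF : AFb f) [IsNoetherian Y]
    {d : ℕ} {c : Fin (d + 1) → K0Var.K Y} (hW : ∀ a : Fin (d + 1), WF f S.X₁ a (c a))
    (B : Fin (d + 1) → Over Y) [∀ b, LocallyOfFiniteType (B b).hom] [∀ b, QuasiCompact (B b).hom]
    (D : ∀ b : Fin (d + 1), HilbD.Obj f b (B b)) (hD : ∀ b : Fin (d + 1), HilbD.IsUniversal f b (B b) (D b)) :
    WF f S.X₂ d (∑ a : Fin (d + 1), c a * K0Var.cl (B a.rev).hom * K0Var.L Y ^ (a : ℕ)) := by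
  choose J hJ M ξ hP hcl hun using hW
  have key := fun (a : Fin (d + 1)) (j : J a) => stageB hS hAF (hP a j) (B a.rev) (D a.rev)
  choose ι hι N K m₁ m₂ hP' hcl' hty' hun' using key
  have hadd : ∀ a : Fin (d + 1), (a : ℕ) + (a.rev : ℕ) = d := by
    intro a
    rw [Fin.val_rev]
    omega
  refine ⟨Σ a, Σ j : J a, ι a j, inferInstance, fun p => N p.1 p.2.1 p.2.2, fun p => K p.1 p.2.1 p.2.2, ?_, ?_, ?_⟩
  · rintro ⟨a, j, i⟩
    have h1 := hP' a j i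
    rwa [hadd] at h1
  · rw [Fintype.sum_sigma]
    refine Finset.sum_congr rfl fun a _ => ?_
    rw [Fintype.sum_sigma, ← hcl a, Finset.sum_mul, Finset.sum_mul]
    refine Finset.sum_congr rfl fun j _ => ?_
    exact hcl' a j
  · intro F _ y κ
    have i4 : IsAffine (Over.mk y : Over Y).left := inferInstanceAs (IsAffine (Spec (.of F)))
    have i5 : Subsingleton (Over.mk y : Over Y).left := inferInstanceAs (Subsingleton (Spec (.of F)))
    have i6 : Nonempty (Over.mk y : Over Y).left := inferInstanceAs (Nonempty (Spec (.of F)))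
    have hR : IsField Γ((Over.mk y : Over Y).left, ⊤) :=
      MulEquiv.isField (Field.toIsField F) (Scheme.ΓSpecIso (.of F)).commRingCatIsoToRingEquiv.toMulEquiv
    obtain ⟨a', b', ξ', D', hab, ht⟩ := TypeEx2.exists_type hS hAF hR κ
    let a : Fin (d + 1) := ⟨a', by omega⟩
    have hrev : (a.rev : ℕ) = b' := by
      have h1 := hadd a
      change a' + _ = d at h1
      omega
    obtain ⟨⟨j, μ₁⟩, hμ₁, hju⟩ := hun a F y ξ'
    obtain ⟨μ₂, hμ₂, hμ₂u⟩ := hD a.rev (Over.mk y) ⟨D'.1, by rw [hrev]; exact D'.2⟩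
    have ht' : IsType f S (Over.mk y) κ.1 (FGA.quotPull f S.X₁ μ₁ (ξ a j)) (HilbD.pull f μ₂ (D a.rev).1) := by
      rw [hμ₂]
      have h1 : FGA.quotPull f S.X₁ μ₁ (ξ a j) = ξ'.1 := hμ₁
      rw [h1]
      exact ht
    obtain ⟨⟨i, p⟩, ⟨hp1, hp2, hp3⟩, hpu⟩ := hun' a j F y μ₁ μ₂ κ.1 κ.2.1 ht'
    refine ⟨⟨⟨a, j, i⟩, p⟩, hp3, ?_⟩
    rintro ⟨⟨a₂, j₂, i₂⟩, p'⟩ h
    have h' : FGA.quotPull f S.X₂ p' (K a₂ j₂ i₂) = κ.1 := h
    have h1 := hty' a₂ j₂ i₂ (Over.mk y) i4 p'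
    rw [h'] at h1
    obtain ⟨e1, e2⟩ := TypeEx2.isType_unique hS h1 ht
    have hdeg : (a₂.rev : ℕ) = b' := by
      have h2 := HilbPull.isFinLocFreeOfDeg_pull f (p' ≫ m₂ a₂ j₂ i₂) (D a₂.rev).2
      rw [e2] at h2
      obtain ⟨t⟩ := i6
      exact (h2.2 t).symm.trans (D'.2.2 t)
    have ha : a₂ = a := by
      apply Fin.ext
      have h1 := hadd a₂
      have h2 := hadd a
      omega
    subst ha
    have h3 := hju ⟨j₂, p' ≫ m₁ a j₂ i₂⟩ e1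
    have hj : j₂ = j := congrArg Sigma.fst h3
    subst hj
    have h4 : p' ≫ m₁ a j₂ i₂ = μ₁ := eq_of_heq (Sigma.mk.inj_iff.1 h3).2
    have h5 : p' ≫ m₂ a j₂ i₂ = μ₂ := hμ₂u _ e2
    have h6 := hpu ⟨i₂, p'⟩ ⟨h4, h5, h'⟩
    have hi : i₂ = i := congrArg Sigma.fst h6
    subst hi
    have h7 : p' = p := eq_of_heq (Sigma.mk.inj_iff.1 h6).2
    rw [h7]

end K928.StageB
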