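import Groth.Agent.RelQuot.K928.PointBij

/-!
# Stratifications

`exists_partition`: on a scheme with Noetherian space a property of immersions that holds for small opens of
integral closed subschemes holds for the pieces of a finite partition; `ptBij_of_partition`: partitions are
bijective on points with values in fields.
-/

set_option autoImplicit false
universe u

open CategoryTheory CategoryTheory.Limits AlgebraicGeometry TopologicalSpace

namespace K928.Strat

open K928.NoethInd K928.PointBij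

theorem exists_partition {T₀ : Scheme.{u}} [NoetherianSpace T₀] (P : ∀ ⦃U : Scheme.{u}⦄, (U ⟶ T₀) → Prop)
    (hP : ∀ ⦃Z : Scheme.{u}⦄ (i : Z ⟶ T₀) [IsClosedImmersion i] [IsIntegral Z] (O : Z.Opens), (O : Set Z).Nonempty →
      ∃ (U : Scheme.{u}) (j : U ⟶ Z), IsOpenImmersion j ∧ Set.range j ⊆ O ∧ Nonempty U ∧ P (j ≫ i)) :
    ∃ (ι : Type) (_ : Fintype ι) (U : ι → Scheme.{u}) (u : ∀ i, U i ⟶ T₀),
      (∀ i, IsImmersion (u i)) ∧ (∀ i, P (u i)) ∧ ∀ z, ∃! i, z ∈ Set.range (u i) := by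
  suffices key : ∀ C : Closeds T₀, ∃ (ι : Type) (_ : Fintype ι) (U : ι → Scheme.{u}) (u : ∀ i, U i ⟶ T₀),
      (∀ i, IsImmersion (u i)) ∧ (∀ i, P (u i)) ∧ (∀ i, Set.range (u i) ⊆ C) ∧
        ∀ z ∈ C, ∃! i, z ∈ Set.range (u i) by
    obtain ⟨ι, hι, U, u, h1, h2, -, h3⟩ := key ⊤
    exact ⟨ι, hι, U, u, h1, h2, fun z => h3 z trivial⟩
  intro C
  induction C using WellFoundedLT.induction with
  | ind C ih =>
  by_cases hC : (C : Set T₀).Nonempty
  swap
  · refine ⟨Empty, inferInstance, fun i => i.elim, fun i => i.elim, fun i => i.elim, fun i => i.elim,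
      fun i => i.elim, fun z hz => absurd ⟨z, hz⟩ hC⟩
  obtain ⟨Z, i, hi, hZ, hr⟩ := exists_reduced_closed (C : Set T₀) C.isClosed
  have hnoeth : NoetherianSpace Z := i.isClosedEmbedding.isEmbedding.isInducing.noetherianSpace
  obtain ⟨z⟩ : Nonempty Z := by
    obtain ⟨c, hc⟩ := hC
    rw [← hr] at hc
    obtain ⟨z, -⟩ := hc
    exact ⟨z⟩
  · obtain ⟨o, ho, hone, hosub⟩ := NoetherianSpace.exists_isOpen_nonempty_subset_irreducibleComponent
      (irreducibleComponent z) (irreducibleComponent_mem_irreducibleComponents z)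
    obtain ⟨Z₁, i₁, h1, h2, h3⟩ := exists_reduced_closed (irreducibleComponent z)
      isClosed_irreducibleComponent
    have hirr : IsIrreducible (Set.range i₁) := by
      rw [h3]; exact isIrreducible_irreducibleComponent
    have hirr2 : IrreducibleSpace Z₁ :=
      (i₁.isClosedEmbedding.isEmbedding.toHomeomorph).irreducibleSpace_iff.2
        (isIrreducible_iff_irreducibleSpace.1 hirr)
    have hint : IsIntegral Z₁ := isIntegral_of_irreducibleSpace_of_isReduced Z₁
    have hne : (((i₁ ⁻¹ᵁ ⟨o, ho⟩ : Z₁.Opens)) : Set Z₁).Nonempty := by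
      obtain ⟨x, hx⟩ := hone
      have : x ∈ Set.range i₁ := by rw [h3]; exact hosub hx
      obtain ⟨y, rfl⟩ := this
      exact ⟨y, hx⟩
    obtain ⟨U', j, hj, hUo, hUne', hPU⟩ := hP (i₁ ≫ i) (i₁ ⁻¹ᵁ ⟨o, ho⟩) hne
    let U : Z₁.Opens := ⟨Set.range j, j.isOpenEmbedding.isOpen_range⟩
    have hUne : (U : Set Z₁).Nonempty := by
      obtain ⟨w⟩ := hUne'
      exact ⟨j w, w, rfl⟩
    -- the image of `U` in `Z` is open
    obtain ⟨O, hO, hOU⟩ := (i₁.isClosedEmbedding.isInducing.isOpen_iff).mp U.isOpen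
    have himg : i₁ '' (U : Set Z₁) = o ∩ O := by
      ext w
      constructor
      · rintro ⟨x, hx, rfl⟩
        refine ⟨hUo hx, ?_⟩
        have : x ∈ i₁ ⁻¹' O := by rw [hOU]; exact hx
        exact this
      · rintro ⟨hw1, hw2⟩
        have hw3 : w ∈ Set.range i₁ := by rw [h3]; exact hosub hw1
        obtain ⟨x, rfl⟩ := hw3
        refine ⟨x, ?_, rfl⟩
        have : x ∈ i₁ ⁻¹' O := hw2
        rw [hOU] at this
        exact this
    have hopen : IsOpen (i₁ '' (U : Set Z₁)) := by rw [himg]; exact ho.inter hO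
    have hru : Set.range (j ≫ i₁ ≫ i) = i '' (i₁ '' (U : Set Z₁)) := by
      ext w
      constructor
      · rintro ⟨x, rfl⟩
        rw [Scheme.Hom.comp_apply, Scheme.Hom.comp_apply]
        exact ⟨_, ⟨_, ⟨x, rfl⟩, rfl⟩, rfl⟩
      · rintro ⟨_, ⟨_, ⟨x, rfl⟩, rfl⟩, rfl⟩
        exact ⟨x, by rw [Scheme.Hom.comp_apply, Scheme.Hom.comp_apply]⟩
    let C' : Closeds T₀ := ⟨i '' (i₁ '' (U : Set Z₁))ᶜ, i.isClosedEmbedding.isClosedMap _ hopen.isClosed_compl⟩
    have hC'mem : ∀ w, w ∈ C' ↔ w ∈ C ∧ w ∉ Set.range (j ≫ i₁ ≫ i) := by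
      intro w
      rw [hru]
      constructor
      · rintro ⟨x, hx, rfl⟩
        refine ⟨?_, fun ⟨x', hx', h⟩ => hx ?_⟩
        · have h9 : i x ∈ (C : Set T₀) := by rw [← hr]; exact ⟨x, rfl⟩
          exact h9
        · rw [i.isClosedEmbedding.injective h] at hx'
          exact hx'
      · rintro ⟨h1, h2⟩
        have h1' : w ∈ (C : Set T₀) := h1
        rw [← hr] at h1'
        obtain ⟨x, rfl⟩ := h1'
        exact ⟨x, fun hx => h2 ⟨x, hx, rfl⟩, rfl⟩
    have hlt : C' < C := by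
      rw [lt_iff_le_and_ne]
      refine ⟨fun w hw => ((hC'mem w).1 hw).1, fun e => ?_⟩
      obtain ⟨x, hx⟩ := hUne
      have h4 : i (i₁ x) ∈ C := by
        have h9 : i (i₁ x) ∈ (C : Set T₀) := by rw [← hr]; exact ⟨_, rfl⟩
        exact h9
      rw [← e, hC'mem] at h4
      apply h4.2
      rw [hru]
      exact ⟨_, ⟨_, hx, rfl⟩, rfl⟩
    obtain ⟨ι, hι, V, v, k1, k2, k3, k4⟩ := ih C' hlt
    refine ⟨Option ι, inferInstance, fun o => o.elim U' V, fun o => match o with
      | none => j ≫ i₁ ≫ i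
      | some j => v j, ?_, ?_, ?_, ?_⟩
    · rintro (_ | j)
      · change IsImmersion (j ≫ i₁ ≫ i)
        infer_instance
      · exact k1 j
    · rintro (_ | j)
      · exact hPU
      · exact k2 j
    · rintro (_ | j)
      · change Set.range (j ≫ i₁ ≫ i) ⊆ _
        rw [hru, ← hr]
        exact Set.image_subset_range _ _
      · exact (k3 j).trans fun w hw => ((hC'mem w).1 hw).1
    · intro w hw
      by_cases hwU : w ∈ Set.range (j ≫ i₁ ≫ i)
      · refine ⟨none, hwU, ?_⟩
        rintro (_ | j) hj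
        · rfl
        · exact absurd hwU ((hC'mem w).1 (k3 j hj)).2
      · obtain ⟨j, hj, hju⟩ := k4 w ((hC'mem w).2 ⟨hw, hwU⟩)
        refine ⟨some j, hj, ?_⟩
        rintro (_ | j') hj'
        · exact absurd hj' hwU
        · exact congrArg some (hju j' hj')

/-- points with values in fields lift through immersions -/
theorem exists_lift {U T₀ : Scheme.{u}} (m : U ⟶ T₀) [IsImmersion m] {K : Type u} [Field K]
    (x : Spec (.of K) ⟶ T₀) (h : ∀ p, x p ∈ Set.range m) : ∃ y : Spec (.of K) ⟶ U, y ≫ m = x := by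
  have h1 : IsImmersion (pullback.snd m x) := inferInstance
  have h2 : Function.Surjective (pullback.snd m x) := by
    rw [← Set.range_eq_univ, Scheme.Pullback.range_snd, Set.eq_univ_iff_forall]
    exact h
  have h3 : IsClosedImmersion (pullback.snd m x) := IsClosedImmersion.of_isPreimmersion _ (by
    rw [Set.range_eq_univ.2 h2]; exact isClosed_univ)
  have h4 : Surjective (pullback.snd m x) := ⟨h2⟩
  have h5 : IsIso (pullback.snd m x) := isIso_of_isClosedImmersion_of_surjective _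
  refine ⟨inv (pullback.snd m x) ≫ pullback.fst m x, ?_⟩
  rw [Category.assoc, pullback.condition, IsIso.inv_hom_id_assoc]

theorem ptBij_of_partition {T₀ : Scheme.{u}} {ι : Type} {U : ι → Scheme.{u}} (m : ∀ i, U i ⟶ T₀)
    [∀ i, IsImmersion (m i)] (h : ∀ z, ∃! i, z ∈ Set.range (m i)) : PtBij m := by
  intro K _ x
  obtain ⟨p⟩ : Nonempty (Spec (.of K) : Scheme.{u}) := inferInstance
  obtain ⟨i, hi, hiu⟩ := h (x p)
  obtain ⟨y, hy⟩ := exists_lift (m i) x (fun q => by
    rw [Subsingleton.elim q p]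
    exact hi)
  refine ⟨⟨i, y⟩, hy, ?_⟩
  rintro ⟨j, y'⟩ hy'
  have hj : j = i := hiu j (by
    rw [← hy']
    exact ⟨y' p, (Scheme.Hom.comp_apply _ _ _).symm⟩)
  subst hj
  congr 1
  rw [← cancel_mono (m j)]
  exact hy'.trans hy.symm

end K928.Strat
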