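import Groth.Prelude.Def_SymProd
import Mathlib.GroupTheory.Perm.Finite
import Mathlib.AlgebraicGeometry.Limits
import Mathlib.AlgebraicGeometry.Restrict

/-!
# Fibre powers of a disjoint union

For `f : X ⟶ Y` and `f' : X' ⟶ Y`, the fibre power `(X ⊔ X')^n` over `Y` is covered by the open
pieces `kap e : X^i ×_Y X'^j ⟶ (X ⊔ X')^n` for `e : Fin i ⊕ Fin j ≃ Fin n`, and two such
pieces are disjoint unless `i = i'` and `e`, `e'` differ by an element of `S_i × S_j`.
-/

set_option autoImplicit false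
universe u

open CategoryTheory CategoryTheory.Limits AlgebraicGeometry

namespace K928.SymCoprod

variable {X X' Y : Scheme.{u}} (f : X ⟶ Y) (f' : X' ⟶ Y)

/-- The fibre product over `Y` of the fibre powers `X^i` and `X'^j`. -/
noncomputable abbrev W (i j : ℕ) : Scheme.{u} :=
  pullback (WidePullback.base (objs := fun _ : Fin i => X) (fun _ => f))
    (WidePullback.base (objs := fun _ : Fin j => X') (fun _ => f'))

/-- The coordinates of `W i j`, with values in `X ⊔ X'`. -/
noncomputable def coord (i j : ℕ) : Fin i ⊕ Fin j → (W f f' i j ⟶ X ⨿ X')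
  | .inl l => pullback.fst _ _ ≫ WidePullback.π _ l ≫ coprod.inl
  | .inr r => pullback.snd _ _ ≫ WidePullback.π _ r ≫ coprod.inr

/-- the base morphism -/
noncomputable def wbase (i j : ℕ) : W f f' i j ⟶ Y := pullback.fst _ _ ≫ WidePullback.base _

theorem coord_desc (i j : ℕ) (a : Fin i ⊕ Fin j) :
    coord f f' i j a ≫ coprod.desc f f' = wbase f f' i j := by
  rcases a with l | r
  · rw [coord, wbase, Category.assoc, Category.assoc, coprod.inl_desc, WidePullback.π_arrow]
  · rw [coord, wbase, Category.assoc, Category.assoc, coprod.inr_desc, WidePullback.π_arrow,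
      pullback.condition]

variable {f f'}

theorem W_hom_ext {i j : ℕ} {T : Scheme.{u}} {a b : T ⟶ W f f' i j}
    (h : ∀ x, a ≫ coord f f' i j x = b ≫ coord f f' i j x)
    (hb : a ≫ wbase f f' i j = b ≫ wbase f f' i j) : a = b := by
  apply pullback.hom_ext
  · apply WidePullback.hom_ext
    · intro l
      rw [← cancel_mono (coprod.inl : X ⟶ X ⨿ X')]
      simpa [coord] using h (.inl l)
    · simpa [wbase] using hb
  · apply WidePullback.hom_ext
    · intro l
      rw [← cancel_mono (coprod.inr : X' ⟶ X ⨿ X')]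
      simpa [coord] using h (.inr l)
    · rw [Category.assoc, Category.assoc, ← pullback.condition]
      simpa [wbase] using hb

variable (f f')

/-- the open piece of `(X ⊔ X')^n` attached to `e : Fin i ⊕ Fin j ≃ Fin n`. -/
noncomputable def kap {i j n : ℕ} (e : Fin i ⊕ Fin j ≃ Fin n) :
    W f f' i j ⟶ SymProd.fibPow (coprod.desc f f') n :=
  WidePullback.lift (wbase f f' i j) (fun a => coord f f' i j (e.symm a))
    (fun a => coord_desc f f' i j _)

@[reassoc]
theorem kap_π {i j n : ℕ} (e : Fin i ⊕ Fin j ≃ Fin n) (a : Fin n) :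
    kap f f' e ≫ WidePullback.π _ a = coord f f' i j (e.symm a) :=
  WidePullback.lift_π _ _ _ _ _

@[reassoc]
theorem kap_base {i j n : ℕ} (e : Fin i ⊕ Fin j ≃ Fin n) :
    kap f f' e ≫ WidePullback.base _ = wbase f f' i j :=
  WidePullback.lift_base _ _ _ _

theorem kap_permHom {i j n : ℕ} (e : Fin i ⊕ Fin j ≃ Fin n) (σ : Equiv.Perm (Fin n)) :
    kap f f' e ≫ SymProd.permHom _ n σ = kap f f' (e.trans σ) := by
  apply WidePullback.hom_ext
  · intro a
    rw [Category.assoc, SymProd.permHom_π, kap_π, kap_π]; rfl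
  · rw [Category.assoc, SymProd.permHom_base, kap_base, kap_base]

/-- the action of `S_i × S_j` on `W i j`. -/
noncomputable def permW {i j : ℕ} (σ : Equiv.Perm (Fin i)) (τ : Equiv.Perm (Fin j)) :
    W f f' i j ⟶ W f f' i j :=
  pullback.map _ _ _ _ (SymProd.permHom f i σ) (SymProd.permHom f' j τ) (𝟙 Y)
    (by rw [SymProd.permHom_base, Category.comp_id]) (by rw [SymProd.permHom_base, Category.comp_id])

@[reassoc]
theorem permW_fst {i j : ℕ} (σ : Equiv.Perm (Fin i)) (τ : Equiv.Perm (Fin j)) :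
    permW f f' σ τ ≫ pullback.fst _ _ = pullback.fst _ _ ≫ SymProd.permHom f i σ :=
  pullback.lift_fst _ _ _

@[reassoc]
theorem permW_snd {i j : ℕ} (σ : Equiv.Perm (Fin i)) (τ : Equiv.Perm (Fin j)) :
    permW f f' σ τ ≫ pullback.snd _ _ = pullback.snd _ _ ≫ SymProd.permHom f' j τ :=
  pullback.lift_snd _ _ _

theorem permW_wbase {i j : ℕ} (σ : Equiv.Perm (Fin i)) (τ : Equiv.Perm (Fin j)) :
    permW f f' σ τ ≫ wbase f f' i j = wbase f f' i j := by
  rw [wbase, permW_fst_assoc, SymProd.permHom_base]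

theorem permW_coord {i j : ℕ} (σ : Equiv.Perm (Fin i)) (τ : Equiv.Perm (Fin j))
    (x : Fin i ⊕ Fin j) :
    permW f f' σ τ ≫ coord f f' i j x = coord f f' i j ((Equiv.sumCongr σ τ).symm x) := by
  rcases x with l | r
  · change permW f f' σ τ ≫ pullback.fst _ _ ≫ WidePullback.π _ l ≫ coprod.inl = _
    rw [permW_fst_assoc, SymProd.permHom_π_assoc]
    rfl
  · change permW f f' σ τ ≫ pullback.snd _ _ ≫ WidePullback.π _ r ≫ coprod.inr = _
    rw [permW_snd_assoc, SymProd.permHom_π_assoc]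
    rfl

theorem permW_kap {i j n : ℕ} (σ : Equiv.Perm (Fin i)) (τ : Equiv.Perm (Fin j))
    (e : Fin i ⊕ Fin j ≃ Fin n) :
    permW f f' σ τ ≫ kap f f' e = kap f f' ((Equiv.sumCongr σ τ).trans e) := by
  apply WidePullback.hom_ext
  · intro a
    rw [Category.assoc, kap_π, kap_π, permW_coord]; rfl
  · rw [Category.assoc, kap_base, kap_base, permW_wbase]

/-! ### The pieces are open -/

/-- the side of `X ⊔ X'` -/
noncomputable def side {i j : ℕ} : Fin i ⊕ Fin j → (X ⨿ X' : Scheme.{u}).Opens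
  | .inl _ => (coprod.inl : X ⟶ X ⨿ X').opensRange
  | .inr _ => (coprod.inr : X' ⟶ X ⨿ X').opensRange

/-- the open subscheme of `(X ⊔ X')^n` attached to `e`. -/
noncomputable def V {i j n : ℕ} (e : Fin i ⊕ Fin j ≃ Fin n) :
    (SymProd.fibPow (coprod.desc f f') n : Scheme.{u}).Opens :=
  ⨅ a : Fin n, (WidePullback.π (fun _ : Fin n => coprod.desc f f') a) ⁻¹ᵁ
    side (X := X) (X' := X') (e.symm a)

theorem mem_V {i j n : ℕ} (e : Fin i ⊕ Fin j ≃ Fin n)
    (z : (SymProd.fibPow (coprod.desc f f') n : Scheme.{u})) :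
    z ∈ V f f' e ↔ ∀ a : Fin n, (WidePullback.π (fun _ : Fin n => coprod.desc f f') a) z ∈
      side (X := X) (X' := X') (e.symm a) := by
  rw [V, ← SetLike.mem_coe, TopologicalSpace.Opens.coe_iInf, Set.mem_iInter]
  rfl

theorem V_ι_π_mem {i j n : ℕ} (e : Fin i ⊕ Fin j ≃ Fin n) (x : Fin i ⊕ Fin j) :
    Set.range ((V f f' e).ι ≫ WidePullback.π (fun _ : Fin n => coprod.desc f f') (e x)) ⊆
      side (X := X) (X' := X') x := by
  rintro _ ⟨z, rfl⟩
  have := (mem_V f f' e z.1).1 z.2 (e x)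
  rw [Equiv.symm_apply_apply] at this
  exact this

theorem coord_mem {i j : ℕ} (x : Fin i ⊕ Fin j) (w : W f f' i j) :
    coord f f' i j x w ∈ side (X := X) (X' := X') x := by
  rcases x with l | r
  · refine ⟨(pullback.fst (WidePullback.base (objs := fun _ : Fin i => X) (fun _ => f))
      (WidePullback.base (objs := fun _ : Fin j => X') (fun _ => f')) ≫
      WidePullback.π (objs := fun _ : Fin i => X) (fun _ => f) l) w, ?_⟩
    rw [← Scheme.Hom.comp_apply, Category.assoc]; rfl
  · refine ⟨(pullback.snd (WidePullback.base (objs := fun _ : Fin i => X) (fun _ => f))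
      (WidePullback.base (objs := fun _ : Fin j => X') (fun _ => f')) ≫
      WidePullback.π (objs := fun _ : Fin j => X') (fun _ => f') r) w, ?_⟩
    rw [← Scheme.Hom.comp_apply, Category.assoc]; rfl

/-- The map `V e ⟶ X^i` -/
noncomputable def toL {i j n : ℕ} (e : Fin i ⊕ Fin j ≃ Fin n) :
    (V f f' e).toScheme ⟶ SymProd.fibPow f i :=
  WidePullback.lift ((V f f' e).ι ≫ WidePullback.base _)
    (fun l => IsOpenImmersion.lift (coprod.inl : X ⟶ X ⨿ X')
      ((V f f' e).ι ≫ WidePullback.π _ (e (.inl l))) (V_ι_π_mem f f' e (.inl l)))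
    (fun l => by
      have h1 := IsOpenImmersion.lift_fac (coprod.inl : X ⟶ X ⨿ X')
        ((V f f' e).ι ≫ WidePullback.π _ (e (.inl l))) (V_ι_π_mem f f' e (.inl l))
      have h2 := congrArg (fun t => t ≫ coprod.desc f f') h1
      simp only [Category.assoc, coprod.inl_desc, WidePullback.π_arrow] at h2
      exact h2)

/-- The map `V e ⟶ X'^j` -/
noncomputable def toR {i j n : ℕ} (e : Fin i ⊕ Fin j ≃ Fin n) :
    (V f f' e).toScheme ⟶ SymProd.fibPow f' j :=
  WidePullback.lift ((V f f' e).ι ≫ WidePullback.base _)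
    (fun l => IsOpenImmersion.lift (coprod.inr : X' ⟶ X ⨿ X')
      ((V f f' e).ι ≫ WidePullback.π _ (e (.inr l))) (V_ι_π_mem f f' e (.inr l)))
    (fun l => by
      have h1 := IsOpenImmersion.lift_fac (coprod.inr : X' ⟶ X ⨿ X')
        ((V f f' e).ι ≫ WidePullback.π _ (e (.inr l))) (V_ι_π_mem f f' e (.inr l))
      have h2 := congrArg (fun t => t ≫ coprod.desc f f') h1
      simp only [Category.assoc, coprod.inr_desc, WidePullback.π_arrow] at h2
      exact h2)

/-- The map `V e ⟶ W i j` -/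
noncomputable def toW {i j n : ℕ} (e : Fin i ⊕ Fin j ≃ Fin n) :
    (V f f' e).toScheme ⟶ W f f' i j :=
  pullback.lift (toL f f' e) (toR f f' e) (by
    rw [toL, toR, WidePullback.lift_base, WidePullback.lift_base])

theorem toW_coord {i j n : ℕ} (e : Fin i ⊕ Fin j ≃ Fin n) (x : Fin i ⊕ Fin j) :
    toW f f' e ≫ coord f f' i j x = (V f f' e).ι ≫ WidePullback.π _ (e x) := by
  rcases x with l | r
  · change toW f f' e ≫ pullback.fst _ _ ≫ WidePullback.π _ l ≫ coprod.inl = _
    rw [toW, pullback.lift_fst_assoc, toL, WidePullback.lift_π_assoc, IsOpenImmersion.lift_fac]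
  · change toW f f' e ≫ pullback.snd _ _ ≫ WidePullback.π _ r ≫ coprod.inr = _
    rw [toW, pullback.lift_snd_assoc, toR, WidePullback.lift_π_assoc, IsOpenImmersion.lift_fac]

theorem toW_wbase {i j n : ℕ} (e : Fin i ⊕ Fin j ≃ Fin n) :
    toW f f' e ≫ wbase f f' i j = (V f f' e).ι ≫ WidePullback.base _ := by
  rw [toW, wbase, pullback.lift_fst_assoc, toL, WidePullback.lift_base]

theorem toW_kap {i j n : ℕ} (e : Fin i ⊕ Fin j ≃ Fin n) :
    toW f f' e ≫ kap f f' e = (V f f' e).ι := by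
  apply WidePullback.hom_ext
  · intro a
    rw [Category.assoc, kap_π, toW_coord, Equiv.apply_symm_apply]
  · rw [Category.assoc, kap_base, toW_wbase]

theorem kap_mem {i j n : ℕ} (e : Fin i ⊕ Fin j ≃ Fin n) (w : W f f' i j) :
    kap f f' e w ∈ V f f' e := by
  rw [mem_V]
  intro a
  rw [← Scheme.Hom.comp_apply, kap_π]
  exact coord_mem f f' _ w

theorem range_kap_subset {i j n : ℕ} (e : Fin i ⊕ Fin j ≃ Fin n) :
    Set.range (kap f f' e) ⊆ Set.range (V f f' e).ι := by
  rw [Scheme.Opens.range_ι]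
  rintro _ ⟨w, rfl⟩
  exact kap_mem f f' e w

/-- `W i j` is isomorphic to the open `V e`. -/
noncomputable def isoV {i j n : ℕ} (e : Fin i ⊕ Fin j ≃ Fin n) :
    W f f' i j ≅ (V f f' e).toScheme where
  hom := IsOpenImmersion.lift (V f f' e).ι (kap f f' e) (range_kap_subset f f' e)
  inv := toW f f' e
  hom_inv_id := by
    apply W_hom_ext
    · intro x
      rw [Category.assoc, toW_coord, IsOpenImmersion.lift_fac_assoc, kap_π,
        Equiv.symm_apply_apply, Category.id_comp]
    · rw [Category.assoc, toW_wbase, IsOpenImmersion.lift_fac_assoc, kap_base, Category.id_comp]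
  inv_hom_id := by
    rw [← cancel_mono (V f f' e).ι, Category.assoc, IsOpenImmersion.lift_fac, toW_kap,
      Category.id_comp]

theorem kap_eq {i j n : ℕ} (e : Fin i ⊕ Fin j ≃ Fin n) :
    kap f f' e = (isoV f f' e).hom ≫ (V f f' e).ι :=
  (IsOpenImmersion.lift_fac _ _ _).symm

instance isOpenImmersion_kap {i j n : ℕ} (e : Fin i ⊕ Fin j ≃ Fin n) :
    IsOpenImmersion (kap f f' e) := by
  rw [kap_eq]; infer_instance

theorem range_kap {i j n : ℕ} (e : Fin i ⊕ Fin j ≃ Fin n) :
    Set.range (kap f f' e) = V f f' e := by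
  refine subset_antisymm (fun z hz => ?_) (fun z hz => ?_)
  · have := range_kap_subset f f' e hz
    rwa [Scheme.Opens.range_ι] at this
  · refine ⟨toW f f' e ⟨z, hz⟩, ?_⟩
    rw [← Scheme.Hom.comp_apply, toW_kap]
    rfl

/-! ### The pieces cover, and meet only if they differ by `S_i × S_j` -/

theorem mem_side_iff {i j : ℕ} (x : Fin i ⊕ Fin j) (z : (X ⨿ X' : Scheme.{u})) :
    z ∈ side (X := X) (X' := X') x ↔
      (z ∈ Set.range (coprod.inl : X ⟶ X ⨿ X') ↔ x.isLeft = true) := by
  have hc := isCompl_range_inl_inr X X'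
  have hr : z ∈ Set.range (coprod.inr : X' ⟶ X ⨿ X') ↔
      ¬ z ∈ Set.range (coprod.inl : X ⟶ X ⨿ X') := by
    rw [← Set.mem_compl_iff, hc.compl_eq]
  rcases x with l | r
  · change z ∈ Set.range (coprod.inl : X ⟶ X ⨿ X') ↔ _
    simp
  · change z ∈ Set.range (coprod.inr : X' ⟶ X ⨿ X') ↔ _
    rw [hr]
    simp

theorem exists_mem_range_kap {n : ℕ} (z : (SymProd.fibPow (coprod.desc f f') n : Scheme.{u})) :
    ∃ (i j : ℕ) (_ : i + j = n) (e : Fin i ⊕ Fin j ≃ Fin n), z ∈ Set.range (kap f f' e) := by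
  classical
  let P : Fin n → Prop := fun a => (WidePullback.π (fun _ : Fin n => coprod.desc f f') a) z ∈
    Set.range (coprod.inl : X ⟶ X ⨿ X')
  let e1 : {a // P a} ⊕ {a // ¬ P a} ≃ Fin n := Equiv.sumCompl P
  let eL : Fin (Fintype.card {a // P a}) ≃ {a // P a} := (Fintype.equivFin _).symm
  let eR : Fin (Fintype.card {a // ¬ P a}) ≃ {a // ¬ P a} := (Fintype.equivFin _).symm
  have hcard : Fintype.card {a // P a} + Fintype.card {a // ¬ P a} = n := by
    have := Fintype.card_congr e1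
    rwa [Fintype.card_sum, Fintype.card_fin] at this
  refine ⟨_, _, hcard, (Equiv.sumCongr eL eR).trans e1, ?_⟩
  rw [range_kap, SetLike.mem_coe, mem_V]
  intro a
  rw [mem_side_iff]
  obtain ⟨x, rfl⟩ := ((Equiv.sumCongr eL eR).trans e1).surjective a
  rw [Equiv.symm_apply_apply]
  rcases x with l | r
  · simp only [Sum.isLeft_inl, iff_true]
    exact (eL l).2
  · simp only [Sum.isLeft_inr, Bool.false_eq_true, iff_false]
    exact (eR r).2

theorem isLeft_eq_of_mem {i j i' j' n : ℕ} (e : Fin i ⊕ Fin j ≃ Fin n)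
    (e' : Fin i' ⊕ Fin j' ≃ Fin n) (z : (SymProd.fibPow (coprod.desc f f') n : Scheme.{u}))
    (h : z ∈ Set.range (kap f f' e)) (h' : z ∈ Set.range (kap f f' e')) (a : Fin n) :
    (e.symm a).isLeft = (e'.symm a).isLeft := by
  rw [range_kap, SetLike.mem_coe, mem_V] at h h'
  have h1 := (mem_side_iff _ _).1 (h a)
  have h2 := (mem_side_iff _ _).1 (h' a)
  rw [Bool.eq_iff_iff, ← h1, ← h2]

theorem exists_of_isLeft {i j n : ℕ} (e e' : Fin i ⊕ Fin j ≃ Fin n)
    (h : ∀ a, (e.symm a).isLeft = (e'.symm a).isLeft) :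
    ∃ (σ : Equiv.Perm (Fin i)) (τ : Equiv.Perm (Fin j)), e = (Equiv.sumCongr σ τ).trans e' := by
  have h1 : (e.trans e'.symm : Equiv.Perm (Fin i ⊕ Fin j)) ∈
      (Equiv.Perm.sumCongrHom (Fin i) (Fin j)).range := by
    apply Equiv.Perm.mem_sumCongrHom_range_of_perm_mapsTo_inl
    rintro _ ⟨l, rfl⟩
    have h2 := h (e (.inl l))
    rw [Equiv.symm_apply_apply, Sum.isLeft_inl] at h2
    obtain ⟨m, hm⟩ := Sum.isLeft_iff.1 h2.symm
    exact ⟨m, hm.symm⟩
  obtain ⟨⟨σ, τ⟩, hστ⟩ := h1
  refine ⟨σ, τ, ?_⟩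
  rw [Equiv.Perm.sumCongrHom_apply] at hστ
  change Equiv.sumCongr σ τ = _ at hστ
  rw [hστ, Equiv.trans_assoc, Equiv.symm_trans_self, Equiv.trans_refl]

theorem card_eq_of_isLeft {i j i' j' n : ℕ} (e : Fin i ⊕ Fin j ≃ Fin n)
    (e' : Fin i' ⊕ Fin j' ≃ Fin n) (h : ∀ a, (e.symm a).isLeft = (e'.symm a).isLeft) :
    i = i' := by
  classical
  have key : ∀ {i j : ℕ} (e : Fin i ⊕ Fin j ≃ Fin n),
      (Finset.univ.filter fun a : Fin n => (e.symm a).isLeft = true).card = i := by
    intro i j e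
    have h1 : (Finset.univ.filter fun a : Fin n => (e.symm a).isLeft = true) =
        (Finset.univ : Finset (Fin i)).map (Function.Embedding.inl.trans e.toEmbedding) := by
      ext a
      simp only [Finset.mem_filter, Finset.mem_univ, true_and, Finset.mem_map,
        Function.Embedding.trans_apply, Function.Embedding.inl_apply, Equiv.coe_toEmbedding]
      constructor
      · intro ha
        obtain ⟨l, hl⟩ := Sum.isLeft_iff.1 ha
        exact ⟨l, by rw [← hl, Equiv.apply_symm_apply]⟩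
      · rintro ⟨l, rfl⟩
        rw [Equiv.symm_apply_apply, Sum.isLeft_inl]
    rw [h1, Finset.card_map, Finset.card_univ, Fintype.card_fin]
  rw [← key e, ← key e']
  congr 1
  exact Finset.filter_congr (fun a _ => by rw [h a])

end K928.SymCoprod
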