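import Groth.Agent.RelQuot.K928.QuotTame
import Groth.Agent.RelQuot.K928.SymCoprod
import Groth.Agent.S2925

/-!
# The product of two symmetric powers as a categorical quotient

`X^i ×_Y X'^j ⟶ S_i ×_Y S'_j` is an epimorphism through which every `S_i × S_j`-invariant morphism
factors (in characteristic zero).
-/

set_option autoImplicit false
universe u

open CategoryTheory CategoryTheory.Limits AlgebraicGeometry

namespace K928.SymDescent

open K928.SymCoprod

section General

variable {X Y X' Y' : Scheme.{u}} {G : Type u} [Group G] [Finite G]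

/-- the base change of a group action. -/
noncomputable def actBC {ρ : G →* Aut X} {p : X ⟶ Y} (hρ : ∀ g, (ρ g).hom ≫ p = p)
    {b' : X' ⟶ X} {p' : X' ⟶ Y'} {b : Y' ⟶ Y} (sq : IsPullback b' p' p b) (g : G) : X' ⟶ X' :=
  sq.lift (b' ≫ (ρ g).hom) p' (by rw [Category.assoc, hρ, sq.w])

section
variable {ρ : G →* Aut X} {p : X ⟶ Y} (hρ : ∀ g, (ρ g).hom ≫ p = p)
    {b' : X' ⟶ X} {p' : X' ⟶ Y'} {b : Y' ⟶ Y} (sq : IsPullback b' p' p b)

omit [Finite G] in
theorem actBC_fst (g : G) : actBC hρ sq g ≫ b' = b' ≫ (ρ g).hom := sq.lift_fst _ _ _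

omit [Finite G] in
theorem actBC_snd (g : G) : actBC hρ sq g ≫ p' = p' := sq.lift_snd _ _ _

omit [Finite G] in
theorem actBC_one : actBC hρ sq 1 = 𝟙 _ := by
  apply sq.hom_ext
  · rw [actBC_fst, map_one]
    exact (Category.comp_id _).trans (Category.id_comp _).symm
  · rw [actBC_snd, Category.id_comp]

omit [Finite G] in
theorem actBC_mul (g h : G) : actBC hρ sq (g * h) = actBC hρ sq h ≫ actBC hρ sq g := by
  apply sq.hom_ext
  · rw [actBC_fst, Category.assoc, actBC_fst, ← Category.assoc, actBC_fst, Category.assoc, map_mul]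
    rfl
  · rw [actBC_snd, Category.assoc, actBC_snd, actBC_snd]

/-- the base change of a group action, as an action. -/
noncomputable def actHom : G →* Aut X' where
  toFun g :=
    { hom := actBC hρ sq g
      inv := actBC hρ sq g⁻¹
      hom_inv_id := by rw [← actBC_mul, inv_mul_cancel, actBC_one]
      inv_hom_id := by rw [← actBC_mul, mul_inv_cancel, actBC_one] }
  map_one' := Iso.ext (actBC_one hρ sq)
  map_mul' g h := Iso.ext (actBC_mul hρ sq g h)

end

/-- Descent along the base change of a quotient. -/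
theorem descent {ρ : G →* Aut X} {p : X ⟶ Y} (hp : SGA1.IsQuot ρ p)
    {b' : X' ⟶ X} {p' : X' ⟶ Y'} {b : Y' ⟶ Y} (sq : IsPullback b' p' p b)
    (hN : IsUnit ((Nat.card G : ℕ) : Γ(Y, ⊤))) {Z : Scheme.{u}} (h : X' ⟶ Z)
    (hh : ∀ (g : G) (s : X' ⟶ X'), s ≫ b' = b' ≫ (ρ g).hom → s ≫ p' = p' → s ≫ h = h) :
    ∃! h' : Y' ⟶ Z, p' ≫ h' = h := by
  have hq := K928.QuotTame.isQuot_baseChange hp sq (actHom hp.inv sq)
    (fun g => actBC_fst hp.inv sq g) (fun g => actBC_snd hp.inv sq g) hN
  exact Groth.Agent.S2925.result _ _ hq Z h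
    (fun g => hh g _ (actBC_fst hp.inv sq g) (actBC_snd hp.inv sq g))

theorem descent_hom_ext {ρ : G →* Aut X} {p : X ⟶ Y} (hp : SGA1.IsQuot ρ p)
    {b' : X' ⟶ X} {p' : X' ⟶ Y'} {b : Y' ⟶ Y} (sq : IsPullback b' p' p b)
    (hN : IsUnit ((Nat.card G : ℕ) : Γ(Y, ⊤))) {Z : Scheme.{u}} (h h' : Y' ⟶ Z)
    (hh : p' ≫ h = p' ≫ h') : h = h' := by
  have := descent hp sq hN (p' ≫ h) (fun g s _ h2 => by rw [← Category.assoc, h2])
  exact this.unique rfl hh.symm

end General

theorem isUnit_natCast {k : Type u} [Field k] [CharZero k] {S : Scheme.{u}}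
    (s : S ⟶ Spec (CommRingCat.of k)) {n : ℕ} (hn : n ≠ 0) : IsUnit ((n : ℕ) : Γ(S, ⊤)) := by
  let φ : k →+* Γ(S, ⊤) := (Scheme.ΓSpecIso (CommRingCat.of k)).inv ≫ s.appTop |>.hom
  have h1 : IsUnit ((n : ℕ) : k) := isUnit_iff_ne_zero.2 (Nat.cast_ne_zero.2 hn)
  have h2 := h1.map φ
  rwa [map_natCast] at h2

variable {X X' Y : Scheme.{u}} (f : X ⟶ Y) (f' : X' ⟶ Y) {i j : ℕ} {S S' : Scheme.{u}}
  {q : SymProd.fibPow f i ⟶ S} {g : S ⟶ Y} {q' : SymProd.fibPow f' j ⟶ S'} {g' : S' ⟶ Y}

/-- first stage -/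
noncomputable def p1 (hq : SymProd.IsSymProd f i q g) (S') (q' : SymProd.fibPow f' j ⟶ S') :
    W f f' i j ⟶ pullback g (WidePullback.base (objs := fun _ : Fin j => X') (fun _ => f')) :=
  pullback.lift (pullback.fst _ _ ≫ q) (pullback.snd _ _) (by
    rw [Category.assoc, hq.over, pullback.condition])

/-- second stage -/
noncomputable def p2 (hq' : SymProd.IsSymProd f' j q' g') :
    pullback g (WidePullback.base (objs := fun _ : Fin j => X') (fun _ => f')) ⟶ pullback g g' :=
  pullback.lift (pullback.fst _ _) (pullback.snd _ _ ≫ q') (by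
    rw [Category.assoc, hq'.over, pullback.condition])

theorem sq1 (hq : SymProd.IsSymProd f i q g) :
    IsPullback (pullback.fst _ _) (p1 f f' hq S' q') q
      (pullback.fst g (WidePullback.base (objs := fun _ : Fin j => X') (fun _ => f'))) := by
  refine IsPullback.of_bot ?_ ?_ (IsPullback.of_hasPullback g
    (WidePullback.base (objs := fun _ : Fin j => X') (fun _ => f')))
  · rw [p1, pullback.lift_snd, hq.over]
    exact IsPullback.of_hasPullback _ _
  · rw [p1, pullback.lift_fst]

theorem sq2 (hq' : SymProd.IsSymProd f' j q' g') :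
    IsPullback (pullback.snd g (WidePullback.base (objs := fun _ : Fin j => X') (fun _ => f')))
      (p2 f' hq') q' (pullback.snd g g') := by
  refine IsPullback.of_bot ?_ ?_ (IsPullback.of_hasPullback g g').flip
  · rw [p2, pullback.lift_fst, hq'.over]
    exact (IsPullback.of_hasPullback _ _).flip
  · rw [p2, pullback.lift_snd]

/-- The quotient map `X^i ×_Y X'^j ⟶ S_i ×_Y S'_j`. -/
noncomputable def qP (hq : SymProd.IsSymProd f i q g) (hq' : SymProd.IsSymProd f' j q' g') :
    W f f' i j ⟶ pullback g g' :=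
  p1 f f' hq S' q' ≫ p2 f' hq'

theorem qP_fst (hq : SymProd.IsSymProd f i q g) (hq' : SymProd.IsSymProd f' j q' g') :
    qP f f' hq hq' ≫ pullback.fst _ _ = pullback.fst _ _ ≫ q := by
  rw [qP, Category.assoc, p2, pullback.lift_fst, p1, pullback.lift_fst]

theorem qP_snd (hq : SymProd.IsSymProd f i q g) (hq' : SymProd.IsSymProd f' j q' g') :
    qP f f' hq hq' ≫ pullback.snd _ _ = pullback.snd _ _ ≫ q' := by
  rw [qP, Category.assoc, p2, pullback.lift_snd, p1, pullback.lift_snd_assoc]

theorem permW_qP (hq : SymProd.IsSymProd f i q g) (hq' : SymProd.IsSymProd f' j q' g')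
    (σ : Equiv.Perm (Fin i)) (τ : Equiv.Perm (Fin j)) :
    permW f f' σ τ ≫ qP f f' hq hq' = qP f f' hq hq' := by
  apply pullback.hom_ext
  · rw [Category.assoc, qP_fst, permW_fst_assoc]
    congr 1
    exact hq.isQuot.inv ⟨σ⟩
  · rw [Category.assoc, qP_snd, permW_snd_assoc]
    congr 1
    exact hq'.isQuot.inv ⟨τ⟩

theorem card_ne_zero (n : ℕ) : Nat.card (ULift.{u} (Equiv.Perm (Fin n))) ≠ 0 :=
  Nat.card_ne_zero.2 ⟨⟨1⟩, inferInstance⟩

section
variable {k : Type u} [Field k] [CharZero k] (pY : Y ⟶ Spec (CommRingCat.of k))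
include pY

theorem qP_hom_ext (hq : SymProd.IsSymProd f i q g) (hq' : SymProd.IsSymProd f' j q' g')
    {Z : Scheme.{u}} (h h' : pullback g g' ⟶ Z) (hh : qP f f' hq hq' ≫ h = qP f f' hq hq' ≫ h') :
    h = h' := by
  refine descent_hom_ext hq'.isQuot (sq2 f' hq') (isUnit_natCast (g' ≫ pY) (card_ne_zero _)) h h' ?_
  refine descent_hom_ext hq.isQuot (sq1 (S' := S') (q' := q') f f' hq)
    (isUnit_natCast (g ≫ pY) (card_ne_zero _)) _ _ ?_
  rw [← Category.assoc, ← Category.assoc]
  exact hh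

theorem exists_desc (hq : SymProd.IsSymProd f i q g) (hq' : SymProd.IsSymProd f' j q' g')
    {Z : Scheme.{u}} (h : W f f' i j ⟶ Z) (hh : ∀ σ τ, permW f f' σ τ ≫ h = h) :
    ∃ h' : pullback g g' ⟶ Z, qP f f' hq hq' ≫ h' = h := by
  obtain ⟨h1, hh1, -⟩ := descent hq.isQuot (sq1 (S' := S') (q' := q') f f' hq)
    (isUnit_natCast (g ≫ pY) (card_ne_zero _)) h (fun σ s hs1 hs2 => by
      have hs : s = permW f f' σ.down 1 := by
        apply pullback.hom_ext
        · rw [hs1, permW_fst]; rfl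
        · have := congrArg (fun t => t ≫ pullback.snd _ _) hs2
          simp only [Category.assoc, p1, pullback.lift_snd] at this
          rw [this, permW_snd, SymProd.permHom_one, Category.comp_id]
      rw [hs, hh])
  obtain ⟨h2, hh2, -⟩ := descent hq'.isQuot (sq2 f' hq')
    (isUnit_natCast (g' ≫ pY) (card_ne_zero _)) h1 (fun τ s hs1 hs2 => by
      refine descent_hom_ext hq.isQuot (sq1 (S' := S') (q' := q') f f' hq)
        (isUnit_natCast (g ≫ pY) (card_ne_zero _)) _ _ ?_
      have hs : p1 f f' hq S' q' ≫ s = permW f f' 1 τ.down ≫ p1 f f' hq S' q' := by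
        apply pullback.hom_ext
        · have := congrArg (fun t => t ≫ pullback.fst _ _) hs2
          simp only [Category.assoc, p2, pullback.lift_fst] at this
          rw [Category.assoc, this, Category.assoc, p1, pullback.lift_fst, permW_fst_assoc,
            SymProd.permHom_one, Category.id_comp]
        · rw [Category.assoc, hs1, Category.assoc, p1, pullback.lift_snd, pullback.lift_snd_assoc,
            permW_snd]
          rfl
      rw [← Category.assoc, hs, Category.assoc, hh1, hh])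
  exact ⟨h2, by rw [qP, Category.assoc, hh2, hh1]⟩

end

end K928.SymDescent
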