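import Groth.Agent.RelQuot.K928.SymDescent
import Groth.Agent.RelQuot.K928.K0Sum
import Mathlib.AlgebraicGeometry.Gluing

/-!
# Symmetric powers of a disjoint union
-/

set_option autoImplicit false
universe u

open CategoryTheory CategoryTheory.Limits AlgebraicGeometry

namespace K928.SymGlue

open K928.SymCoprod K928.SymDescent

variable {k : Type u} [Field k] [CharZero k] {X X' Y : Scheme.{u}} (pY : Y ⟶ Spec (CommRingCat.of k))
  (f : X ⟶ Y) (f' : X' ⟶ Y)
  {Sy : ℕ → Scheme.{u}} {q : ∀ n, SymProd.fibPow f n ⟶ Sy n} {g : ∀ n, Sy n ⟶ Y}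
  (hS : ∀ n, SymProd.IsSymProd f n (q n) (g n))
  {Sy' : ℕ → Scheme.{u}} {q' : ∀ n, SymProd.fibPow f' n ⟶ Sy' n} {g' : ∀ n, Sy' n ⟶ Y}
  (hS' : ∀ n, SymProd.IsSymProd f' n (q' n) (g' n))
  (n : ℕ)

/-- index set of the pieces -/
abbrev Idx (n : ℕ) : Type := {p : ℕ × ℕ // p ∈ Finset.antidiagonal n}

/-- index set of the cover -/
abbrev CIdx (n : ℕ) : Type := Σ p : Idx n, (Fin p.1.1 ⊕ Fin p.1.2 ≃ Fin n)

/-- The cover of `(X ⊔ X')^n`. -/
noncomputable def cover : (SymProd.fibPow (coprod.desc f f') n : Scheme.{u}).OpenCover where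
  I₀ := CIdx n
  X c := W f f' c.1.1.1 c.1.1.2
  f c := kap f f' c.2
  mem₀ := by
    rw [Scheme.presieve₀_mem_precoverage_iff]
    refine ⟨fun z => ?_, fun c => inferInstance⟩
    obtain ⟨i, j, hij, e, w, hw⟩ := exists_mem_range_kap f f' z
    exact ⟨⟨⟨(i, j), Finset.mem_antidiagonal.2 hij⟩, e⟩, w, hw⟩

/-- The product of symmetric powers. -/
noncomputable abbrev P (g : ∀ n, Sy n ⟶ Y) (g' : ∀ n, Sy' n ⟶ Y) {n : ℕ} (p : Idx n) : Scheme.{u} :=
  pullback (g p.1.1) (g' p.1.2)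

/-- local pieces of the map to the disjoint union -/
noncomputable def loc (c : CIdx n) : W f f' c.1.1.1 c.1.1.2 ⟶ ∐ (fun p : Idx n => P g g' p) :=
  qP f f' (hS _) (hS' _) ≫ Sigma.ι (fun p : Idx n => P g g' p) c.1

theorem isInitial_hom_ext {A B : Scheme.{u}} [IsEmpty A] (a b : A ⟶ B) : a = b :=
  (isInitialOfIsEmpty (X := A)).hom_ext a b

theorem loc_compat (c c' : CIdx n) :
    pullback.fst (kap f f' c.2) (kap f f' c'.2) ≫ loc f f' hS hS' n c =
      pullback.snd (kap f f' c.2) (kap f f' c'.2) ≫ loc f f' hS hS' n c' := by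
  by_cases hne : Nonempty (pullback (kap f f' c.2) (kap f f' c'.2) : Scheme.{u})
  · obtain ⟨z⟩ := hne
    have hL : ∀ a, (c.2.symm a).isLeft = (c'.2.symm a).isLeft := by
      refine isLeft_eq_of_mem f f' c.2 c'.2
        ((pullback.fst (kap f f' c.2) (kap f f' c'.2) ≫ kap f f' c.2) z) ?_ ?_
      · exact ⟨(pullback.fst (kap f f' c.2) (kap f f' c'.2)) z, by rw [← Scheme.Hom.comp_apply]⟩
      · exact ⟨(pullback.snd (kap f f' c.2) (kap f f' c'.2)) z, by
          rw [← Scheme.Hom.comp_apply, pullback.condition]⟩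
    obtain ⟨⟨⟨i, j⟩, hij⟩, e⟩ := c
    obtain ⟨⟨⟨i', j'⟩, hij'⟩, e'⟩ := c'
    have hi : i = i' := card_eq_of_isLeft e e' hL
    subst hi
    have hj : j = j' := by
      have h1 := Finset.mem_antidiagonal.1 hij
      have h2 := Finset.mem_antidiagonal.1 hij'
      change i + j = n at h1
      change i + j' = n at h2
      omega
    subst hj
    obtain ⟨σ, τ, hστ⟩ := exists_of_isLeft e e' hL
    change pullback.fst (kap f f' e) (kap f f' e') ≫ _ = pullback.snd (kap f f' e) (kap f f' e') ≫ _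
    have h3 : pullback.fst (kap f f' e) (kap f f' e') ≫ permW f f' σ τ =
        pullback.snd (kap f f' e) (kap f f' e') := by
      rw [← cancel_mono (kap f f' e'), Category.assoc, permW_kap, ← hστ, pullback.condition]
    rw [← h3, Category.assoc]
    congr 1
    change qP f f' (hS i) (hS' j) ≫ _ = permW f f' σ τ ≫ qP f f' (hS i) (hS' j) ≫ _
    rw [← Category.assoc (permW f f' σ τ), permW_qP]
  · rw [not_nonempty_iff] at hne
    exact isInitial_hom_ext _ _

/-- The map `(X ⊔ X')^n ⟶ ⊔ S_i ×_Y S'_j`. -/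
noncomputable def Psi : SymProd.fibPow (coprod.desc f f') n ⟶ ∐ (fun p : Idx n => P g g' p) :=
  (cover f f' n).glueMorphisms (fun c => loc f f' hS hS' n c) (loc_compat f f' hS hS' n)

theorem kap_Psi (c : CIdx n) : kap f f' c.2 ≫ Psi f f' hS hS' n = loc f f' hS hS' n c :=
  (cover f f' n).ι_glueMorphisms (fun c => loc f f' hS hS' n c) (loc_compat f f' hS hS' n) c

theorem hom_ext_cover {Z : Scheme.{u}} {a b : SymProd.fibPow (coprod.desc f f') n ⟶ Z}
    (h : ∀ c : CIdx n, kap f f' c.2 ≫ a = kap f f' c.2 ≫ b) : a = b :=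
  (cover f f' n).hom_ext _ _ h

theorem permHom_Psi (σ : Equiv.Perm (Fin n)) :
    SymProd.permHom _ n σ ≫ Psi f f' hS hS' n = Psi f f' hS hS' n := by
  refine hom_ext_cover f f' n (fun c => ?_)
  rw [← Category.assoc, kap_permHom]
  have h1 := kap_Psi f f' hS hS' n ⟨c.1, c.2.trans σ⟩
  rw [kap_Psi]
  exact h1

variable {T : Scheme.{u}} {Q : SymProd.fibPow (coprod.desc f f') n ⟶ T} {h : T ⟶ Y}
  (hT : SymProd.IsSymProd (coprod.desc f f') n Q h)

theorem exists_equiv (p : Idx n) : Nonempty (Fin p.1.1 ⊕ Fin p.1.2 ≃ Fin n) :=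
  ⟨finSumFinEquiv.trans (finCongr (Finset.mem_antidiagonal.1 p.2))⟩

include pY hS hS' hT in
/-- `Sym^n(X ⊔ X') ≅ ⊔ S_i ×_Y S'_j`. -/
theorem exists_iso : ∃ e : T ≅ ∐ (fun p : Idx n => P g g' p),
    e.hom ≫ Sigma.desc (fun p : Idx n => pullback.fst (g p.1.1) (g' p.1.2) ≫ g p.1.1) = h := by
  classical
  -- the canonical element for each piece
  let e0 : ∀ p : Idx n, Fin p.1.1 ⊕ Fin p.1.2 ≃ Fin n := fun p => (exists_equiv n p).some
  have hφ : ∀ p : Idx n, ∃ φ : P g g' p ⟶ T,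
      qP f f' (hS _) (hS' _) ≫ φ = kap f f' (e0 p) ≫ Q := by
    intro p
    refine exists_desc f f' pY (hS _) (hS' _) _ (fun σ τ => ?_)
    rw [← Category.assoc, permW_kap]
    let ρ : Equiv.Perm (Fin n) := ((e0 p).symm.trans (Equiv.sumCongr σ τ)).trans (e0 p)
    have h1 : (Equiv.sumCongr σ τ).trans (e0 p) = (e0 p).trans ρ := by
      ext x; simp [ρ]
    rw [h1, ← kap_permHom, Category.assoc]
    congr 1
    exact hT.isQuot.inv ⟨ρ⟩
  choose φ hφ using hφ
  obtain ⟨ψ, hψ, -⟩ := Groth.Agent.S2925.result _ Q hT.isQuot _ (Psi f f' hS hS' n)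
    (fun σ => permHom_Psi f f' hS hS' n σ.down)
  have hQepi : ∀ {Z : Scheme.{u}} (a b : T ⟶ Z), Q ≫ a = Q ≫ b → a = b := fun {Z} a b hab =>
    (Groth.Agent.S2925.result _ Q hT.isQuot _ (Q ≫ a) (fun σ => by
      rw [← Category.assoc]; congr 1; exact hT.isQuot.inv σ)).unique rfl hab.symm
  have hQσ : ∀ σ, SymProd.permHom _ n σ ≫ Q = Q := fun σ => hT.isQuot.inv ⟨σ⟩
  -- comparison of `kap e ≫ Q` for various `e`
  have hkapQ : ∀ (p : Idx n) (e : Fin p.1.1 ⊕ Fin p.1.2 ≃ Fin n),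
      kap f f' e ≫ Q = kap f f' (e0 p) ≫ Q := by
    intro p e
    have h1 : e = (e0 p).trans ((e0 p).symm.trans e) := by
      rw [← Equiv.trans_assoc, Equiv.self_trans_symm, Equiv.refl_trans]
    conv_lhs => rw [h1, ← kap_permHom, Category.assoc, hQσ]
  have h12 : ψ ≫ Sigma.desc φ = 𝟙 T := by
    apply hQepi
    rw [← Category.assoc, hψ, Category.comp_id]
    refine hom_ext_cover f f' n (fun c => ?_)
    rw [← Category.assoc, kap_Psi, loc, Category.assoc, Sigma.ι_desc, hφ]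
    exact (hkapQ c.1 c.2).symm
  have h21 : Sigma.desc φ ≫ ψ = 𝟙 _ := by
    refine Sigma.hom_ext _ _ (fun p => ?_)
    rw [Sigma.ι_desc_assoc, Category.comp_id]
    refine qP_hom_ext f f' pY (hS _) (hS' _) _ _ ?_
    rw [← Category.assoc, hφ, Category.assoc, hψ]
    exact kap_Psi f f' hS hS' n ⟨p, e0 p⟩
  refine ⟨⟨ψ, Sigma.desc φ, h12, h21⟩, ?_⟩
  change ψ ≫ _ = h
  have h3 : Sigma.desc (fun p : Idx n => pullback.fst (g p.1.1) (g' p.1.2) ≫ g p.1.1) =
      Sigma.desc φ ≫ h := by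
    refine Sigma.hom_ext _ _ (fun p => ?_)
    rw [Sigma.ι_desc, Sigma.ι_desc_assoc]
    refine qP_hom_ext f f' pY (hS _) (hS' _) _ _ ?_
    rw [← Category.assoc, qP_fst, Category.assoc, (hS _).over, ← Category.assoc, hφ,
      Category.assoc, hT.over, kap_base]
    rfl
  rw [h3, ← Category.assoc, h12, Category.id_comp]

include pY hS hS' hT in
theorem cl_eq [∀ n, LocallyOfFiniteType (g n)] [∀ n, QuasiCompact (g n)]
    [∀ n, LocallyOfFiniteType (g' n)] [∀ n, QuasiCompact (g' n)]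
    [LocallyOfFiniteType h] [QuasiCompact h] :
    K0Var.cl h = ∑ p ∈ Finset.antidiagonal n, K0Var.cl (g p.1) * K0Var.cl (g' p.2) := by
  obtain ⟨e, he⟩ := exists_iso pY f f' hS hS' n hT
  have h1 : Sigma.desc (fun p : Idx n => pullback.fst (g p.1.1) (g' p.1.2) ≫ g p.1.1) =
      e.inv ≫ h := by rw [← he, Iso.inv_hom_id_assoc]
  have h2 : LocallyOfFiniteType
      (Sigma.desc (fun p : Idx n => pullback.fst (g p.1.1) (g' p.1.2) ≫ g p.1.1)) := by
    rw [h1]; infer_instance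
  have h3 : QuasiCompact
      (Sigma.desc (fun p : Idx n => pullback.fst (g p.1.1) (g' p.1.2) ≫ g p.1.1)) := by
    rw [h1]; infer_instance
  rw [K0Var.cl_congr _ _ e he, K0Sum.cl_sigmaDesc]
  rw [Finset.sum_coe_sort (Finset.antidiagonal n) (fun p : ℕ × ℕ =>
    K0Var.cl (pullback.fst (g p.1) (g' p.2) ≫ g p.1))]
  exact Finset.sum_congr rfl (fun p _ => K0Var.cl_mul _ _)

end K928.SymGlue
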