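import Groth.Agent.ShStab.K848.TF
import Groth.Agent.Ega1.QcqsPush
import Groth.Agent.S2288
import Groth.Agent.Sga67.CohBasic
import Groth.Agent.Dcoh.ResFree
import Groth.Agent.SDiv.K472.GenFree
import Groth.Agent.Divis.StalkMod
import Groth.Agent.Krr.H487.LocBasisPull
import Groth.Agent.PerfA.QCohEpi

/-!
# Rank one torsion-free quotients

On an integral Noetherian scheme a coherent torsion-free module of generic rank `r + 1` has a torsion-free
quotient of rank one with torsion-free kernel of rank `r`.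
-/

set_option autoImplicit false
universe u

open CategoryTheory CategoryTheory.Limits AlgebraicGeometry TopologicalSpace Opposite

namespace K928.TFStep

open Groth.Agent.CycB.StalkExact

/-- Additivity of `finrank` over a domain. -/
theorem finrank_add_of_exact {R : Type*} [CommRing R] [IsDomain R] {A B C : Type*} [AddCommGroup A]
    [AddCommGroup B] [AddCommGroup C] [Module R A] [Module R B] [Module R C] [Module.Finite R B]
    (f : A →ₗ[R] B) (g : B →ₗ[R] C) (hf : Function.Injective f) (hfg : Function.Exact f g)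
    (hg : Function.Surjective g) :
    Module.finrank R B = Module.finrank R A + Module.finrank R C := by
  have h1 := Submodule.finrank_quotient_add_finrank (LinearMap.ker g)
  have h2 := (g.quotKerEquivOfSurjective hg).finrank_eq
  have h3 := LinearMap.finrank_range_of_inj hf
  rw [← hfg.linearMap_ker_eq] at h3
  omega

variable {X : Scheme.{u}}

/-- The generic rank. -/
noncomputable def rk [IrreducibleSpace X] (F : X.Modules) : ℕ :=
  Module.finrank (X.presheaf.stalk (genericPoint X)) (F.presheaf.stalk (genericPoint X))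

theorem rk_add [IsIntegral X] (S : ShortComplex X.Modules) (hS : S.ShortExact) (h : Coh.IsCoh S.X₂) :
    rk S.X₂ = rk S.X₁ + rk S.X₃ := by
  have := Groth.Agent.Divis.StalkMod.finite_stalk h (genericPoint X)
  obtain ⟨h1, h2, h3⟩ := stalkLin_shortExact S hS (genericPoint X)
  exact finrank_add_of_exact _ _ h1 h2 h3

theorem rk_of_restrict [IrreducibleSpace X] {n : ℕ} {M : X.Modules} {V : X.Opens} (hV : genericPoint X ∈ V)
    (h : Nonempty (M.restrict V.ι ≅ FlatMod.freeMod (↑V) n)) : rk M = n := by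
  obtain ⟨b, hb⟩ := Groth.Agent.Sga67.LocBasis.nonempty_restrict_iso_iff.mp h
  obtain ⟨β, -⟩ := Groth.Agent.Krr.H487.LocBasisPull.exists_stalkBasis hb (genericPoint X) hV
  rw [rk, Module.finrank_eq_card_basis β, Fintype.card_fin]

theorem isTorsionFree_of_isFinLocFree [IsIntegral X] {M : X.Modules} (h : FlatMod.IsFinLocFree M) :
    TorSh.IsTorsionFree M := by
  intro x
  obtain ⟨U, n, hx, e⟩ := h x
  obtain ⟨b, hb⟩ := Groth.Agent.Sga67.LocBasis.nonempty_restrict_iso_iff.mp e
  obtain ⟨β, -⟩ := Groth.Agent.Krr.H487.LocBasisPull.exists_stalkBasis hb x hx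
  have := Module.Free.of_basis β
  infer_instance

theorem rk_of_isFinLocFree [IrreducibleSpace X] {n : ℕ} {M : X.Modules} (h : FlatMod.IsFinLocFreeOfRank n M) :
    rk M = n := by
  obtain ⟨U, hx, e⟩ := h (genericPoint X)
  exact rk_of_restrict hx e

/-- the last coordinate -/
noncomputable def last (U : Scheme.{u}) (r : ℕ) : FlatMod.freeMod U (r + 1) ⟶ FlatMod.freeMod U 1 :=
  (Groth.Agent.Dcoh.ResFree.freeModAdd r 1).inv ≫ biprod.snd

instance epi_last (U : Scheme.{u}) (r : ℕ) : Epi (last U r) := by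
  rw [last]
  infer_instance

theorem exists_step [IsIntegral X] [IsNoetherian X] {F : X.Modules} (hF : Coh.IsCoh F)
    (htf : TorSh.IsTorsionFree F) {r : ℕ} (hr : rk F = r + 1) :
    ∃ (F' : X.Modules) (i : F' ⟶ F), Mono i ∧ Coh.IsCoh F' ∧ TorSh.IsTorsionFree F' ∧ rk F' = r ∧
      Coh.IsCoh (cokernel i) ∧ TorSh.IsTorsionFree (cokernel i) ∧ rk (cokernel i) = 1 := by
  obtain ⟨U, n, hU, ⟨e⟩⟩ := K472.GenFree.exists_open_free hF.1 hF.2
  have hn : n = r + 1 := by
    rw [← hr]
    exact (rk_of_restrict hU ⟨e⟩).symm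
  subst hn
  have hne : Nonempty U := ⟨⟨_, hU⟩⟩
  have hdom : IsDominant U.ι := by
    refine ⟨?_⟩
    rw [DenseRange, Scheme.Opens.range_ι]
    exact U.isOpen.dense ⟨_, hU⟩
  let P := (Scheme.Modules.pushforward U.ι).obj (FlatMod.freeMod U 1)
  let π : (Scheme.Modules.restrictFunctor U.ι).obj F ⟶ FlatMod.freeMod U 1 := e.hom ≫ last U r
  have hπ : Epi π := by
    have : Epi (e.hom ≫ last U r) := epi_comp _ _
    exact this
  have hlf := Groth.Agent.Dcoh.ResFree.isFinLocFree_freeMod (X := U) 1
  have hfq : Coh.IsQCoh (FlatMod.freeMod (U : Scheme.{u}) 1) :=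
    Groth.Agent.PerfA.QCohEpi.isQCoh_of_isFinLocFree hlf
  have hPq : Coh.IsQCoh P := Groth.Agent.Ega1.QcqsPush.isQCoh_pushforward U.ι _ hfq
  have hPt : TorSh.IsTorsionFree P := Groth.Agent.S2288.result U.ι _ (isTorsionFree_of_isFinLocFree hlf)
  let adj := Scheme.Modules.restrictAdjunction U.ι
  let φ : F ⟶ P := adj.homEquiv F _ π
  have hφ : (Scheme.Modules.restrictFunctor U.ι).map φ ≫ adj.counit.app _ = π := by
    have h1 := adj.homEquiv_counit (X := F) (Y := FlatMod.freeMod U 1) (g := φ)
    rw [← h1]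
    exact (adj.homEquiv F _).symm_apply_apply π
  have hφe : Epi ((Scheme.Modules.restrictFunctor U.ι).map φ) := by
    have hc : IsIso (adj.counit.app (FlatMod.freeMod U 1)) := inferInstance
    have h2 : (Scheme.Modules.restrictFunctor U.ι).map φ = π ≫ inv (adj.counit.app (FlatMod.freeMod U 1)) :=
      (IsIso.eq_comp_inv (adj.counit.app (FlatMod.freeMod U 1))).2 hφ
    rw [h2]
    exact epi_comp _ _
  let m : cokernel (kernel.ι φ) ⟶ P := Abelian.factorThruCoimage φ
  have hm : Mono m := inferInstanceAs (Mono (Abelian.factorThruCoimage φ))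
  have hpm : cokernel.π (kernel.ι φ) ≫ m = φ := Abelian.coimage.fac φ
  have hK : Coh.IsCoh (kernel φ) := Groth.Agent.Sga67.CohBasic.isCoh_kernel φ hF hPq
  have hC : Coh.IsCoh (cokernel (kernel.ι φ)) := Groth.Agent.Sga67.CohBasic.isCoh_cokernel _ hK.1 hF
  have hrC : rk (cokernel (kernel.ι φ)) = 1 := by
    refine rk_of_restrict hU ?_
    have h3 : Epi ((Scheme.Modules.restrictFunctor U.ι).map m) := by
      have h4 : Epi ((Scheme.Modules.restrictFunctor U.ι).map (cokernel.π (kernel.ι φ)) ≫
          (Scheme.Modules.restrictFunctor U.ι).map m) := by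
        rw [← Functor.map_comp, hpm]
        exact hφe
      exact epi_of_epi ((Scheme.Modules.restrictFunctor U.ι).map (cokernel.π (kernel.ι φ))) _
    have h5 : IsIso ((Scheme.Modules.restrictFunctor U.ι).map m) := isIso_of_mono_of_epi _
    exact ⟨asIso ((Scheme.Modules.restrictFunctor U.ι).map m) ≪≫ asIso (adj.counit.app _)⟩
  have hS : (ShortComplex.mk (kernel.ι φ) (cokernel.π (kernel.ι φ)) (cokernel.condition _)).ShortExact :=
    { exact := ShortComplex.exact_cokernel _ }
  have hadd := rk_add _ hS hF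
  refine ⟨kernel φ, kernel.ι φ, inferInstance, hK, K848.TF.isTorsionFree_of_mono (kernel.ι φ) htf, ?_, hC,
    K848.TF.isTorsionFree_of_mono m hPt, hrC⟩
  have h6 : rk F = rk (kernel φ) + rk (cokernel (kernel.ι φ)) := hadd
  omega

/-- rank zero and torsion-free: zero -/
theorem isZero_of_rk [IsIntegral X] {F : X.Modules} (hF : Coh.IsCoh F) (htf : TorSh.IsTorsionFree F)
    (hr : rk F = 0) : IsZero F := by
  refine K848.TF.isZero_of_generic hF.1 htf ?_
  intro h
  have h1 := Groth.Agent.Divis.StalkMod.finite_stalk hF (genericPoint X)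
  have h2 := htf (genericPoint X)
  have h3 : Nontrivial (F.presheaf.stalk (genericPoint X)) := not_subsingleton_iff_nontrivial.1 h
  have h4 : 0 < Module.finrank (X.presheaf.stalk (genericPoint X)) (F.presheaf.stalk (genericPoint X)) :=
    Module.finrank_pos_iff.mpr h3
  exact absurd hr h4.ne'

end K928.TFStep
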