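import Groth.Agent.RelQuot.K928.PieceCl
import Groth.Agent.RelQuot.K928.Spread

/-!
# The class of the relative Quot scheme of a locally free module on `Y × C`
-/

set_option autoImplicit false
set_option linter.style.haveILetI false
set_option linter.dupNamespace false
universe u v

open CategoryTheory CategoryTheory.Limits AlgebraicGeometry TopologicalSpace Opposite

namespace K928.Total

open K928.Pts K928.Flags K928.SqQuot K928.QBC K928.K0Calc K928.PointBij K928.Strat K928.PieceCl K928.StageA

theorem ptBij_bc {H Y : Scheme.{u}} (h : H ⟶ Y) {ι : Type} {U : ι → Scheme.{u}} (u : ∀ i, U i ⟶ Y)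
    [∀ i, IsImmersion (u i)] (hu : ∀ z, ∃! i, z ∈ Set.range (u i)) : PtBij (fun i => pullback.fst h (u i)) := by
  have i1 : ∀ i, IsImmersion (pullback.fst h (u i)) := fun i => MorphismProperty.pullback_fst _ _ inferInstance
  refine ptBij_of_partition _ fun z => ?_
  obtain ⟨i, hi, hiu⟩ := hu (h z)
  refine ⟨i, ?_, fun j hj => hiu j ?_⟩
  · change z ∈ Set.range (pullback.fst h (u i))
    rw [Scheme.Pullback.range_fst]
    exact hi
  · have hj' : z ∈ Set.range (pullback.fst h (u j)) := hj
    rw [Scheme.Pullback.range_fst] at hj'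
    exact hj'

theorem cl_total {k : Type u} [Field k] [CharZero k] {X Y C : Scheme.{u}} {f : X ⟶ Y}
    {pC : C ⟶ Spec (CommRingCat.of k)} {pY : Y ⟶ Spec (CommRingCat.of k)} {a : X ⟶ C}
    (sq : IsPullback a f pC pY) [IsProper pC] [SmoothOfRelativeDimension 1 pC] [GeometricallyIntegral pC]
    (hAF : AFb pC) [LocallyOfFiniteType pY] [QuasiCompact pY] {E : X.Modules} {r d : ℕ}
    (hE : FlatMod.IsFinLocFreeOfRank r E) (𝒟 : Filt.Div pC d) (H : Over Y) [LocallyOfFiniteType H.hom]
    [QuasiCompact H.hom] (κ : QuotD.Obj f E d H) (hκ : QuotD.IsUniversal f E d H κ) :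
    K0Var.cl (H.hom ≫ pY) = K0Var.cl pY * Comb.Cr 𝒟.s (K0Var.L _) r d := by
  have h1 : SmoothOfRelativeDimension 1 f :=
    (smoothOfRelativeDimension_isStableUnderBaseChange.{u} 1).of_isPullback sq inferInstance
  have h2 : IsProper f := MorphismProperty.of_isPullback sq inferInstance
  have h3 : GeometricallyIntegral f := MorphismProperty.of_isPullback sq inferInstance
  have h4 : IsLocallyNoetherian Y := LocallyOfFiniteType.isLocallyNoetherian pY
  have h5 : CompactSpace Y := QuasiCompact.compactSpace_of_compactSpace pY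
  have h6 : IsNoetherian Y := {}
  have h7 : IsNoetherian H.left := noeth_of H
  obtain ⟨ι, hι, U, u, hu1, hu2, hu3⟩ := exists_partition (T₀ := Y)
    (fun U u => IsAffine U ∧ FlagOn (Set.univ : Set (PicF.XT f (Over.mk u))) r (FGA.ET f E (Over.mk u)))
    (fun Z i _ _ O hO => by
      have i1 : IsLocallyNoetherian Z := LocallyOfFiniteType.isLocallyNoetherian i
      have i2 : CompactSpace Z := QuasiCompact.compactSpace_of_compactSpace i
      have i3 : IsNoetherian Z := {}
      obtain ⟨U, j, j1, j2, j3, j4, j5⟩ := Spread.exists_flag_open f pY hE i O hO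
      exact ⟨U, j, j1, j2, j3, j4, j5⟩)
  have hNS : ∀ i, NoetherianSpace (U i) := fun i => (u i).isEmbedding.isInducing.noetherianSpace
  have hft : ∀ i, LocallyOfFiniteType (u i) := fun i => inferInstance
  have hqc : ∀ i, QuasiCompact (u i) := fun i => inferInstance
  have hb : PtBij u := ptBij_of_partition u hu3
  have hbH : PtBij (fun i => pullback.fst H.hom (u i)) := ptBij_bc H.hom u hu3
  have key : ∀ i, K0Var.cl (pullback.fst H.hom (u i) ≫ H.hom ≫ pY) =
      K0Var.cl (u i ≫ pY) * Comb.Cr 𝒟.s (K0Var.L _) r d := by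
    intro i
    have i0 : IsLocallyNoetherian (U i) := LocallyOfFiniteType.isLocallyNoetherian (u i)
    have i1 : IsNoetherian (U i) := { toCompactSpace := QuasiCompact.compactSpace_of_compactSpace (u i) }
    have sqi : IsPullback (pullback.fst f (u i)) (pullback.snd f (u i)) f (u i) := IsPullback.of_hasPullback _ _
    have sqi' : IsPullback (pullback.fst f (u i) ≫ a) (pullback.snd f (u i)) pC (u i ≫ pY) :=
      (sqi.flip.paste_vert sq.flip).flip
    obtain ⟨κ', hκ'⟩ := quot_bc sqi κ hκ (fun T x => isRelFinLen_quotPull f E x κ.2)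
    have i2 : LocallyOfFiniteType (Over.mk (pullback.snd H.hom (u i)) : Over (U i)).hom :=
      inferInstanceAs (LocallyOfFiniteType (pullback.snd H.hom (u i)))
    have i3 : QuasiCompact (Over.mk (pullback.snd H.hom (u i)) : Over (U i)).hom :=
      inferInstanceAs (QuasiCompact (pullback.snd H.hom (u i)))
    have h8 := cl_piece sqi' hAF (hu2 i).2 (Filt.isQCoh_of_rank (K652.LfRank.pullback _ hE)) 𝒟 _ κ' hκ'
    rw [← h8, ← clD_eq, ← clD_eq]
    congr 1
    change pullback.fst H.hom (u i) ≫ H.hom ≫ pY = pullback.snd H.hom (u i) ≫ u i ≫ pY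
    rw [pullback.condition_assoc]
  rw [cl_eq_sum_of_points (H.hom ≫ pY) (fun i => pullback.fst H.hom (u i)) hbH,
    cl_eq_sum_of_points pY u hb, Finset.sum_mul]
  exact Finset.sum_congr rfl fun i _ => key i

end K928.Total
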