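import Groth.Agent.RelQuot.K928.Pts
import Groth.Agent.RelQuot.K928.Chart
import Groth.Agent.RelQuot.K928.Fam2
import Groth.Agent.Picfga.HilbAff
import Groth.Agent.Grass.K652.LfRank

/-!
# Over a field every finite quotient has a type
-/

set_option autoImplicit false
set_option linter.style.haveILetI false
universe u v

open CategoryTheory CategoryTheory.Limits AlgebraicGeometry Opposite TopologicalSpace

namespace K928.TypeEx

open K928.Cap K928.UB K928.Sec K928.SecEx K928.Sq K928.Frame K928.ObjOf K928.OfObj K928.Pts K928.DivAlg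
  K928.Chart K928.Fam K928.Fam2 K928.Res Groth.Agent.Picfga Groth.Agent.Fga.QTDefs Groth.Agent.CohqA.BaseChangeMod

section Lin

/-- multiplication by `l` is bijective -/
def IsGen {A L : Type*} [CommRing A] [AddCommGroup L] [Module A L] (l : L) : Prop :=
  Function.Bijective (fun a : A => a • l)

theorem isGen_of_isBC {A B M M' : Type u} [CommRing A] [CommRing B] [AddCommGroup M] [Module A M]
    [AddCommGroup M'] [Module B M'] {φ : A →+* B} {m : M →+ M'} (h : IsBC φ m) {l : M}
    (hl : IsGen (A := A) l) : IsGen (A := B) (m l) := by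
  have e1 : IsBC φ (m.comp (LinearMap.toSpanSingleton A M l).toAddMonoidHom) := by
    let c : A ≃ₗ[A] M := LinearEquiv.ofBijective (LinearMap.toSpanSingleton A M l) hl
    refine ⟨fun a x => ?_, fun Q _ _ g hg => ?_⟩
    · change m ((a • x) • l) = φ a • m (x • l)
      rw [smul_eq_mul, mul_smul, h.map_smul]
    · obtain ⟨g', hg', hu⟩ := h.lift Q (g.comp c.symm.toLinearMap.toAddMonoidHom) (fun a x => by
        change g (c.symm (a • x)) = φ a • g (c.symm x)
        rw [map_smul, hg])
      refine ⟨g', fun x => ?_, fun g'' hg'' => hu g'' fun x => ?_⟩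
      · change g' (m (x • l)) = g x
        rw [hg']
        change g (c.symm (c x)) = g x
        rw [c.symm_apply_apply]
      · change g'' (m x) = g (c.symm x)
        rw [← hg'']
        change g'' (m x) = g'' (m (c (c.symm x)))
        rw [c.apply_symm_apply]
  have e0 : IsBC φ φ.toAddMonoidHom := isBC_self (A := .of A) (B := .of B) φ
  have e2 := e0.bijective_of_isBC e1 (LinearMap.toSpanSingleton B M' (m l)) (fun x => by
    change φ x • m l = m (x • l)
    rw [h.map_smul])
  exact e2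

end Lin

variable {X Y : Scheme.{u}} {f : X ⟶ Y} {E L : X.Modules}

/-- Frames at points, with a generator of a line bundle. -/
theorem exists_frame_point [IsProper f] (hAF : AFb f) (hE : Coh.IsQCoh E) (hL : FlatMod.IsFinLocFreeOfRank 1 L)
    (T : Over Y)
    {K : Subobject (FGA.ET f E T)} {d : ℕ} (hK : QuotD.IsRelFinLen (PicF.XTproj f T) d (cokernel K.arrow))
    {T' : Over Y} [IsAffine T'.left] [Subsingleton T'.left] [Nonempty T'.left] (x : T' ⟶ T) :
    ∃ (V W : (PicF.XT f T').Opens) (e : Fin d → Γ(FGA.ET f E T', V)) (l : Γ(FGA.ET f L T', V)),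
      Frame f T' (FGA.quotPull f E x K) V W e ∧ IsGen (A := Γ(PicF.XT f T', V)) l := by
  obtain ⟨x₀⟩ := (inferInstance : Nonempty T'.left)
  let t := x.left x₀
  obtain ⟨U₀, hU₀, ht, -⟩ := exists_aff (show t ∈ (⊤ : T.left.Opens) from trivial)
  obtain ⟨I, hI, hIK⟩ := hK.2.1
  have hfin := finite_support_fibre (PicF.XTproj f T) I t
  obtain ⟨V₁, hV₁, hVU₁, hsV₁⟩ := exists_affine_of_fibre hAF T t ht hU₀ _ hfin (fun z hz => hz.2)
  have hLT : FlatMod.IsFinLocFreeOfRank 1 (FGA.ET f L T) := K652.LfRank.pullback _ hL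
  obtain ⟨r, l, hsV, hl⟩ := Groth.Agent.Ega2.BasSec.exists_isBas_of_finite hLT hV₁ _ hfin hsV₁
  let V := (PicF.XT f T).basicOpen r
  have hV : IsAffineOpen V := hV₁.basicOpen r
  have hVU : V ≤ PicF.XTproj f T ⁻¹ᵁ U₀ := ((PicF.XT f T).basicOpen_le r).trans hVU₁
  have hLq : Coh.IsQCoh L := Groth.Agent.PerfA.QCohEpi.isQCoh_of_isFinLocFree (isFinLocFree_of_rank hL)
  have hl' : IsGen (A := Γ(PicF.XT f T, V)) (l 0) := by
    have h1 := hl.bijective
    constructor
    · intro c c' hc
      have h2 := @h1.1 (fun _ => c) (fun _ => c') (by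
        rw [Groth.Agent.Ega2.BasSec.comb, Groth.Agent.Ega2.BasSec.comb, Fin.sum_univ_one, Fin.sum_univ_one]
        exact hc)
      exact congrFun h2 0
    · intro m
      obtain ⟨a, ha⟩ := h1.2 m
      rw [Groth.Agent.Ega2.BasSec.comb, Fin.sum_univ_one] at ha
      exact ⟨a 0, ha⟩
  let W : (PicF.XT f T).Opens := I.support.compl
  have hW : Away K W := away_of_killed (isQCoh_ET f hE T) I hIK fun x hx => hx
  obtain ⟨N, -, htN, hN⟩ := exists_frame_nhd f hE T hK t ht hU₀ hV hVU hW (fun z hz => by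
    by_cases hzI : z ∈ I.support
    · exact Or.inl (hsV ⟨hzI, hz⟩)
    · exact Or.inr hzI)
  obtain ⟨U, hU, htU, hUN⟩ := exists_aff htN
  obtain ⟨e, he⟩ := hN U hUN hU
  have hxU : Set.range x.left ⊆ Set.range U.ι := by
    rintro _ ⟨y, rfl⟩
    rw [Subsingleton.elim y x₀]
    exact ⟨⟨t, htU⟩, rfl⟩
  let x' : T' ⟶ Over.mk (U.ι ≫ T.hom) := Over.homMk (IsOpenImmersion.lift U.ι x.left hxU) (by
    change IsOpenImmersion.lift U.ι x.left hxU ≫ U.ι ≫ T.hom = T'.hom
    rw [IsOpenImmersion.lift_fac_assoc, Over.w])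
  have hx' : x' ≫ OverRep.res T U = x := by
    ext1
    exact IsOpenImmersion.lift_fac U.ι x.left hxU
  have i1 : IsAffine (Over.mk (U.ι ≫ T.hom) : Over Y).left := hU
  have hKq := isQCoh_quotPull f (OverRep.res T U) hK.1
  have h1 := he.pull hE hKq x'
  rw [← Groth.Agent.Fga.QuotPull.quotPull_comp, hx'] at h1
  have h2 := isGen_of_isBC (isBC_ps f (E := L) (OverRep.res T U) (V' := pb f (OverRep.res T U) V) le_rfl hLq hV
    he.aff) hl'
  have h3 := isGen_of_isBC (isBC_ps f (E := L) x' (V' := pb f x' (pb f (OverRep.res T U) V)) le_rfl hLq he.aff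
    h1.aff) h2
  exact ⟨_, _, _, _, h1, h3⟩

end K928.TypeEx
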