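import Groth.Agent.RelQuot.K928.TypeEx
import Groth.Agent.RelQuot.K928.FieldLin

/-!
# Over a field every finite quotient has a unique type
-/

set_option autoImplicit false
set_option linter.style.haveILetI false
universe u v

open CategoryTheory CategoryTheory.Limits AlgebraicGeometry Opposite TopologicalSpace

namespace K928.TypeEx2

open K928.Cap K928.UB K928.Sec K928.SecEx K928.Sq K928.Frame K928.ObjOf K928.OfObj K928.Pts K928.DivAlg
  K928.Chart K928.Fam K928.Fam2 K928.Res K928.TypeEx Groth.Agent.Picfga Groth.Agent.Fga.QTDefs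
  Groth.Agent.CohqA.BaseChangeMod

/-- the degree of `Spec (Γ(P, V)/𝔞)` -/
theorem isFinLocFreeOfDeg_ker {P T : Scheme.{u}} (p : P ⟶ T) [IsAffine T] [IsSeparated p] {V : P.Opens}
    (hV : IsAffineOpen V) (𝔞 : Ideal Γ(P, V)) {b : ℕ} {e : Fin b → Γ(P, V) ⧸ 𝔞}
    (he : IsUB (p.appLE ⊤ V le_top).hom e) :
    IsClosedImmersion (ClImm.z hV 𝔞) ∧ Mor2.IsFinLocFreeOfDeg b ((ClImm.z hV 𝔞).ker.subschemeι ≫ p) := by
  have hfin : ((Ideal.Quotient.mk 𝔞).comp (p.appLE ⊤ V le_top).hom).Finite := by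
    letI : Module Γ(T, ⊤) (Γ(P, V) ⧸ 𝔞) := mod (p.appLE ⊤ V le_top).hom _
    have h1 : Module.Finite Γ(T, ⊤) (Γ(P, V) ⧸ 𝔞) := Module.Finite.of_basis he.basis
    exact h1
  have hcl := ClImm.isClosedImmersion_z p hV 𝔞 hfin
  refine ⟨hcl, ?_⟩
  have h1 : (ClImm.z hV 𝔞).ker.subschemeι ≫ p = inv (ClImm.z hV 𝔞).toImage ≫ ClImm.z hV 𝔞 ≫ p := by
    rw [IsIso.eq_inv_comp, ← Category.assoc]
    congr 1
    exact (ClImm.z hV 𝔞).toImage_imageι
  rw [h1]
  refine HilbPull.isFinLocFreeOfDeg_comp_iso ?_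
  let c := (Scheme.ΓSpecIso (.of (Γ(P, V) ⧸ 𝔞))).inv
  have hc := ConcreteCategory.bijective_of_isIso c
  have h2 : (ClImm.z hV 𝔞 ≫ p).appTop = p.appLE ⊤ V le_top ≫ ClImm.mkH 𝔞 ≫ c := by
    rw [← ClImm.z_appLE hV 𝔞, Scheme.Hom.appLE_comp_appLE]
    exact (Scheme.Hom.appLE_eq_app _).symm
  refine HilbAff.isFinLocFreeOfDeg_of_rBas (ClImm.z hV 𝔞 ≫ p) (fun i => c.hom (e i)) ?_
  have h3 : (fun a : Fin b → Γ(T, ⊤) => ∑ i, (ClImm.z hV 𝔞 ≫ p).appTop.hom (a i) * c.hom (e i)) =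
      c.hom ∘ lc (p.appLE ⊤ V le_top).hom e := by
    funext a
    rw [Function.comp_apply, lc, map_sum]
    refine Finset.sum_congr rfl fun i _ => ?_
    have h4 : (ClImm.z hV 𝔞 ≫ p).appTop.hom (a i) =
        c.hom (Ideal.Quotient.mk 𝔞 ((p.appLE ⊤ V le_top).hom (a i))) := by
      rw [h2]
      rfl
    rw [h4, ← map_mul]
    rfl
  change Function.Bijective _
  rw [h3]
  exact hc.comp he

variable {X Y : Scheme.{u}} {f : X ⟶ Y} {S : ShortComplex X.Modules} {T : Over Y}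

/-- the divisor and the subsheaf are determined by the quotient -/
theorem isType_unique (hS : Hyp S) {κ : Subobject (FGA.ET f S.X₂ T)} {ξ ξ' : Subobject (FGA.ET f S.X₁ T)}
    {D D' : (PicF.XT f T).IdealSheafData} (h : IsType f S T κ ξ D) (h' : IsType f S T κ ξ' D') :
    ξ = ξ' ∧ D = D' := by
  refine ⟨h.sub.symm.trans h'.sub, ?_⟩
  have hDL : DL D (FGA.ET f S.X₃ T) = DL D' (FGA.ET f S.X₃ T) := h.quo.symm.trans h'.quo
  refine Groth.Agent.Divis.IdealComap.ext_of_forall_mem fun z => ?_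
  have hLT : FlatMod.IsFinLocFreeOfRank 1 (FGA.ET f S.X₃ T) := K652.LfRank.pullback _ hS.lf
  obtain ⟨U, l, hz, hl⟩ := (Groth.Agent.Ega2.BasSec.isFinLocFreeOfRank_iff _ _).1 hLT z
  obtain ⟨U', hU', hzU', hUU'⟩ := exists_aff hz
  have hl' := (hl.res hUU').bijective
  refine ⟨⟨U', hU'⟩, hzU', ?_⟩
  set l' : Γ(FGA.ET f S.X₃ T, U') := Groth.Agent.Fdesc.LocGen.res (FGA.ET f S.X₃ T) hUU' (l 0) with hl'def
  have hgen : Function.Bijective (LinearMap.toSpanSingleton Γ(PicF.XT f T, U') Γ(FGA.ET f S.X₃ T, U') l') := by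
    constructor
    · intro c c' hc
      have h2 := @hl'.1 (fun _ => c) (fun _ => c') (by
        rw [Groth.Agent.Ega2.BasSec.comb, Groth.Agent.Ega2.BasSec.comb, Fin.sum_univ_one, Fin.sum_univ_one]
        exact hc)
      exact congrFun h2 0
    · intro m
      obtain ⟨a, ha⟩ := hl'.2 m
      rw [Groth.Agent.Ega2.BasSec.comb, Fin.sum_univ_one] at ha
      exact ⟨a 0, ha⟩
  have key : ∀ (I : Ideal Γ(PicF.XT f T, U')) (r : Γ(PicF.XT f T, U')),
      r ∈ I ↔ r • l' ∈ I • (⊤ : Submodule Γ(PicF.XT f T, U') Γ(FGA.ET f S.X₃ T, U')) := by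
    intro I r
    constructor
    · intro hr
      exact Submodule.smul_mem_smul hr trivial
    · intro hr
      have h3 : I • (⊤ : Submodule Γ(PicF.XT f T, U') Γ(FGA.ET f S.X₃ T, U')) ≤
          Submodule.map (LinearMap.toSpanSingleton Γ(PicF.XT f T, U') Γ(FGA.ET f S.X₃ T, U') l') I := by
        rw [Submodule.smul_le]
        intro a ha m _
        obtain ⟨m, rfl⟩ := hgen.2 m
        rw [← map_smul, smul_eq_mul, mul_comm]
        exact ⟨m * a, Ideal.mul_mem_left _ _ ha, rfl⟩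
      obtain ⟨a, ha, har⟩ := h3 hr
      rw [← hgen.1 har]
      exact ha
  ext r
  rw [key, key, ← secSub_DL D (isQCoh_ET f hS.q3 T) hU', ← secSub_DL D' (isQCoh_ET f hS.q3 T) hU', hDL]

/-- **Over a field every finite quotient has a type.** -/
theorem exists_type (hS : Hyp S) [IsProper f] (hAF : AFb f) [IsAffine T.left] [Subsingleton T.left]
    [Nonempty T.left] (hR : IsField Γ(T.left, ⊤)) {d : ℕ} (κ : QuotD.Obj f S.X₂ d T) :
    ∃ (a b : ℕ) (ξ : QuotD.Obj f S.X₁ a T) (D : HilbD.Obj f b T), a + b = d ∧ IsType f S T κ.1 ξ.1 D.1 := by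
  obtain ⟨V, W, e, l, hF, hl⟩ := TypeEx.exists_frame_point hAF hS.q2 hS.lf T κ.2 (𝟙 T)
  rw [Groth.Agent.Fga.QuotPull.quotPull_id] at hF
  have hsep : IsSeparated (PicF.XTproj f T) := inferInstanceAs (IsSeparated (pullback.snd f T.hom))
  have hqc : QuasiCompact (PicF.XTproj f T) := inferInstanceAs (QuasiCompact (pullback.snd f T.hom))
  have hN : IsNoetherianRing Γ(T.left, ⊤) := by
    letI := hR.toField
    infer_instance
  have hex := iTl_exact f S hS.ex (isFinLocFree_of_rank hS.lf) T V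
  have hsur := iTl_surjective f S hS.ex (isFinLocFree_of_rank hS.lf) T V hS.q2 hF.aff
  obtain ⟨i, p, hi, hp, hip, -, -⟩ := exists_quot_exact hex hsur (secSub κ.1 V)
  obtain ⟨a, b, e₁, e₃, hab, he₁, he₃⟩ := FieldLin.exists_split (coef f T V).hom hR i p hi hp hip hF.bas
  -- the subsheaf
  let ξ := cm (iT f S.f T) κ.1
  have hξq : Coh.IsQCoh (cokernel ξ.arrow) := isQCoh_cm _ (isQCoh_ET f hS.q1 T) κ.2.1
  have hξs : secSub ξ V = (secSub κ.1 V).comap (iTl f S.f T V) := secSub_cm' _ _ _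
  have hξ : QuotD.IsRelFinLen (PicF.XTproj f T) a (cokernel ξ.arrow) := by
    obtain ⟨e₁', he₁'⟩ : ∃ e' : Fin a → Γ(FGA.ET f S.X₁ T, V) ⧸ secSub ξ V, IsUB (coef f T V).hom e' := by
      rw [hξs]
      exact ⟨e₁, he₁⟩
    exact isRelFinLen_of (PicF.XTproj f T) (isQCoh_ET f hS.q1 T) hξq hF.aff hF.sup (away_cm _ hF.away) he₁'
  -- the divisor
  set N'' := (secSub κ.1 V).map (iTl f S.g T V) with hN''
  let c : Γ(PicF.XT f T, V) ≃ₗ[Γ(PicF.XT f T, V)] Γ(FGA.ET f S.X₃ T, V) :=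
    LinearEquiv.ofBijective (LinearMap.toSpanSingleton _ _ l) hl
  let I : Ideal Γ(PicF.XT f T, V) := N''.comap c.toLinearMap
  have hIc : Submodule.map c.toLinearMap I = N'' := Submodule.map_comap_eq_of_surjective c.surjective N''
  have hIt : I • (⊤ : Submodule Γ(PicF.XT f T, V) Γ(FGA.ET f S.X₃ T, V)) = N'' := by
    rw [← hIc]
    apply le_antisymm
    · rw [Submodule.smul_le]
      intro r hr m _
      obtain ⟨m, rfl⟩ := c.surjective m
      rw [← map_smul, smul_eq_mul, mul_comm]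
      exact ⟨m * r, Ideal.mul_mem_left _ _ hr, rfl⟩
    · rintro _ ⟨r, hr, rfl⟩
      exact Submodule.smul_mem_smul hr trivial
  have hIb := he₃.of_equiv (Submodule.Quotient.equiv I N'' c hIc).symm
  obtain ⟨hcl, hdeg⟩ := isFinLocFreeOfDeg_ker (PicF.XTproj f T) hF.aff I hIb
  let D := (ClImm.z hF.aff I).ker
  have hDV : D.ideal ⟨V, hF.aff⟩ = I := ClImm.ideal_ker_z hF.aff I
  have hDs : (D.support : Set (PicF.XT f T)) ⊆ V := by
    change ((ClImm.z hF.aff I).ker.support : Set (PicF.XT f T)) ⊆ V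
    rw [Scheme.Hom.support_ker, (ClImm.z hF.aff I).isClosedEmbedding.isClosed_range.closure_eq]
    exact ClImm.range_z_le hF.aff I
  refine ⟨a, b, ⟨ξ, hξ⟩, ⟨D, hdeg⟩, hab, rfl, ?_⟩
  have hVW : V ⊔ (W ⊓ D.support.compl) = ⊤ := by
    rw [eq_top_iff]
    intro z _
    by_cases hz : z ∈ V
    · exact Or.inl hz
    · have hz' : z ∈ V ⊔ W := by rw [hF.sup]; trivial
      rcases hz' with hz' | hz'
      · exact absurd hz' hz
      · exact Or.inr ⟨hz', fun h => hz (hDs h)⟩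
  refine eq_of_cap (isQCoh_ET f hS.q3 T) hF.aff hVW
      (isQCoh_im _ (isQCoh_ET f hS.q2 T) (isQCoh_ET f hS.q3 T) κ.2.1)
      (isQCoh_DL D (isQCoh_ET f hS.q3 T)) ((away_im hS κ.2.1 hF.away).mono inf_le_left)
      (away_DL D (isQCoh_ET f hS.q3 T) fun z hz => hz.2) ?_
  rw [secSub_im' _ hS.q2 hS.q3 κ.2.1 hF.aff,
    secSub_DL D (isQCoh_ET f hS.q3 T) hF.aff, hDV, hIt]

end K928.TypeEx2
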