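import Groth.Agent.RelQuot.K928.Rel
import Groth.Agent.RelQuot.K928.ChartEx
import Groth.Agent.RelQuot.K928.Strat
import Groth.Agent.RelQuot.K928.Aff

/-!
# Finite families of quotients over affine bases parametrising the quotients of a given type
-/

set_option autoImplicit false
set_option linter.style.haveILetI false
set_option linter.dupNamespace false
universe u v

open CategoryTheory CategoryTheory.Limits AlgebraicGeometry Opposite TopologicalSpace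

namespace K928.WFam

open K928.Cap K928.UB K928.Sec K928.SecEx K928.Sq K928.Frame K928.ObjOf K928.OfObj K928.Pts K928.DivAlg
  K928.Chart K928.Fam K928.Fam2 K928.Res K928.Rel K928.K0Calc K928.Strat K928.PointBij Groth.Agent.Picfga

variable {X Y : Scheme.{u}}

/-- `ξ` over affine `M` with a frame -/
structure Piece (f : X ⟶ Y) (E : X.Modules) (d : ℕ) (M : Over Y) (ξ : Subobject (FGA.ET f E M)) : Prop where
  aff : IsAffine M.left
  lft : LocallyOfFiniteType M.hom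
  qc : QuasiCompact M.hom
  q : Coh.IsQCoh (cokernel ξ.arrow)
  fr : ∃ (V W : (PicF.XT f M).Opens) (x : Fin d → Γ(FGA.ET f E M, V)), Frame f M ξ V W x

variable {f : X ⟶ Y}

/-- `ξ₀` is a family of quotients of length `a` after every base change to affine Noetherian schemes -/
def Stab (f : X ⟶ Y) (E : X.Modules) (a : ℕ) (T₀ : Over Y) (ξ₀ : Subobject (FGA.ET f E T₀)) : Prop :=
  Coh.IsQCoh (cokernel ξ₀.arrow) ∧
  ∀ (T' : Over Y) (_ : IsAffine T'.left) (_ : IsNoetherianRing Γ(T'.left, ⊤)) (g : T' ⟶ T₀),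
    QuotD.IsRelFinLen (PicF.XTproj f T') a (cokernel (FGA.quotPull f E g ξ₀).arrow)

theorem isRelFinLen_congr {E : X.Modules} {a : ℕ} {T : Over Y} {K K' : Subobject (FGA.ET f E T)} (h : K = K')
    (hK : QuotD.IsRelFinLen (PicF.XTproj f T) a (cokernel K.arrow)) :
    QuotD.IsRelFinLen (PicF.XTproj f T) a (cokernel K'.arrow) := by
  subst h
  exact hK

theorem Stab.pull {E : X.Modules} {a : ℕ} {T₀ T₁ : Over Y} {ξ₀ : Subobject (FGA.ET f E T₀)} (h : Stab f E a T₀ ξ₀)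
    (g : T₁ ⟶ T₀) : Stab f E a T₁ (FGA.quotPull f E g ξ₀) := by
  refine ⟨isQCoh_quotPull f g h.1, fun T' h1 h2 g' => ?_⟩
  exact isRelFinLen_congr (Groth.Agent.Fga.QuotPull.quotPull_comp f E g' g ξ₀) (h.2 T' h1 h2 _)

theorem Piece.stab [IsSeparated f] [QuasiCompact f] {E : X.Modules} (hE : Coh.IsQCoh E) {d : ℕ} {M : Over Y}
    {ξ : Subobject (FGA.ET f E M)} (h : Piece f E d M ξ) : Stab f E d M ξ := by
  refine ⟨h.q, fun T' h1 h2 g => ?_⟩
  obtain ⟨V, W, x, hF⟩ := h.fr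
  have := h.aff
  exact (hF.pull hE h.q g).isRelFinLen hE (isQCoh_quotPull f g h.q) (Fintype.card_fin d)

/-- `u : U ⟶ T₀` as a morphism of `Y`-schemes -/
noncomputable def lf {T₀ : Over Y} {U : Scheme.{u}} (u : U ⟶ T₀.left) : Over.mk (u ≫ T₀.hom) ⟶ T₀ := Over.homMk u rfl

variable {S : ShortComplex X.Modules}

/-- charts over `U` for the pull-back of `(ξ₀, D₀)` -/
def PChart (f : X ⟶ Y) (S : ShortComplex X.Modules) (a b : ℕ) (T₀ : Over Y) (ξ₀ : Subobject (FGA.ET f S.X₁ T₀))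
    (D₀ : (PicF.XT f T₀).IdealSheafData) ⦃U : Scheme.{u}⦄ (u : U ⟶ T₀.left) : Prop :=
  IsAffine U ∧ ∃ (V W : (PicF.XT f (Over.mk (u ≫ T₀.hom))).Opens)
    (x : Fin a → Γ(FGA.ET f S.X₁ (Over.mk (u ≫ T₀.hom)), V)) (y : Γ(FGA.ET f S.X₂ (Over.mk (u ≫ T₀.hom)), V))
    (e : Fin b → Γ(FGA.ET f S.X₃ (Over.mk (u ≫ T₀.hom)), V)),
    Chart f S (Over.mk (u ≫ T₀.hom)) (FGA.quotPull f S.X₁ (lf u) ξ₀) (HilbD.pull f (lf u) D₀) V W x y e

theorem exists_strat (hS : Hyp S) [IsProper f] [SmoothOfRelativeDimension 1 f] (hAF : AFb f)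
    {a b : ℕ} (T₀ : Over Y) [NoetherianSpace T₀.left] [IsLocallyNoetherian T₀.left]
    {ξ₀ : Subobject (FGA.ET f S.X₁ T₀)} (hξ₀ : Stab f S.X₁ a T₀ ξ₀) (D₀ : HilbD.Obj f b T₀) :
    ∃ (ι : Type) (_ : Fintype ι) (U : ι → Scheme.{u}) (m : ∀ i, U i ⟶ T₀.left),
      (∀ i, IsImmersion (m i)) ∧ (∀ i, PChart f S a b T₀ ξ₀ D₀.1 (m i)) ∧ ∀ z, ∃! i, z ∈ Set.range (m i) := by
  refine exists_partition (PChart f S a b T₀ ξ₀ D₀.1) ?_
  intro Z i _ _ O hO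
  obtain ⟨z, hz⟩ := hO
  obtain ⟨O', hO', hzO', hO'O⟩ := exists_aff hz
  let T' : Over Y := Over.mk ((O'.ι ≫ i) ≫ T₀.hom)
  have i1 : IsAffine T'.left := hO'
  have i2 : IsLocallyNoetherian Z := LocallyOfFiniteType.isLocallyNoetherian i
  have i3 : IsNoetherianRing Γ(T'.left, ⊤) := by
    have : IsLocallyNoetherian T'.left := inferInstanceAs (IsLocallyNoetherian O')
    exact IsLocallyNoetherian.component_noetherian ⟨⊤, isAffineOpen_top _⟩
  let g : T' ⟶ T₀ := lf (O'.ι ≫ i)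
  obtain ⟨U, hU, hUa, V, W, x, y, e, h⟩ := ChartEx.exists_chart hS hAF T' (hξ₀.2 T' i1 i3 g)
    (HilbPull.pullObj f g D₀) (⟨z, hzO'⟩ : O')
  have i4 : IsAffine (Over.mk (U.ι ≫ T'.hom) : Over Y).left := hUa
  have i5 : IsAffine (Over.mk (((U.ι ≫ O'.ι) ≫ i) ≫ T₀.hom) : Over Y).left := hUa
  let g' : Over.mk (((U.ι ≫ O'.ι) ≫ i) ≫ T₀.hom) ⟶ Over.mk (U.ι ≫ T'.hom) := Over.homMk (𝟙 _) (by
    simp [T'])
  have h2 := h.pull hS (isQCoh_quotPull f _ (isQCoh_quotPull f g hξ₀.1)) g'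
  have h3 : g' ≫ OverRep.res T' U ≫ g = lf ((U.ι ≫ O'.ι) ≫ i) := by
    ext1
    change 𝟙 _ ≫ U.ι ≫ (O'.ι ≫ i) = (U.ι ≫ O'.ι) ≫ i
    rw [Category.id_comp, Category.assoc]
  have h4 : HilbD.pull f g' (HilbD.pull f (OverRep.res T' U) (HilbPull.pullObj f g D₀).1) =
      HilbD.pull f (lf ((U.ι ≫ O'.ι) ≫ i)) D₀.1 := by
    rw [HilbPull.pullObj_val, ← HilbPull.pull_comp, ← HilbPull.pull_comp]
    exact congrArg (fun t => HilbD.pull f t D₀.1) ((Category.assoc _ _ _).trans h3)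
  have h5 : FGA.quotPull f S.X₁ g' (FGA.quotPull f S.X₁ (OverRep.res T' U) (FGA.quotPull f S.X₁ g ξ₀)) =
      FGA.quotPull f S.X₁ (lf ((U.ι ≫ O'.ι) ≫ i)) ξ₀ := by
    rw [← Groth.Agent.Fga.QuotPull.quotPull_comp, ← Groth.Agent.Fga.QuotPull.quotPull_comp]
    exact congrArg (fun t => FGA.quotPull f S.X₁ t ξ₀) ((Category.assoc _ _ _).trans h3)
  rw [h4, h5] at h2
  refine ⟨U, U.ι ≫ O'.ι, inferInstance, ?_, ⟨(⟨⟨z, hzO'⟩, hU⟩ : U)⟩, hUa, _, _, _, _, _, h2⟩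
  rintro _ ⟨w, rfl⟩
  have h6 : (U.ι ≫ O'.ι) w ∈ O' := by
    rw [Scheme.Hom.comp_apply]
    exact (show O' from U.ι w).2
  exact hO'O h6

end K928.WFam
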